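import Groth.Agent.Lib.Henselian.EssEtale
import Groth.Agent.Lib.Henselian.StrictHenselization
import Groth.Agent.Lib.Henselian.LimProps
import Groth.Agent.Lib.Unram.LocalStandardEtale
import Mathlib.RingTheory.Flat.FaithfullyFlat.Algebra
import Mathlib.RingTheory.Etale.Basic
import Mathlib.RingTheory.Unramified.LocalRing

/-!
# Essentially étale local algebras: criterion, transitivity, stages of strict henselizations

* `of_flat`: local, essentially of finite type, formally unramified and flat ⇒ essentially étale;
* `trans`, `flat`, `isLocalHom`;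
* `flat_of_algHom`: maps between essentially étale local algebras are flat;
* `exists_stage`: a finite subset of a strict henselization lies in an essentially étale local
  subalgebra over which it is faithfully flat.
-/

universe u

open IsLocalRing

namespace Groth.Agent.H24.EssEtale

variable {A B : Type u} [CommRing A] [IsLocalRing A] [CommRing B] [Algebra A B]

theorem isLocalRing (h : EGA4loc.IsEssentiallyEtale A B) : IsLocalRing B := by
  obtain ⟨C, _, _, q, _, -, -, ⟨e⟩⟩ := h
  exact e.symm.toRingEquiv.isLocalRing

/-- The structure map of an essentially étale local algebra is local. -/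
theorem isLocalHom [IsLocalRing B] (h : EGA4loc.IsEssentiallyEtale A B) :
    IsLocalHom (algebraMap A B) := by
  obtain ⟨C, _, _, q, _, -, hq, ⟨e⟩⟩ := h
  refine ⟨fun a ha => ?_⟩
  have h1 : IsUnit (algebraMap A (Localization.AtPrime q) a) := by
    rw [← e.commutes a]; exact ha.map e
  rw [IsScalarTower.algebraMap_apply A C (Localization.AtPrime q),
    IsLocalization.AtPrime.isUnit_to_map_iff (Localization.AtPrime q) q] at h1
  by_contra ha'
  have : a ∈ q.comap (algebraMap A C) := by rw [hq, mem_maximalIdeal]; exact ha'
  exact h1 this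

theorem flat (h : EGA4loc.IsEssentiallyEtale A B) : Module.Flat A B := by
  obtain ⟨C, _, _, q, _, hC, -, ⟨e⟩⟩ := h
  haveI := hC
  haveI : Module.Flat C (Localization.AtPrime q) := IsLocalization.flat _ q.primeCompl
  haveI : Module.Flat A (Localization.AtPrime q) := Module.Flat.trans A C _
  exact Module.Flat.of_linearEquiv e.toLinearEquiv

/-- Local, essentially of finite type, formally unramified and flat algebras are essentially
étale. -/
theorem of_flat [IsLocalRing B] [IsLocalHom (algebraMap A B)] [Algebra.EssFiniteType A B]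
    [Algebra.FormallyUnramified A B] [Module.Flat A B] : EGA4loc.IsEssentiallyEtale A B := by
  obtain ⟨P, q, _, ⟨e⟩⟩ := Lib.Unram.LocalStandardEtale.exists_equiv A B
  refine ⟨P.Ring, inferInstance, inferInstance, q, inferInstance, inferInstance, ?_, ⟨e⟩⟩
  have : IsLocalHom (algebraMap A (Localization.AtPrime q)) := by
    refine ⟨fun a ha => (isUnit_map_iff (algebraMap A B) a).mp ?_⟩
    rw [← e.symm.commutes a]
    exact ha.map e.symm
  ext a
  rw [Ideal.mem_comap, ← IsLocalization.AtPrime.to_map_mem_maximal_iff (Localization.AtPrime q) q,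
    ← IsScalarTower.algebraMap_apply, mem_maximalIdeal, mem_maximalIdeal, mem_nonunits_iff,
    mem_nonunits_iff, isUnit_map_iff]

theorem iff_flat [IsLocalRing B] [IsLocalHom (algebraMap A B)] :
    EGA4loc.IsEssentiallyEtale A B ↔
      Algebra.EssFiniteType A B ∧ Algebra.FormallyUnramified A B ∧ Module.Flat A B := by
  refine ⟨fun h => ?_, fun ⟨_, _, _⟩ => of_flat⟩
  have h' := Lib.Henselian.EssEtale.formallyEtale h
  have := h'.1
  exact ⟨h'.2, inferInstance, flat h⟩

theorem of_algEquiv {B' : Type u} [CommRing B'] [Algebra A B'] (h : EGA4loc.IsEssentiallyEtale A B)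
    (e : B' ≃ₐ[A] B) : EGA4loc.IsEssentiallyEtale A B' := by
  obtain ⟨C, iC, iA, q, iq, hC, hq, ⟨f⟩⟩ := h
  exact ⟨C, iC, iA, q, iq, hC, hq, ⟨e.trans f⟩⟩

/-- Transitivity. -/
theorem trans [IsLocalRing B] {C : Type u} [CommRing C] [Algebra B C] [Algebra A C]
    [IsScalarTower A B C] (hB : EGA4loc.IsEssentiallyEtale A B)
    (hC : EGA4loc.IsEssentiallyEtale B C) : EGA4loc.IsEssentiallyEtale A C := by
  haveI := isLocalRing hC
  haveI := isLocalHom hB
  haveI := isLocalHom hC
  haveI : IsLocalHom (algebraMap A C) := by
    rw [IsScalarTower.algebraMap_eq A B C]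
    exact RingHom.isLocalHom_comp _ _
  obtain ⟨_, _⟩ := Lib.Henselian.EssEtale.formallyEtale hB
  obtain ⟨_, _⟩ := Lib.Henselian.EssEtale.formallyEtale hC
  haveI := flat hB
  haveI := flat hC
  haveI : Algebra.EssFiniteType A C := Algebra.EssFiniteType.comp A B C
  haveI : Algebra.FormallyEtale A C := Algebra.FormallyEtale.comp A B C
  haveI : Module.Flat A C := Module.Flat.trans A B C
  exact of_flat

/-- Any algebra map out of an unramified essentially finite type algebra into a flat one is flat. -/
theorem flat_of_algHom {C : Type u} [CommRing C] [Algebra A C] [Algebra.EssFiniteType A B]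
    [Algebra.FormallyUnramified A B] [Module.Flat A C] (f : B →ₐ[A] C) : f.toRingHom.Flat := by
  letI := f.toRingHom.toAlgebra
  haveI : IsScalarTower A B C := IsScalarTower.of_algebraMap_eq' f.comp_algebraMap.symm
  exact Algebra.FormallyUnramified.flat_of_restrictScalars A B C

/-- A finite subset of a strict henselization lies in an essentially étale local subalgebra, over
which the strict henselization is faithfully flat. -/
theorem exists_stage {S : Type u} [CommRing S] [IsLocalRing S] [Algebra A S]
    [IsLocalHom (algebraMap A S)] [Hensel.IsStrictHenselization A S] (s : Finset S) :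
    ∃ (E : Subalgebra A S) (_ : IsLocalRing E), (s : Set S) ⊆ E ∧ IsLocalHom (algebraMap E S) ∧
      EGA4loc.IsEssentiallyEtale A E ∧ Module.FaithfullyFlat E S := by
  classical
  let e := Lib.Henselian.StrictHenselization.equivOfIsStrictHenselization A S
  obtain ⟨A', _, _, hA', φ, hφ⟩ := Lib.Henselian.Pointed.Lim.exists_etale_range
    (s.image e.symm)
  let ψ : A' →ₐ[A] S := e.toAlgHom.comp φ
  have hψflat : ψ.toRingHom.Flat :=
    (Lib.Henselian.LimProps.flat_of_etale φ).comp (RingHom.Flat.of_bijective e.bijective)
  let q := (maximalIdeal S).comap ψ.toRingHom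
  let L := Localization.AtPrime q
  let g : L →ₐ[A] S := IsLocalization.liftAlgHom (M := q.primeCompl) (f := ψ)
    fun y => notMem_maximalIdeal.mp y.2
  have hg : ∀ x, g (algebraMap A' L x) = ψ x := fun x => IsLocalization.lift_eq _ x
  have hL : EGA4loc.IsEssentiallyEtale A L := by
    refine ⟨A', inferInstance, inferInstance, q, inferInstance, hA', ?_, ⟨AlgEquiv.refl⟩⟩
    ext a
    simp only [q, Ideal.mem_comap, AlgHom.toRingHom_eq_coe, RingHom.coe_coe, AlgHom.commutes,
      mem_maximalIdeal, mem_nonunits_iff, isUnit_map_iff]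
  have hgloc : IsLocalHom g.toRingHom := by
    refine ⟨fun z hz => ?_⟩
    obtain ⟨a, t, rfl⟩ := IsLocalization.exists_mk'_eq q.primeCompl z
    rw [IsLocalization.AtPrime.isUnit_mk'_iff L q]
    intro ha
    have h1 : IsUnit (g (IsLocalization.mk' L a t) * ψ t) := by
      exact hz.mul (notMem_maximalIdeal.mp t.2)
    rw [← hg, ← map_mul, IsLocalization.mk'_spec, hg] at h1
    exact (mem_maximalIdeal _).mp ha h1
  letI := g.toRingHom.toAlgebra
  letI := ψ.toRingHom.toAlgebra
  haveI : IsScalarTower A' L S := IsScalarTower.of_algebraMap_eq fun x => (hg x).symm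
  haveI : Module.Flat A' S := hψflat
  haveI : Module.Flat L S := (Module.flat_iff_of_isLocalization L q.primeCompl S).mpr inferInstance
  haveI : IsLocalHom (algebraMap L S) := hgloc
  haveI hff : Module.FaithfullyFlat L S := Module.FaithfullyFlat.of_flat_of_isLocalHom
  have hinj : Function.Injective g := FaithfulSMul.algebraMap_injective L S
  let E : Subalgebra A S := g.range
  let eE : L ≃ₐ[A] E := AlgEquiv.ofInjective g hinj
  haveI : IsLocalRing E := eE.toRingEquiv.isLocalRing
  refine ⟨E, inferInstance, fun x hx => ?_, ⟨fun z hz => ?_⟩, of_algEquiv hL eE.symm, ?_⟩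
  · obtain ⟨a, ha⟩ := hφ (Finset.mem_coe.mpr (Finset.mem_image_of_mem _ (Finset.mem_coe.mp hx)))
    exact ⟨algebraMap A' L a, by
      show g _ = x
      rw [hg]
      show e (φ a) = x
      rw [ha, e.apply_symm_apply]⟩
  · obtain ⟨w, rfl⟩ := eE.surjective z
    exact (hgloc.map_nonunit w hz).map eE
  · have hinjE : Function.Injective (algebraMap E S) := Subtype.val_injective
    haveI : IsLocalHom (algebraMap E S) := ⟨fun z hz => by
      obtain ⟨w, rfl⟩ := eE.surjective z
      exact (hgloc.map_nonunit w hz).map eE⟩
    have hflatE : (algebraMap E S).Flat := by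
      have : algebraMap E S = g.toRingHom.comp eE.symm.toAlgHom.toRingHom := by
        refine RingHom.ext fun z => ?_
        obtain ⟨w, rfl⟩ := eE.surjective z
        show (eE w : S) = g (eE.symm (eE w))
        rw [AlgEquiv.symm_apply_apply]
        rfl
      rw [this]
      exact (RingHom.Flat.of_bijective eE.symm.bijective).comp (‹Module.Flat L S› : g.toRingHom.Flat)
    haveI : Module.Flat E S := RingHom.flat_algebraMap_iff.mp hflatE
    exact Module.FaithfullyFlat.of_flat_of_isLocalHom

end Groth.Agent.H24.EssEtale
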