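import Groth.Agent.H24.EssEtale.Sub
import Groth.Agent.S9622
import Groth.Agent.Lib.LocalFlat.Criterion
import Mathlib.RingTheory.Localization.Submodule
import Mathlib.RingTheory.Unramified.Finite
import Mathlib.RingTheory.LinearDisjoint

/-!
# Descent along faithfully flat dominating stages

* `flat_stage`: a Noetherian subalgebra `D` of a stage with `m D = m_D` has a flat stage over it;
* `locSub`: localized finitely generated subalgebras;
* `exists_eq_of_flat`: then `D` is essentially of finite type if its fractions are finitely generated.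
-/

universe u

open IsLocalRing
open scoped nonZeroDivisors TensorProduct

namespace Groth.Agent.H24.EssEtale.Descent

/-- Reduction modulo an ideal of a flat module is flat over the quotient. -/
theorem flat_quotient {R M : Type u} [CommRing R] [AddCommGroup M] [Module R M] [Module.Flat R M]
    (I : Ideal R) : Module.Flat (R ⧸ I) (M ⧸ (I • ⊤ : Submodule R M)) :=
  Module.Flat.of_linearEquiv (R := R ⧸ I)
    ((TensorProduct.quotTensorEquivQuotSMul M I).extendScalarsOfSurjective
      Ideal.Quotient.mk_surjective).symm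

theorem flat_stage {A D E : Type u} [CommRing A] [IsLocalRing A] [IsNoetherianRing A]
    [CommRing D] [IsLocalRing D] [IsNoetherianRing D] [Algebra A D]
    [CommRing E] [IsLocalRing E] [Algebra A E] [Algebra D E] [IsScalarTower A D E]
    [IsLocalHom (algebraMap D E)] (hE : EGA4loc.IsEssentiallyEtale A E)
    (hm : (maximalIdeal A).map (algebraMap A D) = maximalIdeal D) : Module.Flat D E := by
  classical
  haveI := isLocalHom hE
  obtain ⟨_, _⟩ := Lib.Henselian.EssEtale.formallyEtale hE
  haveI := flat hE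
  haveI : IsNoetherianRing E := Algebra.EssFiniteType.isNoetherianRing A E
  have hmE : (maximalIdeal D).map (algebraMap D E) = maximalIdeal E := by
    rw [← hm, Ideal.map_map, ← IsScalarTower.algebraMap_eq A D E]
    exact Lib.Henselian.EssEtale.map_maximalIdeal hE
  refine Lib.LocalFlat.Criterion.flat_of_flat_quotient_pow E (maximalIdeal D) ?_ fun n => ?_
  · rw [hmE]; exact maximalIdeal_le_jacobson _
  rcases Nat.eq_zero_or_pos n with rfl | hn
  · haveI : Subsingleton (D ⧸ maximalIdeal D ^ 0) := by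
      rw [Ideal.Quotient.subsingleton_iff, pow_zero, Ideal.one_eq_top]
    infer_instance
  let I := maximalIdeal A ^ n
  have hI : maximalIdeal D ^ n = I.map (algebraMap A D) := by rw [Ideal.map_pow, hm]
  let Q := D ⧸ I.map (algebraMap A D)
  let F := E ⧸ (I.map (algebraMap A D)).map (algebraMap D E)
  have hne : I.map (algebraMap A D) ≠ ⊤ := by
    rw [← hI]
    exact fun h => (maximalIdeal.isMaximal D).ne_top
      (top_le_iff.mp (h.symm.trans_le (Ideal.pow_le_self hn.ne')))
  have hneF : (I.map (algebraMap A D)).map (algebraMap D E) ≠ ⊤ := by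
    rw [← hI, Ideal.map_pow, hmE]
    exact fun h => (maximalIdeal.isMaximal E).ne_top
      (top_le_iff.mp (h.symm.trans_le (Ideal.pow_le_self hn.ne')))
  haveI : Nontrivial Q := Ideal.Quotient.nontrivial_iff.mpr hne
  haveI : Nontrivial F := Ideal.Quotient.nontrivial_iff.mpr hneF
  haveI : IsLocalRing Q := IsLocalRing.of_surjective' _ Ideal.Quotient.mk_surjective
  haveI : IsLocalRing F := IsLocalRing.of_surjective' _ Ideal.Quotient.mk_surjective
  letI : Algebra Q F := (Ideal.quotientMap _ (algebraMap D E) Ideal.le_comap_map).toAlgebra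
  haveI : IsScalarTower A Q F := IsScalarTower.of_algebraMap_eq fun a => by
    show _ = Ideal.quotientMap _ (algebraMap D E) _ (Ideal.Quotient.mk _ (algebraMap A D a))
    rw [Ideal.quotientMap_mk, ← IsScalarTower.algebraMap_apply]
    rfl
  haveI hAQ : IsLocalHom (algebraMap A Q) := by
    refine ((local_hom_TFAE (algebraMap A Q)).out 0 2).mpr ?_
    rw [IsScalarTower.algebraMap_eq A D Q, ← Ideal.map_map, hm]
    exact (map_maximalIdeal_of_surjective _ Ideal.Quotient.mk_surjective).le
  have hmQ : (maximalIdeal A).map (algebraMap A Q) = maximalIdeal Q := by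
    rw [IsScalarTower.algebraMap_eq A D Q, ← Ideal.map_map, hm]
    exact map_maximalIdeal_of_surjective _ Ideal.Quotient.mk_surjective
  haveI : IsLocalHom (algebraMap Q F) := by
    refine ((local_hom_TFAE (algebraMap Q F)).out 0 2).mpr ?_
    have h1 : (maximalIdeal Q).map (algebraMap Q F) = (maximalIdeal A).map (algebraMap A F) := by
      refine (congrArg (Ideal.map (algebraMap Q F)) hmQ.symm).trans ((Ideal.map_map _ _).trans ?_)
      exact congrArg (Ideal.map · (maximalIdeal A)) (IsScalarTower.algebraMap_eq A Q F).symm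
    have h2 : (maximalIdeal A).map (algebraMap A F) =
        ((maximalIdeal A).map (algebraMap A E)).map (Ideal.Quotient.mk _) :=
      (Ideal.map_map (algebraMap A E) (Ideal.Quotient.mk _) (I := maximalIdeal A)).symm
    rw [h1, h2]
    refine le_trans (Ideal.map_mono (map_maximalIdeal_le _)) ?_
    exact (map_maximalIdeal_of_surjective _ Ideal.Quotient.mk_surjective).le
  haveI : IsLocalHom (algebraMap A F) := by
    rw [IsScalarTower.algebraMap_eq A Q F]; exact RingHom.isLocalHom_comp _ _
  haveI : Algebra.FormallyUnramified E F :=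
    Algebra.FormallyUnramified.of_surjective (Algebra.ofId E F) Ideal.Quotient.mk_surjective
  haveI : Algebra.FormallyUnramified A F := Algebra.FormallyUnramified.comp A E F
  haveI : Algebra.EssFiniteType A F :=
    Algebra.EssFiniteType.of_surjective (IsScalarTower.toAlgHom A E F) Ideal.Quotient.mk_surjective
  haveI : IsArtinianRing Q := (isArtinianRing_iff_isNilpotent_maximalIdeal Q).mpr ⟨n, by
    rw [← map_maximalIdeal_of_surjective (Ideal.Quotient.mk (I.map (algebraMap A D)))
      Ideal.Quotient.mk_surjective, ← Ideal.map_pow, hI, Ideal.map_quotient_self]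
    rfl⟩
  haveI : Module.Finite (ResidueField A) (ResidueField F) := inferInstance
  haveI : Algebra.IsSeparable (ResidueField A) (ResidueField Q) :=
    Algebra.isSeparable_tower_bot_of_isSeparable (ResidueField A) (ResidueField Q) (ResidueField F)
  haveI : Module.Finite (ResidueField A) (ResidueField Q) :=
    Module.Finite.of_injective
      (IsScalarTower.toAlgHom (ResidueField A) (ResidueField Q) (ResidueField F)).toLinearMap
      (algebraMap (ResidueField Q) (ResidueField F)).injective
  haveI : Module.Finite A (ResidueField Q) := Module.Finite.trans (ResidueField A) _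
  haveI : Module.Finite A Q := (S9622.result.1).mpr this
  haveI : Algebra.EssFiniteType A Q := inferInstance
  haveI : Algebra.FormallyUnramified A Q :=
    Lib.Unram.LocalStandardEtale.formallyUnramified_of_isSeparable A Q hmQ
  haveI hAI : Module.Flat (A ⧸ I) (E ⧸ (I • ⊤ : Submodule A E)) := flat_quotient I
  letI : Algebra (A ⧸ I) Q :=
    (Ideal.quotientMap _ (algebraMap A D) Ideal.le_comap_map).toAlgebra
  haveI : IsScalarTower A (A ⧸ I) Q := IsScalarTower.of_algebraMap_eq fun a => rfl
  letI : Algebra (A ⧸ I) F := ((algebraMap Q F).comp (algebraMap (A ⧸ I) Q)).toAlgebra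
  haveI : IsScalarTower (A ⧸ I) Q F := IsScalarTower.of_algebraMap_eq fun a => rfl
  haveI : IsScalarTower A (A ⧸ I) F := IsScalarTower.of_algebraMap_eq fun a =>
    IsScalarTower.algebraMap_apply A Q F a
  have hsub : ((I • ⊤ : Submodule A E)) =
      ((I.map (algebraMap A D)).map (algebraMap D E)).restrictScalars A := by
    rw [Ideal.smul_top_eq_map, Ideal.map_map, ← IsScalarTower.algebraMap_eq A D E]
  haveI : Module.Flat (A ⧸ I) F :=
    Module.Flat.of_linearEquiv (LinearEquiv.extendScalarsOfSurjective (R := A) (S := A ⧸ I)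
      Ideal.Quotient.mk_surjective
      (((Submodule.quotEquivOfEq _ _ hsub).trans
        (Submodule.Quotient.restrictScalarsEquiv A _)).symm))
  haveI : Algebra.EssFiniteType (A ⧸ I) Q := Algebra.EssFiniteType.of_comp A (A ⧸ I) Q
  haveI : Algebra.FormallyUnramified (A ⧸ I) Q :=
    Algebra.FormallyUnramified.of_restrictScalars A (A ⧸ I) Q
  haveI : Module.Flat Q F := Algebra.FormallyUnramified.flat_of_restrictScalars (A ⧸ I) Q F
  rw [hI]
  have hsub' : (I.map (algebraMap A D) • ⊤ : Submodule D E) =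
      ((I.map (algebraMap A D)).map (algebraMap D E)).restrictScalars D := Ideal.smul_top_eq_map _
  haveI : IsScalarTower D Q F := IsScalarTower.of_algebraMap_eq fun d => by
    show _ = Ideal.quotientMap _ (algebraMap D E) _ (Ideal.Quotient.mk _ d)
    rw [Ideal.quotientMap_mk]
    rfl
  exact Module.Flat.of_linearEquiv (R := Q) (LinearEquiv.extendScalarsOfSurjective (R := D) (S := Q)
    Ideal.Quotient.mk_surjective
    ((TensorProduct.quotTensorEquivQuotSMul E _).trans
      ((Submodule.quotEquivOfEq _ _ hsub').trans (Submodule.Quotient.restrictScalarsEquiv D _))))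

section LocSub

variable {A : Type u} [CommRing A] {D : Type u} [CommRing D] [Algebra A D] (s : Set D)

/-- The elements which are fractions with denominators units of `D` of elements of `A[s]`. -/
def locSub : Subalgebra A D where
  carrier := {x | ∃ t ∈ Algebra.adjoin A s, IsUnit t ∧ x * t ∈ Algebra.adjoin A s}
  mul_mem' := by
    rintro x y ⟨t, ht, htu, hx⟩ ⟨t', ht', htu', hy⟩
    refine ⟨t * t', mul_mem ht ht', htu.mul htu', ?_⟩
    rw [show x * y * (t * t') = (x * t) * (y * t') by ring]
    exact mul_mem hx hy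
  add_mem' := by
    rintro x y ⟨t, ht, htu, hx⟩ ⟨t', ht', htu', hy⟩
    refine ⟨t * t', mul_mem ht ht', htu.mul htu', ?_⟩
    rw [show (x + y) * (t * t') = (x * t) * t' + (y * t') * t by ring]
    exact add_mem (mul_mem hx ht') (mul_mem hy ht)
  algebraMap_mem' r := ⟨1, one_mem _, isUnit_one, by rw [mul_one]; exact Subalgebra.algebraMap_mem _ r⟩

theorem adjoin_le_locSub : Algebra.adjoin A s ≤ locSub s := fun x hx =>
  ⟨1, one_mem _, isUnit_one, by rwa [mul_one]⟩

theorem isUnit_locSub {x : locSub (A := A) s} (h : IsUnit (x : D)) : IsUnit x := by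
  obtain ⟨t, ht, htu, hxt⟩ := x.2
  obtain ⟨v, hv⟩ := h.exists_right_inv
  have hmem : v ∈ locSub (A := A) s := by
    refine ⟨(x : D) * t, hxt, h.mul htu, ?_⟩
    rw [← mul_assoc, mul_comm v (x : D), hv, one_mul]
    exact ht
  exact isUnit_iff_exists_inv.mpr ⟨⟨v, hmem⟩, Subtype.ext hv⟩

theorem isLocalHom_locSub : IsLocalHom (algebraMap (locSub (A := A) s) D) :=
  ⟨fun _ h => isUnit_locSub s h⟩

theorem isLocalRing_locSub [IsLocalRing D] : IsLocalRing (locSub (A := A) s) :=
  haveI := isLocalHom_locSub (A := A) s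
  RingHom.domain_isLocalRing (algebraMap (locSub (A := A) s) D)

theorem essFiniteType_locSub (T : Finset D) :
    Algebra.EssFiniteType A (locSub (A := A) (T : Set D)) := by
  classical
  rw [Algebra.essFiniteType_iff]
  refine ⟨T.attach.image fun (x : {x // x ∈ T}) => (⟨(x : D), adjoin_le_locSub _ (Algebra.subset_adjoin x.2)⟩ :
    locSub (A := A) (T : Set D)), fun x => ?_⟩
  obtain ⟨t, ht, htu, hxt⟩ := x.2
  have hlift : ∀ y (hy : y ∈ Algebra.adjoin A (T : Set D)),
      (⟨y, adjoin_le_locSub _ hy⟩ : locSub (A := A) (T : Set D)) ∈ Algebra.adjoin A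
        ((T.attach.image fun (x : {x // x ∈ T}) => (⟨(x : D), adjoin_le_locSub _ (Algebra.subset_adjoin x.2)⟩ :
          locSub (A := A) (T : Set D)) : Finset _) : Set (locSub (A := A) (T : Set D))) := by
    intro y hy
    induction hy using Algebra.adjoin_induction with
    | mem z hz => exact Algebra.subset_adjoin (Finset.mem_coe.mpr
        (Finset.mem_image.mpr ⟨⟨z, hz⟩, Finset.mem_attach _ _, rfl⟩))
    | algebraMap r => exact Subalgebra.algebraMap_mem _ r
    | add y z _ _ hy hz => exact add_mem hy hz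
    | mul y z _ _ hy hz => exact mul_mem hy hz
  exact ⟨⟨t, adjoin_le_locSub _ ht⟩, hlift t ht, isUnit_locSub _ htu, hlift _ hxt⟩

theorem locSub_mono {s' : Set D} (h : s ⊆ s') : locSub (A := A) s ≤ locSub s' :=
  fun _ ⟨t, ht, htu, hxt⟩ => ⟨t, Algebra.adjoin_mono h ht, htu, Algebra.adjoin_mono h hxt⟩

end LocSub

section Denominator

variable {D₁ : Type u} (D : Type u) {P E : Type u} [CommRing D₁] [CommRing D] [CommRing P]
  [CommRing E] [Algebra D₁ D] [Algebra D₁ P] [Algebra D E] [Algebra D₁ E] [IsScalarTower D₁ D E]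

/-- The map `D ⊗ P → E` induced by `ψ`. -/
noncomputable def piMap (ψ : P →ₐ[D₁] E) : D ⊗[D₁] P →ₐ[D] E :=
  Algebra.TensorProduct.lift (Algebra.ofId D E) ψ (fun _ _ => .all _ _)

theorem piMap_tmul (ψ : P →ₐ[D₁] E) (d : D) (p : P) :
    piMap D ψ (d ⊗ₜ[D₁] p) = algebraMap D E d * ψ p := rfl

end Denominator

/-- One denominator kills the kernel of an étale algebra mapping to a flat formally unramified
stage. -/
theorem exists_denominator {R P E : Type u} [CommRing R] [IsLocalRing R] [IsNoetherianRing R]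
    [CommRing P] [Algebra R P] [Algebra.Etale R P] [CommRing E] [IsLocalRing E] [Algebra R E]
    [Module.Flat R E] (π : P →ₐ[R] E) :
    ∃ σ : P, IsUnit (π σ) ∧ ∀ z, π z = 0 → σ * z = 0 := by
  classical
  haveI : IsNoetherianRing P := Algebra.FiniteType.isNoetherianRing R P
  let 𝔔 := (maximalIdeal E).comap π.toRingHom
  let g : Localization.AtPrime 𝔔 →ₐ[R] E := IsLocalization.liftAlgHom (M := 𝔔.primeCompl) (f := π)
    fun y => notMem_maximalIdeal.mp y.2
  have hg : ∀ z, g (algebraMap P _ z) = π z := fun z => IsLocalization.lift_eq _ z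
  have hgloc : IsLocalHom g.toRingHom := by
    refine ⟨fun z hz => ?_⟩
    obtain ⟨a, t, rfl⟩ := IsLocalization.exists_mk'_eq 𝔔.primeCompl z
    rw [IsLocalization.AtPrime.isUnit_mk'_iff (Localization.AtPrime 𝔔) 𝔔]
    intro ha
    have h1 : IsUnit (g (IsLocalization.mk' _ a t) * π t) :=
      hz.mul (notMem_maximalIdeal.mp t.2)
    rw [← hg, ← map_mul, IsLocalization.mk'_spec, hg] at h1
    exact (mem_maximalIdeal _).mp ha h1
  haveI : Algebra.FormallyUnramified P (Localization.AtPrime 𝔔) :=
    Algebra.FormallyUnramified.of_isLocalization 𝔔.primeCompl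
  haveI : Algebra.FormallyUnramified R (Localization.AtPrime 𝔔) :=
    Algebra.FormallyUnramified.comp R P _
  haveI : Algebra.EssFiniteType R (Localization.AtPrime 𝔔) := .comp R P _
  have hgflat := flat_of_algHom g
  have hginj : Function.Injective g := by
    letI : Algebra (Localization.AtPrime 𝔔) E := g.toRingHom.toAlgebra
    haveI : Module.Flat (Localization.AtPrime 𝔔) E := hgflat
    haveI : IsLocalHom (algebraMap (Localization.AtPrime 𝔔) E) := hgloc
    haveI : Module.FaithfullyFlat (Localization.AtPrime 𝔔) E :=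
      Module.FaithfullyFlat.of_flat_of_isLocalHom
    exact FaithfulSMul.algebraMap_injective (Localization.AtPrime 𝔔) E
  have h1 : ∀ z, π z = 0 → ∃ σ : P, IsUnit (π σ) ∧ σ * z = 0 := fun z hz => by
    have h0 : algebraMap P (Localization.AtPrime 𝔔) z = 0 :=
      hginj (by rw [hg, hz, map_zero])
    obtain ⟨⟨c, hc⟩, hc0⟩ := (IsLocalization.map_eq_zero_iff 𝔔.primeCompl _ z).mp h0
    exact ⟨c, notMem_maximalIdeal.mp hc, hc0⟩
  obtain ⟨G, hG⟩ := IsNoetherian.noetherian (RingHom.ker π.toRingHom)
  have hG' : ∀ z ∈ G, π z = 0 := fun z hz => RingHom.mem_ker.mp (hG ▸ Submodule.subset_span hz :)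
  choose! σ hσ hσ' using h1
  refine ⟨∏ z ∈ G, σ z, ?_, fun z hz => ?_⟩
  · rw [map_prod]; exact IsUnit.prod_iff.mpr fun z hz => hσ z (hG' z hz)
  · have hmem : z ∈ Submodule.span P (G : Set P) := hG.symm ▸ RingHom.mem_ker.mpr hz
    clear hz
    induction hmem using Submodule.span_induction with
    | mem w hw =>
      rw [← Finset.prod_erase_mul G σ hw, mul_assoc, hσ' w (hG' w hw), mul_zero]
    | zero => exact mul_zero _
    | add u v hu hv ihu ihv => rw [mul_add, ihu, ihv, zero_add]
    | smul c u hu ihu => rw [smul_eq_mul, mul_left_comm, ihu, mul_zero]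

/-- If the denominator killing the kernel over `D` is defined over `D₂ ⊆ D`, then `E` is flat over
`D₂`. -/
theorem flat_of_denominator {D₁ D₂ D P E : Type u} [CommRing D₁] [CommRing D₂] [CommRing D]
    [CommRing P] [CommRing E] [IsLocalRing E] [Algebra D₁ D₂] [Algebra D₁ D] [Algebra D₂ D]
    [IsScalarTower D₁ D₂ D] [Algebra D₁ P] [Module.Flat D₁ P] [Algebra D₁ E] [Algebra D₂ E]
    [Algebra D E] [IsScalarTower D₁ D E] [IsScalarTower D₁ D₂ E] [IsScalarTower D₂ D E]
    (hinj : Function.Injective (algebraMap D₂ D)) (ψ : P →ₐ[D₁] E)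
    (hsurj : ∀ e : E, ∃ a t : P, IsUnit (ψ t) ∧ e * ψ t = ψ a) (σ₂ : D₂ ⊗[D₁] P)
    (hσu : IsUnit (piMap D₂ ψ σ₂))
    (hσ : ∀ z : D ⊗[D₁] P, piMap D ψ z = 0 →
      Algebra.TensorProduct.map (IsScalarTower.toAlgHom D₁ D₂ D) (AlgHom.id D₁ P) σ₂ * z = 0) :
    Module.Flat D₂ E := by
  let j := Algebra.TensorProduct.map (IsScalarTower.toAlgHom D₁ D₂ D) (AlgHom.id D₁ P)
  have hj : Function.Injective j :=
    Module.Flat.rTensor_preserves_injective_linearMap (M := P)
      (IsScalarTower.toAlgHom D₁ D₂ D).toLinearMap hinj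
  have hπj : ∀ z, piMap D ψ (j z) = piMap D₂ ψ z := by
    intro z
    induction z using TensorProduct.induction_on with
    | zero => rw [map_zero, map_zero, map_zero]
    | tmul d p =>
      simp only [j, Algebra.TensorProduct.map_tmul, piMap_tmul, IsScalarTower.coe_toAlgHom',
        AlgHom.id_apply, IsScalarTower.algebraMap_apply D₂ D E]
    | add u v hu hv => rw [map_add, map_add, map_add, hu, hv]
  let 𝔮 := (maximalIdeal E).comap (piMap D₂ ψ).toRingHom
  let g : Localization.AtPrime 𝔮 →ₐ[D₂] E := IsLocalization.liftAlgHom (M := 𝔮.primeCompl)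
    (f := piMap D₂ ψ) fun y => notMem_maximalIdeal.mp y.2
  have hg : ∀ z, g (algebraMap _ (Localization.AtPrime 𝔮) z) = piMap D₂ ψ z :=
    fun z => IsLocalization.lift_eq _ z
  have hbij : Function.Bijective g := by
    refine ⟨(injective_iff_map_eq_zero g.toRingHom).mpr fun z hz => ?_, fun e => ?_⟩
    · obtain ⟨a, t, rfl⟩ := IsLocalization.exists_mk'_eq 𝔮.primeCompl z
      have hz' : g (IsLocalization.mk' (Localization.AtPrime 𝔮) a t) = 0 := hz
      have ha : piMap D₂ ψ a = 0 := by
        rw [← hg, ← IsLocalization.mk'_spec (Localization.AtPrime 𝔮) a t, map_mul, hz', zero_mul]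
      rw [IsLocalization.mk'_eq_zero_iff]
      refine ⟨⟨σ₂, notMem_maximalIdeal.mpr hσu⟩, hj ?_⟩
      rw [map_zero, map_mul]
      exact hσ _ ((hπj a).trans ha)
    · obtain ⟨a, t, ht, hat⟩ := hsurj e
      have ht' : piMap D₂ ψ ((1 : D₂) ⊗ₜ[D₁] t) = ψ t := by rw [piMap_tmul, map_one, one_mul]
      have ha' : piMap D₂ ψ ((1 : D₂) ⊗ₜ[D₁] a) = ψ a := by rw [piMap_tmul, map_one, one_mul]
      let w : 𝔮.primeCompl := ⟨(1 : D₂) ⊗ₜ[D₁] t, notMem_maximalIdeal.mpr (ht'.symm ▸ ht)⟩
      refine ⟨IsLocalization.mk' (Localization.AtPrime 𝔮) ((1 : D₂) ⊗ₜ[D₁] a) w, ?_⟩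
      apply ht.mul_right_cancel
      rw [hat, ← ht', ← ha', ← hg, ← hg, ← map_mul]
      exact congrArg g (IsLocalization.mk'_spec (Localization.AtPrime 𝔮) _ w)
  haveI : Module.Flat D₂ (Localization.AtPrime 𝔮) := Module.Flat.trans D₂ (D₂ ⊗[D₁] P) _
  exact Module.Flat.of_linearEquiv (AlgEquiv.ofBijective g hbij).symm.toLinearEquiv

/-- A finite set of elements of `D` over which the denominator killing the kernel is defined. -/
theorem exists_finset_flat {D₁ D P E : Type u} [CommRing D₁] [CommRing D] [IsLocalRing D]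
    [IsNoetherianRing D] [CommRing P] [CommRing E] [IsLocalRing E] [Algebra D₁ D] [Algebra D₁ P]
    [Algebra.Etale D₁ P] [Algebra D₁ E] [Algebra D E] [IsScalarTower D₁ D E] [Module.Flat D E]
    (ψ : P →ₐ[D₁] E) (hsurj : ∀ e : E, ∃ a t : P, IsUnit (ψ t) ∧ e * ψ t = ψ a) :
    ∃ T : Finset D, ∀ (D₂ : Type u) [CommRing D₂] [Algebra D₁ D₂] [Algebra D₂ D] [Algebra D₂ E]
      [IsScalarTower D₁ D₂ D] [IsScalarTower D₁ D₂ E] [IsScalarTower D₂ D E],
      Function.Injective (algebraMap D₂ D) → (∀ x ∈ T, x ∈ Set.range (algebraMap D₂ D)) →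
        Module.Flat D₂ E := by
  classical
  obtain ⟨σ, hσu, hσ⟩ := exists_denominator (R := D) (piMap D ψ)
  obtain ⟨S', hS'⟩ := TensorProduct.exists_finset σ
  refine ⟨S'.image fun p => p.1, fun D₂ _ _ _ _ _ _ _ hinj hT => ?_⟩
  have hd : ∀ p ∈ S', ∃ d : D₂, algebraMap D₂ D d = p.1 := fun p hp =>
    hT _ (Finset.mem_image_of_mem _ hp)
  choose! d hd using hd
  obtain ⟨σ₂, hσ₂⟩ : ∃ σ₂, Algebra.TensorProduct.map (IsScalarTower.toAlgHom D₁ D₂ D)
      (AlgHom.id D₁ P) σ₂ = σ := by
    refine ⟨∑ p ∈ S', d p ⊗ₜ[D₁] p.2, ?_⟩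
    rw [map_sum, hS']
    refine Finset.sum_congr rfl fun p hp => ?_
    rw [Algebra.TensorProduct.map_tmul, IsScalarTower.coe_toAlgHom', hd p hp, AlgHom.id_apply]
  have hπ : piMap D₂ ψ σ₂ = piMap D ψ σ := by
    rw [← hσ₂]
    clear hσ₂
    induction σ₂ using TensorProduct.induction_on with
    | zero => rw [map_zero, map_zero, map_zero]
    | tmul d p =>
      rw [Algebra.TensorProduct.map_tmul, piMap_tmul, piMap_tmul, IsScalarTower.coe_toAlgHom',
        AlgHom.id_apply, ← IsScalarTower.algebraMap_apply D₂ D E]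
    | add u v hu hv => rw [map_add, map_add, map_add, hu, hv]
  exact flat_of_denominator (D := D) hinj ψ hsurj σ₂ (hπ ▸ hσu) (hσ₂.symm ▸ hσ)

/-- A subalgebra containing the generators up to denominators, with a faithfully flat stage, is
everything. -/
theorem eq_top_of_faithfullyFlat {A D E : Type u} [CommRing A] [IsLocalRing A] [CommRing D]
    [Algebra A D] [CommRing E] [IsLocalRing E] [Algebra A E] [Module.Flat A E] [Algebra D E]
    [IsScalarTower A D E] (D₂ : Subalgebra A D) [Module.FaithfullyFlat D₂ E]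
    (hDE : Function.Injective (algebraMap D E)) {T : Set D} (hT₂ : Algebra.adjoin A T ≤ D₂)
    (hT : ∀ x : D, ∃ a ∈ A⁰, algebraMap A D a * x ∈ Algebra.adjoin A T) : D₂ = ⊤ := by
  rw [eq_top_iff]
  intro x _
  obtain ⟨a, ha, hax⟩ := hT x
  have hmem : algebraMap A D a * x ∈ D₂ := hT₂ hax
  have hD : ∀ y : D₂, algebraMap D₂ E y = algebraMap D E y.1 := fun y => rfl
  have hcom : (⟨_, hmem⟩ : D₂) ∈ Ideal.comap (algebraMap D₂ E)
      ((Ideal.span {algebraMap A D₂ a}).map (algebraMap D₂ E)) := by
    rw [Ideal.mem_comap, Ideal.map_span, Set.image_singleton]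
    refine Ideal.mem_span_singleton'.mpr ⟨algebraMap D E x, ?_⟩
    rw [hD, hD, map_mul, mul_comm]
    rfl
  rw [Ideal.comap_map_eq_self_of_faithfullyFlat, Ideal.mem_span_singleton'] at hcom
  obtain ⟨y, hy⟩ := hcom
  have hy' : (y : D) * algebraMap A D a = algebraMap A D a * x := congrArg Subtype.val hy
  have : x = (y : D) := by
    apply hDE
    refine sub_eq_zero.mp ((mul_right_mem_nonZeroDivisors_eq_zero_iff
      (Fractions.algebraMap_mem_nonZeroDivisors A E ha)).mp ?_)
    rw [sub_mul, IsScalarTower.algebraMap_apply A D E a, ← map_mul, ← map_mul, hy', mul_comm x,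
      sub_self]
  rw [this]
  exact y.2

/-- If a faithfully flat stage lies over `D`, then `D` is essentially of finite type as soon as it is
generated up to denominators in `A⁰` by finitely many elements. -/
theorem essFiniteType_of_flat {A D E : Type u} [CommRing A] [IsLocalRing A] [CommRing D]
    [IsLocalRing D] [IsNoetherianRing D] [Algebra A D] [CommRing E] [IsLocalRing E] [Algebra A E]
    [Algebra D E] [IsScalarTower A D E] [IsLocalHom (algebraMap D E)] [Module.Flat D E]
    (hE : EGA4loc.IsEssentiallyEtale A E) (T : Finset D)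
    (hT : ∀ x : D, ∃ a ∈ A⁰, algebraMap A D a * x ∈ Algebra.adjoin A (T : Set D)) :
    Algebra.EssFiniteType A D := by
  classical
  obtain ⟨_, _⟩ := Lib.Henselian.EssEtale.formallyEtale hE
  haveI := flat hE
  let D₁ := locSub (A := A) (T : Set D)
  haveI := isLocalRing_locSub (A := A) (T : Set D)
  haveI := isLocalHom_locSub (A := A) (T : Set D)
  haveI : IsScalarTower D₁ D E := IsScalarTower.of_algebraMap_eq' rfl
  haveI : IsScalarTower A D₁ E := IsScalarTower.of_algebraMap_eq fun a =>
    IsScalarTower.algebraMap_apply A D E a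
  haveI : IsLocalHom (algebraMap D₁ E) := by
    rw [IsScalarTower.algebraMap_eq D₁ D E]; exact RingHom.isLocalHom_comp _ _
  haveI : Algebra.EssFiniteType D₁ E := Algebra.EssFiniteType.of_comp A D₁ E
  haveI : Algebra.FormallyUnramified D₁ E := Algebra.FormallyUnramified.of_restrictScalars A D₁ E
  obtain ⟨P, q, _, Ψ, hΨ, -⟩ := Lib.Unram.LocalStandardEtale.exists_surjection D₁ E
  obtain ⟨T', hT'⟩ := exists_finset_flat (D := D)
    (Ψ.comp (IsScalarTower.toAlgHom D₁ P.Ring _)) (fun e => by
      obtain ⟨l, rfl⟩ := hΨ e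
      obtain ⟨a, t, rfl⟩ := IsLocalization.exists_mk'_eq q.primeCompl l
      refine ⟨a, t, (IsLocalization.map_units (Localization.AtPrime q) t).map Ψ, ?_⟩
      exact (map_mul Ψ _ _).symm.trans (congrArg Ψ (IsLocalization.mk'_spec _ a t)))
  obtain ⟨D₂, hadj, h12, hess, hunit⟩ : ∃ D₂ : Subalgebra A D,
      Algebra.adjoin A ((T ∪ T' : Finset D) : Set D) ≤ D₂ ∧ D₁ ≤ D₂ ∧ Algebra.EssFiniteType A D₂ ∧
        ∀ x : D₂, IsUnit (x : D) → IsUnit x :=
    ⟨_, adjoin_le_locSub _, locSub_mono _ (by simp), essFiniteType_locSub _,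
      fun _ => isUnit_locSub _⟩
  haveI : IsLocalHom (algebraMap D₂ D) := ⟨fun y hy => hunit y hy⟩
  haveI : IsLocalRing D₂ := RingHom.domain_isLocalRing (algebraMap D₂ D)
  letI : Algebra D₁ D₂ := (Subalgebra.inclusion h12).toRingHom.toAlgebra
  haveI : IsScalarTower D₁ D₂ D := IsScalarTower.of_algebraMap_eq fun x => rfl
  haveI : IsScalarTower D₂ D E := IsScalarTower.of_algebraMap_eq' rfl
  haveI : IsScalarTower D₁ D₂ E := IsScalarTower.of_algebraMap_eq fun x => rfl
  haveI : Module.Flat D₂ E := hT' D₂ Subtype.val_injective fun x hx =>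
    ⟨⟨x, hadj (Algebra.subset_adjoin (Finset.mem_coe.mpr (Finset.mem_union_right _ hx)))⟩, rfl⟩
  haveI : IsLocalHom (algebraMap D₂ E) :=
    ⟨fun y hy => hunit y (isUnit_of_map_unit (algebraMap D E) _ hy)⟩
  haveI : Module.FaithfullyFlat D₂ E := Module.FaithfullyFlat.of_flat_of_isLocalHom
  haveI : Module.FaithfullyFlat D E := Module.FaithfullyFlat.of_flat_of_isLocalHom
  have htop : D₂ = ⊤ := eq_top_of_faithfullyFlat D₂ (FaithfulSMul.algebraMap_injective D E)
    ((Algebra.adjoin_mono (by simp)).trans hadj) hT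
  exact Algebra.EssFiniteType.of_surjective D₂.val fun x => ⟨⟨x, htop ▸ Algebra.mem_top⟩, rfl⟩

end Groth.Agent.H24.EssEtale.Descent
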