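import Groth.Agent.H24.EssEtale.Basic
import Mathlib.RingTheory.QuasiFinite.Basic
import Mathlib.RingTheory.Unramified.LocalStructure
import Mathlib.RingTheory.Artinian.Ring
import Mathlib.RingTheory.Ideal.MinimalPrime.Localization
import Mathlib.RingTheory.Ideal.Operations
import Mathlib.RingTheory.Localization.FractionRing
import Mathlib.RingTheory.LocalProperties.Reduced

/-!
# Total rings of fractions of essentially étale algebras

Over a ring `A` whose total ring of fractions `K` is Artinian (e.g. reduced with finitely many
minimal primes):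

* `finite_localization`: `A⁰⁻¹E` is finite over `K` for `E` unramified essentially of finite type;
* `exists_mul_eq`: in a subalgebra `D` of an algebra `B` in which `v` becomes integral over `K`,
  a non-zero-divisor `v` divides a non-zero-divisor of `A`;
* `isLocalization_fractionRing`, `exists_finset_span`: the total ring of fractions of an essentially
  étale algebra;
* `exists_mul_eq_strict`: the version for subalgebras of a strict henselization.
-/

universe u

open IsLocalRing
open scoped nonZeroDivisors

namespace Groth.Agent.H24.EssEtale.Fractions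

/-- The total ring of fractions of a reduced ring with finitely many minimal primes is Artinian. -/
theorem isArtinianRing_fractionRing (A : Type u) [CommRing A] [IsReduced A]
    (hmin : (minimalPrimes A).Finite) : IsArtinianRing (FractionRing A) := by
  classical
  let K := FractionRing A
  haveI : IsReduced K := isReduced_localizationPreserves A⁰ K inferInstance
  have hprime : ∀ P : Ideal K, P.IsPrime → P.comap (algebraMap A K) ∈ minimalPrimes A := by
    intro P hP
    have hdisj : ∀ x ∈ P.comap (algebraMap A K), x ∉ A⁰ := fun x hx hx' =>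
      hP.ne_top (P.eq_top_of_isUnit_mem hx (IsLocalization.map_units K ⟨x, hx'⟩))
    have hsub : (P.comap (algebraMap A K) : Set A) ⊆
        ⋃ q ∈ (hmin.toFinset : Set (Ideal A)), (q : Set A) := by
      intro x hx
      by_contra hne
      simp only [Set.Finite.coe_toFinset, Set.mem_iUnion, not_exists] at hne
      refine hdisj x hx (mem_nonZeroDivisors_iff_right.mpr fun y hy => ?_)
      have : y ∈ nilradical A := by
        rw [nilradical, Ideal.radical_eq_sInf, Ideal.mem_sInf]
        rintro q ⟨-, hq⟩
        obtain ⟨q', hq', hle⟩ := Ideal.exists_minimalPrimes_le (J := q) (I := (⊥ : Ideal A)) bot_le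
        have hxy : y * x ∈ q' := hy ▸ zero_mem _
        exact hle ((hq'.1.1.mem_or_mem hxy).resolve_right (hne q' hq'))
      rwa [nilradical_eq_zero, Submodule.zero_eq_bot, Ideal.mem_bot] at this
    obtain ⟨q, hq, hle⟩ := (Ideal.subset_union_prime (R := A) (f := id) ⊥ ⊥
      (fun q hq _ _ => (hmin.mem_toFinset.mp hq).1.1)).mp hsub
    rw [Set.Finite.mem_toFinset] at hq
    exact le_antisymm hle (hq.2 ⟨Ideal.IsPrime.comap _, bot_le⟩ hle) ▸ hq
  have hfin : Finite (PrimeSpectrum K) := by
    haveI := hmin.to_subtype
    refine Finite.of_injective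
      (fun P : PrimeSpectrum K => (⟨_, hprime P.asIdeal P.isPrime⟩ : minimalPrimes A)) ?_
    intro P Q h
    exact PrimeSpectrum.ext ((IsLocalization.map_comap A⁰ K P.asIdeal).symm.trans
      ((congrArg (Ideal.map (algebraMap A K)) (congrArg Subtype.val h)).trans
        (IsLocalization.map_comap A⁰ K Q.asIdeal)))
  have hmax : ∀ P : PrimeSpectrum K, P.asIdeal.IsMaximal := by
    intro P
    obtain ⟨Q, hQ, hle⟩ := Ideal.exists_le_maximal P.asIdeal P.isPrime.ne_top
    have h1 : Q.comap (algebraMap A K) = P.asIdeal.comap (algebraMap A K) :=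
      le_antisymm ((hprime Q hQ.isPrime).2 ⟨P.isPrime.comap _, bot_le⟩ (Ideal.comap_mono hle))
        (Ideal.comap_mono hle)
    have h2 : P.asIdeal = Q := (IsLocalization.map_comap A⁰ K P.asIdeal).symm.trans
      ((congrArg (Ideal.map (algebraMap A K)) h1.symm).trans (IsLocalization.map_comap A⁰ K Q))
    exact h2 ▸ hQ
  cases nonempty_fintype (PrimeSpectrum K)
  have hco : Pairwise (Function.onFun IsCoprime fun P : PrimeSpectrum K => P.asIdeal) := by
    intro P Q hPQ
    haveI := hmax P
    haveI := hmax Q
    exact Ideal.isCoprime_iff_sup_eq.mpr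
      (Ideal.IsMaximal.coprime_of_ne (hmax P) (hmax Q) fun h => hPQ (PrimeSpectrum.ext h))
  have hbot : (⨅ P : PrimeSpectrum K, P.asIdeal) = ⊥ := by
    rw [eq_bot_iff]
    intro x hx
    have : x ∈ nilradical K := by
      rw [nilradical, Ideal.radical_eq_sInf, Ideal.mem_sInf]
      rintro q ⟨-, hq⟩
      exact (Submodule.mem_iInf _).mp hx ⟨q, hq⟩
    rwa [nilradical_eq_zero, Submodule.zero_eq_bot] at this
  let e : K ≃+* ∀ P : PrimeSpectrum K, K ⧸ P.asIdeal :=
    ((RingEquiv.quotientBot K).symm.trans (Ideal.quotEquivOfEq hbot.symm)).trans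
      (Ideal.quotientInfRingEquivPiQuotient _ hco)
  haveI : ∀ P : PrimeSpectrum K, IsArtinianRing (K ⧸ P.asIdeal) := fun P => by
    haveI := hmax P
    letI := Ideal.Quotient.field P.asIdeal
    infer_instance
  exact e.symm.surjective.isArtinianRing (f := e.symm.toRingHom)

variable (A : Type u) [CommRing A]

/-- The `K`-algebra structure on `A⁰⁻¹B`. -/
noncomputable abbrev algebraLoc (B : Type u) [CommRing B] [Algebra A B] :
    Algebra (FractionRing A) (Localization (Algebra.algebraMapSubmonoid B A⁰)) :=
  (IsLocalization.map (Localization (Algebra.algebraMapSubmonoid B A⁰)) (algebraMap A B)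
    (show A⁰ ≤ (Algebra.algebraMapSubmonoid B A⁰).comap (algebraMap A B) from
      fun a ha => ⟨a, ha, rfl⟩) :
      FractionRing A →+* _).toAlgebra

theorem isScalarTower_loc (B : Type u) [CommRing B] [Algebra A B] :
    letI := algebraLoc A B
    IsScalarTower A (FractionRing A) (Localization (Algebra.algebraMapSubmonoid B A⁰)) := by
  letI := algebraLoc A B
  refine IsScalarTower.of_algebraMap_eq fun a => ?_
  rw [RingHom.algebraMap_toAlgebra, IsLocalization.map_eq, ← IsScalarTower.algebraMap_apply]

/-- `A⁰⁻¹E` is finite over the total ring of fractions of `A`. -/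
theorem finite_localization [IsArtinianRing (FractionRing A)] (E : Type u) [CommRing E]
    [Algebra A E] [Algebra.EssFiniteType A E] [Algebra.FormallyUnramified A E] :
    letI := algebraLoc A E
    Module.Finite (FractionRing A) (Localization (Algebra.algebraMapSubmonoid E A⁰)) := by
  letI := algebraLoc A E
  haveI := isScalarTower_loc A E
  haveI : Algebra.QuasiFinite A (Localization (Algebra.algebraMapSubmonoid E A⁰)) :=
    Algebra.QuasiFinite.of_isLocalization (S := E) (Algebra.algebraMapSubmonoid E A⁰)
  haveI := Algebra.QuasiFinite.of_restrictScalars A (FractionRing A)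
    (Localization (Algebra.algebraMapSubmonoid E A⁰))
  exact Module.Finite.of_quasiFinite

/-- In a subalgebra, a non-zero-divisor which is algebraic over `K` divides a non-zero-divisor of
`A`. -/
theorem exists_mul_eq [IsArtinianRing (FractionRing A)] {D B : Type u} [CommRing D] [Algebra A D]
    [CommRing B] [Algebra A B] (i : D →ₐ[A] B) (hi : Function.Injective i) {v : D} (hv : v ∈ D⁰)
    (hint : letI := algebraLoc A B
      IsIntegral (FractionRing A)
        (algebraMap B (Localization (Algebra.algebraMapSubmonoid B A⁰)) (i v))) :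
    ∃ d : D, ∃ a ∈ A⁰, v * d = algebraMap A D a := by
  classical
  let K := FractionRing A
  let LD := Localization (Algebra.algebraMapSubmonoid D A⁰)
  let LB := Localization (Algebra.algebraMapSubmonoid B A⁰)
  letI := algebraLoc A D
  letI := algebraLoc A B
  haveI := isScalarTower_loc A D
  haveI := isScalarTower_loc A B
  have hmap : Algebra.algebraMapSubmonoid D A⁰ ≤
      (Algebra.algebraMapSubmonoid B A⁰).comap i.toRingHom := by
    rintro _ ⟨a, ha, rfl⟩
    exact ⟨a, ha, (i.commutes a).symm⟩
  let g : LD →+* LB := IsLocalization.map LB i.toRingHom hmap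
  have hginj : Function.Injective g := by
    rw [injective_iff_map_eq_zero]
    intro x hx
    obtain ⟨d, ⟨_, a, ha, rfl⟩, rfl⟩ :=
      IsLocalization.exists_mk'_eq (Algebra.algebraMapSubmonoid D A⁰) x
    rw [IsLocalization.map_mk', IsLocalization.mk'_eq_zero_iff] at hx
    obtain ⟨⟨_, b, hb, rfl⟩, hb'⟩ := hx
    rw [IsLocalization.mk'_eq_zero_iff]
    refine ⟨⟨_, b, hb, rfl⟩, hi ?_⟩
    simpa using hb'
  let gK : LD →ₐ[K] LB :=
    { g with
      commutes' := fun k => by
        refine RingHom.congr_fun (IsLocalization.ringHom_ext A⁰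
          (j := g.comp (algebraMap K LD)) (k := algebraMap K LB) ?_) k
        ext a
        simp only [RingHom.comp_apply, ← IsScalarTower.algebraMap_apply, g, K]
        rw [IsScalarTower.algebraMap_apply A D LD, IsScalarTower.algebraMap_apply A B LB]
        refine (IsLocalization.map_eq hmap _).trans ?_
        exact congrArg _ (i.commutes a) }
  let w : LD := algebraMap D LD v
  have hwint : IsIntegral K w := by
    refine (isIntegral_algHom_iff gK hginj).mp ?_
    rwa [show gK w = algebraMap B LB (i v) from IsLocalization.map_eq hmap v]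
  have hwnzd : ∀ z : LD, w * z = 0 → z = 0 := by
    intro z hz
    obtain ⟨d, t, rfl⟩ := IsLocalization.exists_mk'_eq (Algebra.algebraMapSubmonoid D A⁰) z
    rw [IsLocalization.mul_mk'_eq_mk'_of_mul, IsLocalization.mk'_eq_zero_iff] at hz
    obtain ⟨c, hc⟩ := hz
    rw [IsLocalization.mk'_eq_zero_iff]
    refine ⟨c, ?_⟩
    apply (mul_right_mem_nonZeroDivisors_eq_zero_iff hv).mp
    rw [← hc]
    ring
  let W := Algebra.adjoin K {w}
  haveI : Module.Finite K W := ⟨(Submodule.fg_top _).mpr hwint.fg_adjoin_singleton⟩
  haveI : IsArtinianRing W := IsArtinianRing.of_finite K W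
  have hu : IsUnit (⟨w, Algebra.self_mem_adjoin_singleton K w⟩ : W) := by
    refine IsArtinianRing.isUnit_of_mem_nonZeroDivisors (mem_nonZeroDivisors_iff_right.mpr ?_)
    intro z hz
    apply Subtype.ext
    apply hwnzd
    rw [mul_comm]
    exact congrArg Subtype.val hz
  obtain ⟨u, hu'⟩ := hu.exists_right_inv
  have h1 : w * (u : LD) = 1 := congrArg Subtype.val hu'
  obtain ⟨d, ⟨_, a, ha, rfl⟩, hd⟩ :=
    IsLocalization.exists_mk'_eq (Algebra.algebraMapSubmonoid D A⁰) (u : LD)
  rw [← hd, IsLocalization.mul_mk'_eq_mk'_of_mul, IsLocalization.mk'_eq_iff_eq_mul, one_mul,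
    IsLocalization.eq_iff_exists (Algebra.algebraMapSubmonoid D A⁰)] at h1
  obtain ⟨⟨_, b, hb, rfl⟩, hbd⟩ := h1
  refine ⟨algebraMap A D b * d, b * a, mul_mem hb ha, ?_⟩
  rw [map_mul, ← hbd]
  ring

theorem algebraMap_mem_nonZeroDivisors (B : Type u) [CommRing B] [Algebra A B] [Module.Flat A B]
    {a : A} (ha : a ∈ A⁰) : algebraMap A B a ∈ B⁰ := by
  rw [mem_nonZeroDivisors_iff_right]
  intro y hy
  have hreg : IsSMulRegular A a := fun x z hxz => by
    have h' : (x - z) * a = 0 := by
      simp only [smul_eq_mul] at hxz
      linear_combination hxz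
    exact sub_eq_zero.mp ((mul_right_mem_nonZeroDivisors_eq_zero_iff ha).mp h')
  refine IsSMulRegular.of_flat (S := B) hreg ?_
  simp only [smul_eq_mul, mul_zero]
  rw [mul_comm]; exact hy

variable [IsLocalRing A]

/-- A non-zero-divisor of an essentially étale algebra divides one of `A`. -/
theorem exists_mul_eq_self [IsArtinianRing (FractionRing A)] {E : Type u} [CommRing E]
    [Algebra A E] (hE : EGA4loc.IsEssentiallyEtale A E) {v : E} (hv : v ∈ E⁰) :
    ∃ d : E, ∃ a ∈ A⁰, v * d = algebraMap A E a := by
  obtain ⟨_, _⟩ := Lib.Henselian.EssEtale.formallyEtale hE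
  letI := algebraLoc A E
  haveI := finite_localization A E
  exact exists_mul_eq A (AlgHom.id A E) Function.injective_id hv (IsIntegral.of_finite _ _)

/-- The total ring of fractions of an essentially étale algebra is `A⁰⁻¹E`. -/
theorem isLocalization_fractionRing [IsArtinianRing (FractionRing A)] (E : Type u) [CommRing E]
    [Algebra A E] (hE : EGA4loc.IsEssentiallyEtale A E) :
    IsLocalization (Algebra.algebraMapSubmonoid E A⁰) (FractionRing E) := by
  haveI := flat hE
  let L := Localization (Algebra.algebraMapSubmonoid E A⁰)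
  suffices h : IsLocalization E⁰ L from
    IsLocalization.isLocalization_of_algEquiv (Algebra.algebraMapSubmonoid E A⁰)
      (IsLocalization.algEquiv E⁰ L (FractionRing E))
  refine IsLocalization.of_le_of_exists_dvd (S := L) (Algebra.algebraMapSubmonoid E A⁰) E⁰ ?_ ?_
  · rintro _ ⟨a, ha, rfl⟩
    exact algebraMap_mem_nonZeroDivisors A E ha
  · intro v hv
    obtain ⟨d, a, ha, hd⟩ := exists_mul_eq_self A hE hv
    exact ⟨_, ⟨a, ha, rfl⟩, ⟨d, hd.symm⟩⟩

/-- The total ring of fractions of an essentially étale algebra is finite over that of `A`. -/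
theorem exists_finset_span [IsArtinianRing (FractionRing A)] (E : Type u) [CommRing E]
    [Algebra A E] (hE : EGA4loc.IsEssentiallyEtale A E) :
    ∃ t : Finset (FractionRing E), ∀ x : FractionRing E, ∃ a ∈ A⁰,
      algebraMap A (FractionRing E) a * x ∈ Submodule.span A (t : Set (FractionRing E)) := by
  classical
  obtain ⟨_, _⟩ := Lib.Henselian.EssEtale.formallyEtale hE
  haveI := isLocalization_fractionRing A E hE
  let L := Localization (Algebra.algebraMapSubmonoid E A⁰)
  letI := algebraLoc A E
  haveI := isScalarTower_loc A E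
  haveI := finite_localization A E
  obtain ⟨t, ht⟩ := Module.Finite.fg_top (R := FractionRing A) (M := L)
  let e : L ≃ₐ[E] FractionRing E :=
    IsLocalization.algEquiv (Algebra.algebraMapSubmonoid E A⁰) L (FractionRing E)
  refine ⟨t.image e, fun x => ?_⟩
  obtain ⟨a, ha, hx⟩ : ∃ a ∈ A⁰, algebraMap A L a * e.symm x ∈ Submodule.span A (t : Set L) := by
    have h : e.symm x ∈ Submodule.span (FractionRing A) (t : Set L) := ht ▸ Submodule.mem_top
    generalize e.symm x = y at h ⊢
    induction h using Submodule.span_induction with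
    | mem z hz => exact ⟨1, one_mem _, by rw [map_one, one_mul]; exact Submodule.subset_span hz⟩
    | zero => exact ⟨1, one_mem _, by simp⟩
    | add y z _ _ hy hz =>
      obtain ⟨a, ha, hy⟩ := hy
      obtain ⟨b, hb, hz⟩ := hz
      refine ⟨a * b, mul_mem ha hb, ?_⟩
      rw [show algebraMap A L (a * b) * (y + z) =
        b • (algebraMap A L a * y) + a • (algebraMap A L b * z) by
          rw [Algebra.smul_def, Algebra.smul_def, map_mul]; ring]
      exact add_mem (Submodule.smul_mem _ _ hy) (Submodule.smul_mem _ _ hz)
    | smul k y _ hy =>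
      obtain ⟨a, ha, hy⟩ := hy
      obtain ⟨c, ⟨s, hs⟩, rfl⟩ := IsLocalization.exists_mk'_eq A⁰ k
      refine ⟨a * s, mul_mem ha hs, ?_⟩
      rw [show algebraMap A L (a * s) * (IsLocalization.mk' (FractionRing A) c ⟨s, hs⟩ • y) =
        c • (algebraMap A L a * y) by
          rw [Algebra.smul_def, Algebra.smul_def, map_mul,
            IsScalarTower.algebraMap_apply A (FractionRing A) L c,
            IsScalarTower.algebraMap_apply A (FractionRing A) L s,
            show algebraMap A (FractionRing A) c =
              IsLocalization.mk' (FractionRing A) c (⟨s, hs⟩ : A⁰) * algebraMap A (FractionRing A) s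
              from (IsLocalization.mk'_spec (FractionRing A) c ⟨s, hs⟩).symm, map_mul]
          ring]
      exact Submodule.smul_mem _ _ hy
  refine ⟨a, ha, ?_⟩
  have := Submodule.mem_map_of_mem (f := (e.restrictScalars A).toLinearMap) hx
  rw [Submodule.map_span] at this
  rw [Finset.coe_image, show algebraMap A (FractionRing E) a * x =
    (e.restrictScalars A) (algebraMap A L a * e.symm x) by
      rw [map_mul, AlgEquiv.commutes]; simp]
  exact this

/-- In a subalgebra of a strict henselization, a non-zero-divisor divides one of `A`. -/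
theorem exists_mul_eq_strict [IsArtinianRing (FractionRing A)] {S : Type u} [CommRing S]
    [IsLocalRing S] [Algebra A S] [IsLocalHom (algebraMap A S)]
    [Hensel.IsStrictHenselization A S] (D : Subalgebra A S) {v : D} (hv : v ∈ D⁰) :
    ∃ d : D, ∃ a ∈ A⁰, v * d = algebraMap A D a := by
  classical
  obtain ⟨E, _, hvE, -, hE, -⟩ := exists_stage (A := A) ({(v : S)} : Finset S)
  obtain ⟨_, _⟩ := Lib.Henselian.EssEtale.formallyEtale hE
  letI := algebraLoc A E
  letI := algebraLoc A S
  haveI := isScalarTower_loc A E
  haveI := isScalarTower_loc A S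
  haveI := finite_localization A E
  refine exists_mul_eq A D.val Subtype.val_injective hv ?_
  let LE := Localization (Algebra.algebraMapSubmonoid E A⁰)
  let LS := Localization (Algebra.algebraMapSubmonoid S A⁰)
  let g : LE →ₐ[A] LS :=
    IsLocalization.liftAlgHom (M := Algebra.algebraMapSubmonoid E A⁰)
      (f := (IsScalarTower.toAlgHom A S LS).comp E.val) (by
        rintro ⟨_, a, ha, rfl⟩
        exact IsLocalization.map_units LS (⟨_, a, ha, rfl⟩ : Algebra.algebraMapSubmonoid S A⁰))
  let gK : LE →ₐ[FractionRing A] LS :=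
    { g.toRingHom with
      commutes' := fun k => by
        refine RingHom.congr_fun (IsLocalization.ringHom_ext A⁰
          (j := g.toRingHom.comp (algebraMap (FractionRing A) LE))
          (k := algebraMap (FractionRing A) LS) ?_) k
        ext a
        simp only [RingHom.comp_apply, ← IsScalarTower.algebraMap_apply]
        exact g.commutes a }
  have h := (IsIntegral.of_finite (FractionRing A)
    (algebraMap E LE ⟨(v : S), hvE (Finset.mem_singleton_self _)⟩)).map gK
  rwa [show gK (algebraMap E LE ⟨(v : S), _⟩) = algebraMap S LS (D.val v) from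
    IsLocalization.lift_eq _ _] at h

end Groth.Agent.H24.EssEtale.Fractions
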