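import Groth.Agent.H24.EssEtale.Basic
import Groth.Agent.Lib.Henselian.LocalRing
import Mathlib.RingTheory.AdjoinRoot
import Mathlib.FieldTheory.Galois.Basic
import Mathlib.FieldTheory.PrimitiveElement
import Mathlib.RingTheory.Localization.FractionRing

/-!
# Finite étale subalgebras of strict henselizations over henselian local rings

* `exists_adjoin`: every residue class lifts to an element generating a finite étale local
  subalgebra;
* `le_adjoin`: stages with residues in the residue field of `A[η]` lie in `A[η]`;
* `autEquiv`: residue automorphisms lift to automorphisms.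
-/

universe u

open IsLocalRing Polynomial
open scoped IntermediateField

namespace Groth.Agent.H24.EssEtale.Galois

variable {A S : Type u} [CommRing A] [HenselianLocalRing A] [CommRing S] [IsLocalRing S]
  [Algebra A S] [IsLocalHom (algebraMap A S)] [Hensel.IsStrictHenselization A S]

theorem exists_adjoin (θ : ResidueField S) :
    ∃ (η : S) (_ : IsLocalRing (Algebra.adjoin A ({η} : Set S))), residue S η = θ ∧
      IsLocalHom (algebraMap (Algebra.adjoin A ({η} : Set S)) S) ∧
      EGA4loc.IsEssentiallyEtale A (Algebra.adjoin A ({η} : Set S)) ∧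
      Module.FaithfullyFlat (Algebra.adjoin A ({η} : Set S)) S ∧
      Module.Finite A (Algebra.adjoin A ({η} : Set S)) ∧
      ∃ f : A[X], f.Monic ∧ f.natDegree = (minpoly (ResidueField A) θ).natDegree ∧
        aeval η f = 0 := by
  classical
  haveI := (Hensel.IsStrictHenselization.isSepClosure (R := A) (S := S)).separable
  haveI := Lib.Henselian.StrictHenselization.flat A S
  have hsep : IsSeparable (ResidueField A) θ := Algebra.IsSeparable.isSeparable _ θ
  obtain ⟨g, hg⟩ : ∃ g, g = minpoly (ResidueField A) θ := ⟨_, rfl⟩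
  have hgmon : g.Monic := hg ▸ minpoly.monic hsep.isIntegral
  have hgirr : Irreducible g := hg ▸ minpoly.irreducible hsep.isIntegral
  obtain ⟨f, hf, hfdeg, hfmon⟩ := Polynomial.lifts_and_natDegree_eq_and_monic
    (f := residue A) (p := g) ((Polynomial.lifts_iff_coeff_lifts _).mpr
      fun n => residue_surjective _) hgmon
  have hres : ∀ (x : S) (p : A[X]),
      residue S (aeval x p) = aeval (residue S x) (p.map (residue A)) := fun x p => by
    rw [aeval_def, hom_eval₂, aeval_def, eval₂_map]
    rfl
  -- the root
  obtain ⟨η₀, hη₀⟩ := residue_surjective θ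
  haveI : HenselianLocalRing S := Hensel.IsStrictHenselization.henselian (R := A)
  have hev : (f.map (algebraMap A S)).eval η₀ ∈ maximalIdeal S := by
    rw [← residue_eq_zero_iff, eval_map_algebraMap, hres, hη₀, hf, hg, minpoly.aeval]
  have hder : IsUnit ((f.map (algebraMap A S)).derivative.eval η₀) := by
    rw [derivative_map, eval_map_algebraMap, ← notMem_maximalIdeal, ← residue_eq_zero_iff, hres,
      hη₀, ← derivative_map, hf, hg]
    exact hsep.aeval_derivative_ne_zero (minpoly.aeval _ _)
  obtain ⟨η, hη, hηη₀⟩ := HenselianLocalRing.is_henselian _ (hfmon.map _) η₀ hev hder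
  have hηθ : residue S η = θ := by
    rw [← hη₀, ← sub_eq_zero, ← map_sub, residue_eq_zero_iff]
    exact hηη₀
  have hroot : aeval η f = 0 := by rwa [IsRoot, eval_map_algebraMap] at hη
  -- the standard étale algebra
  let B := AdjoinRoot f
  haveI : Module.Finite A B := hfmon.finite_adjoinRoot
  haveI : Module.Free A B := hfmon.free_adjoinRoot
  let φ : B →ₐ[A] S := AdjoinRoot.liftAlgHom f (Algebra.ofId A S) η
    (by rw [← hroot]; rfl)
  have hφroot : φ (AdjoinRoot.root f) = η := AdjoinRoot.liftAlgHom_root _ _ _ _
  let e₀ := AdjoinRoot.quotEquivQuotMap f (maximalIdeal A)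
  have hmax : ((maximalIdeal A).map (AdjoinRoot.of f)).IsMaximal := by
    letI : Field (A ⧸ maximalIdeal A) := Ideal.Quotient.field _
    have h1 : (Ideal.span {f.map (Ideal.Quotient.mk (maximalIdeal A))}).IsMaximal :=
      PrincipalIdealRing.isMaximal_of_irreducible
        (show Irreducible (f.map (residue A)) by rw [hf]; exact hgirr)
    exact Ideal.Quotient.maximal_of_isField _
      (MulEquiv.isField ((Ideal.Quotient.maximal_ideal_iff_isField_quotient _).mp h1)
        e₀.toRingEquiv.toMulEquiv)
  haveI hBloc : IsLocalRing B := IsLocalRing.of_unique_max_ideal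
    ⟨(maximalIdeal A).map (algebraMap A B), hmax, fun M hM => (hmax.eq_of_le hM.ne_top (by
      refine Ideal.map_le_iff_le_comap.mpr (le_of_eq ?_)
      haveI := hM
      exact (eq_maximalIdeal (Ideal.isMaximal_comap_of_isIntegral_of_isMaximal (R := A) M)).symm)).symm⟩
  have hmB : (maximalIdeal A).map (algebraMap A B) = maximalIdeal B := eq_maximalIdeal hmax
  haveI : IsLocalHom (algebraMap A B) :=
    ((local_hom_TFAE (algebraMap A B)).out 0 2).mpr hmB.le
  haveI hφloc : IsLocalHom φ.toRingHom := ((local_hom_TFAE φ.toRingHom).out 0 2).mpr (by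
    rw [← hmB, Ideal.map_map, AlgHom.toRingHom_eq_coe, AlgHom.comp_algebraMap]
    exact map_maximalIdeal_le _)
  haveI : Algebra.IsSeparable (ResidueField A) (ResidueField B) := by
    let ρ : ResidueField B →ₐ[ResidueField A] ResidueField S :=
      { ResidueField.map φ.toRingHom with
        commutes' := fun a => by
          obtain ⟨a, rfl⟩ := residue_surjective a
          show ResidueField.map φ.toRingHom (algebraMap (ResidueField A) _ (residue A a)) = _
          rw [ResidueField.algebraMap_residue, ResidueField.map_residue, ResidueField.algebraMap_residue]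
          exact congrArg _ (φ.commutes a) }
    exact Algebra.IsSeparable.of_algHom _ _ ρ
  haveI := Lib.Unram.LocalStandardEtale.formallyUnramified_of_isSeparable A B hmB
  have hB : EGA4loc.IsEssentiallyEtale A B := of_flat (A := A) (B := B)
  have hflat : φ.toRingHom.Flat := flat_of_algHom φ
  have hinj : Function.Injective φ := by
    letI := φ.toRingHom.toAlgebra
    haveI : Module.Flat B S := hflat
    haveI : IsLocalHom (algebraMap B S) := hφloc
    haveI : Module.FaithfullyFlat B S := Module.FaithfullyFlat.of_flat_of_isLocalHom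
    exact FaithfulSMul.algebraMap_injective B S
  have hrange : φ.range = Algebra.adjoin A ({η} : Set S) := by
    rw [← Algebra.map_top, ← AdjoinRoot.adjoinRoot_eq_top, AlgHom.map_adjoin, Set.image_singleton,
      hφroot]
  let e : B ≃ₐ[A] Algebra.adjoin A ({η} : Set S) :=
    (AlgEquiv.ofInjective φ hinj).trans (Subalgebra.equivOfEq _ _ hrange)
  haveI hloc : IsLocalRing (Algebra.adjoin A ({η} : Set S)) := e.toRingEquiv.isLocalRing
  have he : ∀ b, (e b : S) = φ b := fun b => rfl
  haveI hloc' : IsLocalHom (algebraMap (Algebra.adjoin A ({η} : Set S)) S) := ⟨fun x hx => by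
    obtain ⟨b, rfl⟩ := e.surjective x
    have hb : IsUnit (φ.toRingHom b) := hx
    exact (hφloc.map_nonunit b hb).map e⟩
  have hE := of_algEquiv hB e.symm
  haveI : Module.Finite A (Algebra.adjoin A ({η} : Set S)) := Module.Finite.equiv e.toLinearEquiv
  haveI : Algebra.FormallyUnramified A (Algebra.adjoin A ({η} : Set S)) :=
    Algebra.FormallyUnramified.of_equiv e
  have hfl := flat_of_algHom (Algebra.adjoin A ({η} : Set S)).val
  haveI : Module.Flat (Algebra.adjoin A ({η} : Set S)) S := hfl
  exact ⟨η, hloc, hηθ, hloc', hE, Module.FaithfullyFlat.of_flat_of_isLocalHom, inferInstance,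
    f, hfmon, hg ▸ hfdeg, hroot⟩

/-- Residues of elements of `A[η]` lie in `k(θ)`. -/
theorem residue_mem {η x : S} (hx : x ∈ Algebra.adjoin A ({η} : Set S)) :
    residue S x ∈ (ResidueField A)⟮residue S η⟯ := by
  induction hx using Algebra.adjoin_induction with
  | mem z hz => rw [Set.mem_singleton_iff.mp hz]; exact IntermediateField.mem_adjoin_simple_self _ _
  | algebraMap r => rw [← ResidueField.algebraMap_residue]; exact IntermediateField.algebraMap_mem _ _
  | add y z _ _ hy hz => rw [map_add]; exact add_mem hy hz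
  | mul y z _ _ hy hz => rw [map_mul]; exact mul_mem hy hz

/-- The residue field of `A[η]` maps onto `k(θ)`. -/
theorem exists_residue_eq {η : S} [Algebra.IsIntegral (ResidueField A) (ResidueField S)]
    {z : ResidueField S} (hz : z ∈ (ResidueField A)⟮residue S η⟯) :
    ∃ y ∈ Algebra.adjoin A ({η} : Set S), residue S y = z := by
  have hz' : z ∈ ((ResidueField A)⟮residue S η⟯).toSubalgebra := hz
  rw [IntermediateField.adjoin_simple_toSubalgebra_of_isAlgebraic
    (Algebra.IsAlgebraic.isAlgebraic _)] at hz'
  induction hz' using Algebra.adjoin_induction with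
  | mem w hw => exact ⟨η, Algebra.subset_adjoin rfl, (Set.mem_singleton_iff.mp hw).symm⟩
  | algebraMap r =>
    obtain ⟨r, rfl⟩ := residue_surjective r
    exact ⟨algebraMap A S r, Subalgebra.algebraMap_mem _ _, (ResidueField.algebraMap_residue r).symm⟩
  | add u v hu hv hu' hv' =>
    obtain ⟨a, ha, rfl⟩ := hu' (IntermediateField.algebra_adjoin_le_adjoin _ _ hu)
    obtain ⟨b, hb, rfl⟩ := hv' (IntermediateField.algebra_adjoin_le_adjoin _ _ hv)
    exact ⟨a + b, add_mem ha hb, map_add _ _ _⟩
  | mul u v hu hv hu' hv' =>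
    obtain ⟨a, ha, rfl⟩ := hu' (IntermediateField.algebra_adjoin_le_adjoin _ _ hu)
    obtain ⟨b, hb, rfl⟩ := hv' (IntermediateField.algebra_adjoin_le_adjoin _ _ hv)
    exact ⟨a * b, mul_mem ha hb, map_mul _ _ _⟩

/-- A stage whose residues lie in `k(θ)` is contained in `A[η]`. -/
theorem le_adjoin {η : S} [IsLocalRing (Algebra.adjoin A ({η} : Set S))]
    [IsLocalHom (algebraMap (Algebra.adjoin A ({η} : Set S)) S)]
    [Module.Finite A (Algebra.adjoin A ({η} : Set S))] {F : Subalgebra A S} [IsLocalRing F]
    [IsLocalHom (algebraMap F S)] (hF : EGA4loc.IsEssentiallyEtale A F)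
    (hres : ∀ x ∈ F, residue S x ∈ (ResidueField A)⟮residue S η⟯) :
    F ≤ Algebra.adjoin A ({η} : Set S) := by
  haveI := isLocalHom hF
  haveI := (Hensel.IsStrictHenselization.isSepClosure (R := A) (S := S)).separable
  let E := Algebra.adjoin A ({η} : Set S)
  haveI : HenselianLocalRing E := Lib.Henselian.LocalRing.henselianLocalRing_of_isIntegral A E
  haveI : IsLocalHom (algebraMap A E) := ⟨fun a ha => by
    have h : IsUnit (algebraMap A S a) := ha.map E.val
    exact IsLocalHom.map_nonunit a h⟩
  let ρE := ResidueField.map (algebraMap E S)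
  let ρF := ResidueField.map (algebraMap F S)
  have hmem : ∀ z : ResidueField F, ∃ w, ρE w = ρF z := fun z => by
    obtain ⟨x, rfl⟩ := residue_surjective z
    obtain ⟨y, hy, hyx⟩ := exists_residue_eq (hres _ x.2)
    exact ⟨residue E ⟨y, hy⟩, by rw [ResidueField.map_residue, ResidueField.map_residue]; exact hyx⟩
  choose α hα using hmem
  have hinj := ρE.injective
  let α' : ResidueField F →+* ResidueField E :=
    { toFun := α
      map_one' := hinj (by rw [hα, map_one, map_one])
      map_mul' := fun a b => hinj (by rw [hα, map_mul, map_mul, hα, hα])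
      map_zero' := hinj (by rw [hα, map_zero, map_zero])
      map_add' := fun a b => hinj (by rw [hα, map_add, map_add, hα, hα]) }
  obtain ⟨ψ, ⟨-, hψ, hψres⟩, -⟩ := Lib.Henselian.EssEtale.existsUnique_lift hF E (algebraMap A E)
    α' (RingHom.ext fun a => hinj (by
      obtain ⟨a, rfl⟩ := residue_surjective a
      show ρE (α _) = _
      rw [hα, ResidueField.map_residue, ResidueField.map_residue, ResidueField.map_residue,
        ResidueField.map_residue]
      rfl))
  let ψ' : F →ₐ[A] E := ⟨ψ, RingHom.congr_fun hψ⟩
  have key : (E.val.comp ψ') = F.val := Lib.Henselian.EssEtale.algHom_ext hF fun x => by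
    have h := congrArg ρE (hψres x)
    rw [ResidueField.map_residue] at h
    exact h.trans (hα _)
  intro x hx
  rw [show x = F.val ⟨x, hx⟩ from rfl, ← key]
  exact (ψ' _).2

variable {E : Type u} [CommRing E] [IsLocalRing E] [Algebra A E] [IsLocalHom (algebraMap A E)]
  [HenselianLocalRing E]

/-- Automorphisms of the residue field lift to automorphisms, compatibly with composition. -/
theorem exists_autLift (hE : EGA4loc.IsEssentiallyEtale A E) :
    ∃ Ψ : (ResidueField E ≃ₐ[ResidueField A] ResidueField E) →* (E ≃ₐ[A] E),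
      ∀ τ x, residue E (Ψ τ x) = τ (residue E x) := by
  have hex : ∀ τ : ResidueField E ≃ₐ[ResidueField A] ResidueField E,
      ∃ ψ : E →ₐ[A] E, ∀ x, residue E (ψ x) = τ (residue E x) := fun τ => by
    obtain ⟨ψ, ⟨-, hψ, hres⟩, -⟩ := Lib.Henselian.EssEtale.existsUnique_lift hE E (algebraMap A E)
      (τ : ResidueField E →+* ResidueField E) (RingHom.ext fun a => by
        obtain ⟨a, rfl⟩ := residue_surjective a
        show τ (ResidueField.map (algebraMap A E) (residue A a)) = _
        rw [ResidueField.map_residue, ← ResidueField.algebraMap_residue, τ.commutes])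
    exact ⟨⟨ψ, RingHom.congr_fun hψ⟩, hres⟩
  choose ψ hψ using hex
  have hcomp : ∀ τ σ, (ψ τ).comp (ψ σ) = ψ (τ * σ) := fun τ σ =>
    Lib.Henselian.EssEtale.algHom_ext hE fun x => by rw [AlgHom.comp_apply, hψ, hψ, hψ]; rfl
  have hone : ψ 1 = AlgHom.id A E :=
    Lib.Henselian.EssEtale.algHom_ext hE fun x => by rw [hψ]; rfl
  refine ⟨MonoidHom.mk' (fun τ => AlgEquiv.ofAlgHom (ψ τ) (ψ τ⁻¹)
    (by rw [hcomp, mul_inv_cancel, hone]) (by rw [hcomp, inv_mul_cancel, hone]))
    fun τ σ => AlgEquiv.ext fun x => ?_, fun τ x => hψ τ x⟩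
  exact (AlgHom.congr_fun (hcomp τ σ) x).symm

/-- In a finite étale local domain with Galois residue extension, intermediate fields of the generic
fibre are generated by lifts of residue classes. -/
theorem exists_residue_generator [IsDomain A] [IsDomain E]
    [FiniteDimensional (ResidueField A) (ResidueField E)]
    [IsGalois (ResidueField A) (ResidueField E)] (hE : EGA4loc.IsEssentiallyEtale A E)
    {K M : Type u} [Field K] [Field M] [Algebra A K] [IsFractionRing A K] [Algebra E M]
    [IsFractionRing E M] [Algebra K M] [Algebra A M] [IsScalarTower A K M] [IsScalarTower A E M]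
    [FiniteDimensional K M]
    (hdeg : Module.finrank K M ≤ Module.finrank (ResidueField A) (ResidueField E))
    (L : IntermediateField K M) :
    ∃ θ' : ResidueField E, ∀ (D : Type u) [CommRing D] [IsLocalRing D] [Algebra A D],
      EGA4loc.IsEssentiallyEtale A D → ∀ (j : D →ₐ[A] E) (d : D),
      (∀ x, residue E (j x) ∈ (ResidueField A)⟮θ'⟯) → residue E (j d) = θ' →
        L = K⟮algebraMap E M (j d)⟯ := by
  classical
  obtain ⟨Ψ, hΨ⟩ := exists_autLift hE
  let Φ : (ResidueField E ≃ₐ[ResidueField A] ResidueField E) →* (M ≃ₐ[K] M) :=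
    (IsFractionRing.fieldEquivOfAlgEquivHom (A := A) (B := E) K M).comp Ψ
  have hΦ : ∀ τ (x : E), Φ τ (algebraMap E M x) = algebraMap E M (Ψ τ x) := fun τ x =>
    IsFractionRing.fieldEquivOfAlgEquiv_algebraMap K M M (Ψ τ) x
  have hΦinj : Function.Injective Φ := fun τ σ h => AlgEquiv.ext fun z => by
    obtain ⟨x, rfl⟩ := residue_surjective z
    rw [← hΨ, ← hΨ]
    have := AlgEquiv.congr_fun h (algebraMap E M x)
    rw [hΦ, hΦ] at this
    rw [IsFractionRing.injective E M this]
  have hcard := IsGalois.card_aut_eq_finrank (ResidueField A) (ResidueField E)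
  have h1 := Nat.card_le_card_of_injective Φ hΦinj
  rw [hcard] at h1
  have h2 : Nat.card (M ≃ₐ[K] M) ≤ Module.finrank K M := by
    rw [Nat.card_eq_fintype_card]; exact AlgEquiv.card_le
  haveI : IsGalois K M := IsGalois.of_card_aut_eq_finrank K M (le_antisymm h2 (hdeg.trans h1))
  have hΦbij : Function.Bijective Φ :=
    (Nat.bijective_iff_injective_and_card Φ).mpr
      ⟨hΦinj, by rw [hcard]; exact le_antisymm h1 (h2.trans hdeg)⟩
  let H := L.fixingSubgroup.comap Φ
  obtain ⟨θ', hθ'⟩ := Field.exists_primitive_element (ResidueField A) (IntermediateField.fixedField H)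
  have hθE : (ResidueField A)⟮(θ' : ResidueField E)⟯ = IntermediateField.fixedField H := by
    have := congrArg (IntermediateField.map (IntermediateField.fixedField H).val) hθ'
    rw [IntermediateField.adjoin_map, Set.image_singleton, ← AlgHom.fieldRange_eq_map,
      IntermediateField.fieldRange_val] at this
    exact this
  refine ⟨θ', fun D _ _ _ hD j d hres hd => le_antisymm ?_ ?_⟩
  · rw [← IsGalois.fixedField_fixingSubgroup K⟮algebraMap E M (j d)⟯,
      ← IsGalois.fixedField_fixingSubgroup L]
    refine IntermediateField.fixedField_le fun σ hσ => ?_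
    obtain ⟨τ, rfl⟩ := hΦbij.2 σ
    have h := (IntermediateField.mem_fixingSubgroup_iff _ _).mp hσ _
      (IntermediateField.mem_adjoin_simple_self _ _)
    rw [hΦ] at h
    have hτ : τ θ' = (θ' : ResidueField E) := by
      rw [← hd, ← hΨ, IsFractionRing.injective E M h]
    show τ ∈ H
    rw [← IntermediateField.fixingSubgroup_fixedField H, ← hθE,
      IntermediateField.mem_fixingSubgroup_iff]
    intro z hz
    induction hz using IntermediateField.adjoin_induction with
    | mem z hz => rw [Set.mem_singleton_iff.mp hz]; exact hτ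
    | algebraMap r => exact τ.commutes r
    | add u v _ _ hu hv => rw [map_add, hu, hv]
    | inv u _ hu => rw [map_inv₀, hu]
    | mul u v _ _ hu hv => rw [map_mul, hu, hv]
  · rw [IntermediateField.adjoin_simple_le_iff, ← IsGalois.fixedField_fixingSubgroup L]
    rintro ⟨σ, hσ⟩
    obtain ⟨τ, rfl⟩ := hΦbij.2 σ
    show Φ τ (algebraMap E M (j d)) = _
    rw [hΦ]
    congr 1
    have key : ((Ψ τ).toAlgHom.comp j) = j := by
      refine Lib.Henselian.EssEtale.algHom_ext hD fun x => ?_
      show residue E (Ψ τ (j x)) = _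
      rw [hΨ]
      exact (hθE ▸ hres x : residue E (j x) ∈ IntermediateField.fixedField H) ⟨τ, hσ⟩
    exact AlgHom.congr_fun key d

end Groth.Agent.H24.EssEtale.Galois
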