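import Groth.Agent.H24.EssEtale.Basic
import Groth.Agent.Lib.Henselian.LocalRing
import Groth.Agent.Lib.Henselian.Henselization
import Groth.Agent.Lib.Henselian.Finite
import Mathlib.Algebra.Polynomial.Eval.Irreducible
import Mathlib.RingTheory.AdjoinRoot
import Mathlib.FieldTheory.PrimitiveElement
import Mathlib.RingTheory.LocalRing.Module

/-!
# Henselian subrings of a strict henselization with flat `S` are ind-étale

`exists_stage_le`: if `H ⊆ S` is henselian and `S` is flat over `H`, finite subsets of `H` lie in
essentially étale local subalgebras contained in `H`.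
-/

universe u

open IsLocalRing Polynomial
open scoped IntermediateField TensorProduct

namespace Groth.Agent.H24.EssEtale.IndEtale

set_option linter.style.haveILetI false

/-- `R[X]/f` is local if `f` is irreducible modulo the maximal ideal. -/
theorem isLocalRing_adjoinRoot {R : Type u} [CommRing R] [IsLocalRing R] {f : R[X]} (hf : f.Monic)
    (hirr : Irreducible (f.map (residue R))) :
    IsLocalRing (AdjoinRoot f) ∧
      ((maximalIdeal R).map (algebraMap R (AdjoinRoot f))).IsMaximal := by
  haveI : Module.Finite R (AdjoinRoot f) := hf.finite_adjoinRoot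
  let e₀ := AdjoinRoot.quotEquivQuotMap f (maximalIdeal R)
  have hmax : ((maximalIdeal R).map (AdjoinRoot.of f)).IsMaximal := by
    letI : Field (R ⧸ maximalIdeal R) := Ideal.Quotient.field _
    have h1 : (Ideal.span {f.map (Ideal.Quotient.mk (maximalIdeal R))}).IsMaximal :=
      PrincipalIdealRing.isMaximal_of_irreducible
        (show Irreducible (f.map (residue R)) from hirr)
    exact Ideal.Quotient.maximal_of_isField _
      (MulEquiv.isField ((Ideal.Quotient.maximal_ideal_iff_isField_quotient _).mp h1)
        e₀.toRingEquiv.toMulEquiv)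
  refine ⟨IsLocalRing.of_unique_max_ideal ⟨_, hmax, fun M hM => (hmax.eq_of_le hM.ne_top ?_).symm⟩,
    hmax⟩
  haveI := hM
  exact Lib.Henselian.Finite.map_maximalIdeal_le (A := R) M

variable {A S : Type u} [CommRing A] [IsLocalRing A] [CommRing S] [IsLocalRing S] [Algebra A S]
  [IsLocalHom (algebraMap A S)] [Hensel.IsStrictHenselization A S]

omit [Hensel.IsStrictHenselization A S] in
/-- An essentially étale local subalgebra maps into every henselian local subalgebra whose residue
field is large enough. -/
theorem le_of_henselian {F G : Subalgebra A S} [IsLocalRing F] [IsLocalHom (algebraMap F S)]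
    [HenselianLocalRing G] [IsLocalHom (algebraMap G S)] (hF : EGA4loc.IsEssentiallyEtale A F)
    (hres : ∀ x : F, ∃ y : G, residue S (y : S) = residue S (x : S)) : F ≤ G := by
  haveI := isLocalHom hF
  haveI : IsLocalHom (algebraMap A G) := ⟨fun a ha => by
    exact IsLocalHom.map_nonunit (f := algebraMap A S) a (ha.map (algebraMap G S))⟩
  let ρG := ResidueField.map (algebraMap G S)
  let ρF := ResidueField.map (algebraMap F S)
  have hmem : ∀ z : ResidueField F, ∃ w, ρG w = ρF z := fun z => by
    obtain ⟨x, rfl⟩ := residue_surjective z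
    obtain ⟨y, hy⟩ := hres x
    exact ⟨residue G y, by rw [ResidueField.map_residue, ResidueField.map_residue]; exact hy⟩
  choose α hα using hmem
  have hinj := ρG.injective
  let α' : ResidueField F →+* ResidueField G :=
    { toFun := α
      map_one' := hinj (by rw [hα, map_one, map_one])
      map_mul' := fun a b => hinj (by rw [hα, map_mul, map_mul, hα, hα])
      map_zero' := hinj (by rw [hα, map_zero, map_zero])
      map_add' := fun a b => hinj (by rw [hα, map_add, map_add, hα, hα]) }
  obtain ⟨ψ, ⟨-, hψ, hψres⟩, -⟩ := Lib.Henselian.EssEtale.existsUnique_lift hF G (algebraMap A G)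
    α' (RingHom.ext fun a => hinj (by
      obtain ⟨a, rfl⟩ := residue_surjective a
      show ρG (α _) = _
      rw [hα, ResidueField.map_residue, ResidueField.map_residue, ResidueField.map_residue,
        ResidueField.map_residue]
      rfl))
  let ψ' : F →ₐ[A] G := ⟨ψ, RingHom.congr_fun hψ⟩
  have key : G.val.comp ψ' = F.val := Lib.Henselian.EssEtale.algHom_ext hF fun x => by
    have h := congrArg ρG (hψres x)
    rw [ResidueField.map_residue] at h
    exact h.trans (hα _)
  intro x hx
  rw [show x = F.val ⟨x, hx⟩ from rfl, ← key]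
  exact (ψ' _).2

/-- A separable residue class of a henselian algebra lifts into an essentially étale local algebra. -/
theorem exists_lift (H : Subalgebra A S) [HenselianLocalRing H] [IsLocalHom (algebraMap A H)]
    [IsLocalHom (algebraMap H S)] (θ : ResidueField H) :
    ∃ (E : Subalgebra A S) (_ : IsLocalRing E), E ≤ H ∧ IsLocalHom (algebraMap E S) ∧
      EGA4loc.IsEssentiallyEtale A E ∧
      ∀ z : ResidueField H, z ∈ (ResidueField A)⟮θ⟯ →
        ∃ y : E, residue S (y : S) = ResidueField.map (algebraMap H S) z := by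
  classical
  haveI := (Hensel.IsStrictHenselization.isSepClosure (R := A) (S := S)).separable
  haveI := Lib.Henselian.StrictHenselization.flat A S
  haveI : IsScalarTower (ResidueField A) (ResidueField H) (ResidueField S) :=
    IsScalarTower.of_algebraMap_eq fun z => by obtain ⟨z, rfl⟩ := residue_surjective z; rfl
  haveI : Algebra.IsSeparable (ResidueField A) (ResidueField H) :=
    Algebra.isSeparable_tower_bot_of_isSeparable (ResidueField A) (ResidueField H) (ResidueField S)
  have hsep : IsSeparable (ResidueField A) θ := Algebra.IsSeparable.isSeparable _ θ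
  obtain ⟨g, hg⟩ : ∃ g, g = minpoly (ResidueField A) θ := ⟨_, rfl⟩
  have hgmon : g.Monic := hg ▸ minpoly.monic hsep.isIntegral
  have hgirr : Irreducible g := hg ▸ minpoly.irreducible hsep.isIntegral
  obtain ⟨f, hf, -, hfmon⟩ := Polynomial.lifts_and_natDegree_eq_and_monic
    (f := residue A) (p := g) ((Polynomial.lifts_iff_coeff_lifts _).mpr
      fun n => residue_surjective _) hgmon
  have hres : ∀ (x : H) (p : A[X]),
      residue H (aeval x p) = aeval (residue H x) (p.map (residue A)) := fun x p => by
    rw [aeval_def, hom_eval₂, aeval_def, eval₂_map]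
    rfl
  obtain ⟨η₀, hη₀⟩ := residue_surjective θ
  have hev : (f.map (algebraMap A H)).eval η₀ ∈ maximalIdeal H := by
    rw [← residue_eq_zero_iff, eval_map_algebraMap, hres, hη₀, hf, hg, minpoly.aeval]
  have hder : IsUnit ((f.map (algebraMap A H)).derivative.eval η₀) := by
    rw [derivative_map, eval_map_algebraMap, ← notMem_maximalIdeal, ← residue_eq_zero_iff, hres,
      hη₀, ← derivative_map, hf, hg]
    exact hsep.aeval_derivative_ne_zero (minpoly.aeval _ _)
  obtain ⟨η, hη, hηη₀⟩ := HenselianLocalRing.is_henselian _ (hfmon.map _) η₀ hev hder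
  have hηθ : residue H η = θ := by
    rw [← hη₀, ← sub_eq_zero, ← map_sub, residue_eq_zero_iff]
    exact hηη₀
  have hroot : aeval η f = 0 := by rwa [IsRoot, eval_map_algebraMap] at hη
  let B := AdjoinRoot f
  haveI : Module.Finite A B := hfmon.finite_adjoinRoot
  haveI : Module.Free A B := hfmon.free_adjoinRoot
  obtain ⟨hloc, hmax⟩ := isLocalRing_adjoinRoot hfmon (hf ▸ hgirr)
  haveI := hloc
  have hmB : (maximalIdeal A).map (algebraMap A B) = maximalIdeal B := eq_maximalIdeal hmax
  haveI : IsLocalHom (algebraMap A B) :=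
    ((local_hom_TFAE (algebraMap A B)).out 0 2).mpr hmB.le
  let φH : B →ₐ[A] H := AdjoinRoot.liftAlgHom f (Algebra.ofId A H) η (by rw [← hroot]; rfl)
  let φ : B →ₐ[A] S := H.val.comp φH
  haveI hφloc : IsLocalHom φ.toRingHom := ((local_hom_TFAE φ.toRingHom).out 0 2).mpr (by
    rw [← hmB, Ideal.map_map, AlgHom.toRingHom_eq_coe, AlgHom.comp_algebraMap]
    exact map_maximalIdeal_le _)
  haveI : Algebra.IsSeparable (ResidueField A) (ResidueField B) := by
    let ρ : ResidueField B →ₐ[ResidueField A] ResidueField S :=
      { ResidueField.map φ.toRingHom with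
        commutes' := fun a => by
          obtain ⟨a, rfl⟩ := residue_surjective a
          show ResidueField.map φ.toRingHom (algebraMap (ResidueField A) _ (residue A a)) = _
          rw [ResidueField.algebraMap_residue, ResidueField.map_residue, ResidueField.algebraMap_residue]
          exact congrArg _ (φ.commutes a) }
    exact Algebra.IsSeparable.of_algHom _ _ ρ
  haveI := Lib.Unram.LocalStandardEtale.formallyUnramified_of_isSeparable A B hmB
  have hB : EGA4loc.IsEssentiallyEtale A B := of_flat (A := A) (B := B)
  have hflat : φ.toRingHom.Flat := flat_of_algHom φ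
  have hinj : Function.Injective φ := by
    letI := φ.toRingHom.toAlgebra
    haveI : Module.Flat B S := hflat
    haveI : IsLocalHom (algebraMap B S) := hφloc
    haveI : Module.FaithfullyFlat B S := Module.FaithfullyFlat.of_flat_of_isLocalHom
    exact FaithfulSMul.algebraMap_injective B S
  let e : B ≃ₐ[A] φ.range := AlgEquiv.ofInjective φ hinj
  haveI : IsLocalRing φ.range := e.toRingEquiv.isLocalRing
  haveI : IsLocalHom (algebraMap φ.range S) := ⟨fun x hx => by
    obtain ⟨b, rfl⟩ := e.surjective x
    have hb : IsUnit (φ.toRingHom b) := hx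
    exact (hφloc.map_nonunit b hb).map e⟩
  refine ⟨φ.range, inferInstance, ?_, inferInstance, of_algEquiv hB e.symm, fun z hz => ?_⟩
  · rintro x ⟨b, rfl⟩; exact (φH b).2
  · have hz' : z ∈ ((ResidueField A)⟮θ⟯).toSubalgebra := hz
    rw [IntermediateField.adjoin_simple_toSubalgebra_of_isAlgebraic
      (Algebra.IsAlgebraic.isAlgebraic _), Algebra.adjoin_singleton_eq_range_aeval] at hz'
    obtain ⟨p, rfl⟩ := hz'
    obtain ⟨p, rfl⟩ := Polynomial.map_surjective (residue A) residue_surjective p
    refine ⟨e (AdjoinRoot.mk f p), ?_⟩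
    show residue S ((φH (AdjoinRoot.mk f p) : H) : S) = _
    rw [show φH (AdjoinRoot.mk f p) = aeval η p from AdjoinRoot.liftAlgHom_mk _ _ _ _ p]
    show residue S ((aeval η p : H) : S) =
      ResidueField.map (algebraMap H S) (aeval θ (p.map (residue A)))
    rw [← hηθ, ← hres, ResidueField.map_residue]
    rfl

/-- The henselization of a stage inside a henselian subalgebra: its image is henselian, and a union
of stages. -/
theorem exists_henselian_union (H : Subalgebra A S) [HenselianLocalRing H]
    [IsLocalHom (algebraMap H S)] {E : Subalgebra A S} [IsLocalRing E] [IsLocalHom (algebraMap E S)]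
    (hE : EGA4loc.IsEssentiallyEtale A E) (hEH : E ≤ H) :
    ∃ (U : Subalgebra A S) (_ : HenselianLocalRing U), E ≤ U ∧ U ≤ H ∧
      IsLocalHom (algebraMap U S) ∧
      (∀ x ∈ U, ∃ e : E, residue S x = residue S (e : S)) ∧
      ∀ s : Finset S, (s : Set S) ⊆ U → ∃ E' : Subalgebra A S, (s : Set S) ⊆ E' ∧ E' ≤ H ∧
        ∃ _ : IsLocalRing E', EGA4loc.IsEssentiallyEtale A E' := by
  classical
  haveI := Lib.Henselian.StrictHenselization.flat A S
  haveI := isLocalHom hE
  let Eh := Lib.Henselian.Henselization.Henselization E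
  let j : E →+* H := (Subalgebra.inclusion hEH).toRingHom
  haveI : IsLocalHom j := ⟨fun x hx =>
    IsLocalHom.map_nonunit (f := algebraMap E S) x (hx.map (algebraMap H S))⟩
  obtain ⟨u, hu, -⟩ := Hensel.IsHenselization.universal (R := E) (S := Eh) H j inferInstance
  haveI : Algebra.EssFiniteType A E := (Lib.Henselian.EssEtale.formallyEtale hE).2
  letI : Algebra A Eh := ((algebraMap E Eh).comp (algebraMap A E)).toAlgebra
  haveI : IsScalarTower A E Eh := IsScalarTower.of_algebraMap_eq' rfl
  let uS : Eh →ₐ[A] S :=
    { (algebraMap H S).comp u with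
      commutes' := fun a => by
        show algebraMap H S (u (algebraMap A Eh a)) = _
        rw [show algebraMap A Eh a = algebraMap E Eh (algebraMap A E a) from
          (IsScalarTower.algebraMap_apply A E Eh a), show u (algebraMap E Eh (algebraMap A E a)) =
            j (algebraMap A E a) from RingHom.congr_fun hu _]
        rfl }
  haveI : IsLocalRing uS.range :=
    haveI : Nontrivial uS.range := ⟨⟨0, 1, fun h => zero_ne_one (congrArg Subtype.val h)⟩⟩
    IsLocalRing.of_surjective' uS.rangeRestrict.toRingHom uS.rangeRestrict_surjective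
  letI : Algebra Eh uS.range := uS.rangeRestrict.toRingHom.toAlgebra
  haveI : Algebra.IsIntegral Eh uS.range := ⟨fun x => by
    obtain ⟨y, rfl⟩ := uS.rangeRestrict_surjective x
    exact isIntegral_algebraMap⟩
  haveI : HenselianLocalRing uS.range :=
    Lib.Henselian.LocalRing.henselianLocalRing_of_isIntegral Eh uS.range
  have hres : ∀ x : Eh, ∃ e : E, x - algebraMap E Eh e ∈ maximalIdeal Eh :=
    Lib.Henselian.Henselization.exists_sub_mem E Eh
  have hloc : IsLocalHom u := by
    refine ((local_hom_TFAE u).out 0 2).mpr ?_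
    rw [← Lib.Henselian.Henselization.map_maximalIdeal_self E, Ideal.map_map, hu]
    exact map_maximalIdeal_le j
  haveI : IsLocalHom (algebraMap uS.range S) := ⟨fun x hx => by
    obtain ⟨y, rfl⟩ := uS.rangeRestrict_surjective x
    have h : IsUnit (u y) := IsLocalHom.map_nonunit (f := algebraMap H S) _ hx
    exact (hloc.map_nonunit y h).map uS.rangeRestrict⟩
  refine ⟨uS.range, inferInstance, ?_, ?_, inferInstance, ?_, fun s hs => ?_⟩
  · intro x hx
    refine ⟨algebraMap E Eh ⟨x, hx⟩, ?_⟩
    show algebraMap H S (u (algebraMap E Eh ⟨x, hx⟩)) = x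
    rw [show u (algebraMap E Eh ⟨x, hx⟩) = j ⟨x, hx⟩ from RingHom.congr_fun hu _]
    rfl
  · rintro x ⟨y, rfl⟩; exact (u y).2
  · rintro x ⟨y, rfl⟩
    obtain ⟨e, he⟩ := hres y
    refine ⟨e, ?_⟩
    rw [← sub_eq_zero, ← map_sub, residue_eq_zero_iff]
    have h := map_nonunit ((algebraMap H S).comp u) _ he
    rw [RingHom.comp_apply, map_sub, map_sub, show u (algebraMap E Eh e) = j e from
      RingHom.congr_fun hu _] at h
    exact h
  · have hex : ∀ x ∈ s, ∃ (i : Lib.Henselian.Pointed.Pt E (ResidueField E)) (y : i.Loc),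
        uS (Lib.Henselian.Pointed.Lim.of i y) = x := fun x hx => by
      obtain ⟨y, hy⟩ := hs hx
      obtain ⟨i, z, rfl⟩ := Lib.Henselian.Pointed.Lim.exists_of y
      exact ⟨i, z, hy⟩
    choose! i y hy using hex
    obtain ⟨k, hk⟩ := Finset.exists_le (s.image i)
    haveI : IsLocalRing k.Loc := RingHom.domain_isLocalRing (k.α : k.Loc →+* ResidueField E)
    haveI : IsLocalHom (algebraMap E k.Loc) := ⟨fun a ha => by
      have h := ha.map k.α
      rw [AlgHom.commutes] at h
      exact IsUnit.of_map (residue E) a h⟩
    haveI : Algebra.EssFiniteType k.Alg k.Loc :=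
      Algebra.EssFiniteType.of_isLocalization k.Loc k.units
    haveI : Algebra.EssFiniteType E k.Loc := Algebra.EssFiniteType.comp E k.Alg k.Loc
    haveI : Module.Flat k.Alg k.Loc := IsLocalization.flat k.Loc k.units
    haveI : Module.Flat E k.Loc := Module.Flat.trans E k.Alg k.Loc
    have hk' : EGA4loc.IsEssentiallyEtale E k.Loc := of_flat (A := E) (B := k.Loc)
    letI : Algebra A k.Loc := ((algebraMap E k.Loc).comp (algebraMap A E)).toAlgebra
    haveI : IsScalarTower A E k.Loc := IsScalarTower.of_algebraMap_eq' rfl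
    have hkA : EGA4loc.IsEssentiallyEtale A k.Loc := trans hE hk'
    haveI := isLocalHom hkA
    haveI := (Lib.Henselian.EssEtale.formallyEtale hkA).1
    haveI := (Lib.Henselian.EssEtale.formallyEtale hkA).2
    let g : k.Loc →ₐ[A] S :=
      { uS.toRingHom.comp (Lib.Henselian.Pointed.Lim.of k).toRingHom with
        commutes' := fun a => by
          show uS (Lib.Henselian.Pointed.Lim.of k (algebraMap E k.Loc (algebraMap A E a))) = _
          rw [AlgHom.commutes, ← IsScalarTower.algebraMap_apply]
          exact uS.commutes a }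
    haveI hgloc : IsLocalHom g.toRingHom := Lib.Henselian.EssEtale.isLocalHom_algHom hkA g
    have hgflat : g.toRingHom.Flat := flat_of_algHom g
    have hginj : Function.Injective g := by
      letI := g.toRingHom.toAlgebra
      haveI : Module.Flat k.Loc S := hgflat
      haveI : IsLocalHom (algebraMap k.Loc S) := hgloc
      haveI : Module.FaithfullyFlat k.Loc S := Module.FaithfullyFlat.of_flat_of_isLocalHom
      exact FaithfulSMul.algebraMap_injective k.Loc S
    let e := AlgEquiv.ofInjective g hginj
    refine ⟨g.range, fun x hx => ?_, ?_, e.toRingEquiv.isLocalRing, of_algEquiv hkA e.symm⟩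
    · refine ⟨Lib.Henselian.Pointed.Pt.trans (hk _ (Finset.mem_image_of_mem i hx)) (y x), ?_⟩
      show uS (Lib.Henselian.Pointed.Lim.of k _) = x
      rw [Lib.Henselian.Pointed.Lim.of_trans]
      exact hy x hx
    · rintro x ⟨z, rfl⟩; exact (u _).2

/-- Henselian subalgebras with flat `S` are unions of stages. -/
theorem exists_stage_le (H : Subalgebra A S) [HenselianLocalRing H] [IsLocalHom (algebraMap H S)]
    [Module.Flat H S] (s : Finset S) (hs : (s : Set S) ⊆ H) :
    ∃ E : Subalgebra A S, (s : Set S) ⊆ E ∧ E ≤ H ∧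
      ∃ _ : IsLocalRing E, EGA4loc.IsEssentiallyEtale A E := by
  classical
  haveI := (Hensel.IsStrictHenselization.isSepClosure (R := A) (S := S)).separable
  haveI : IsLocalHom (algebraMap A H) := ⟨fun a ha =>
    IsLocalHom.map_nonunit (f := algebraMap A S) a (ha.map (algebraMap H S))⟩
  haveI : HenselianLocalRing S := Hensel.IsStrictHenselization.henselian (R := A)
  obtain ⟨F, _, hsF, hFloc, hF, -⟩ := exists_stage (A := A) s
  haveI := hFloc
  haveI := isLocalHom hF
  haveI := (Lib.Henselian.EssEtale.formallyEtale hF).1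
  haveI := (Lib.Henselian.EssEtale.formallyEtale hF).2
  let k := ResidueField A
  let kH := ResidueField H
  let kS := ResidueField S
  haveI : IsScalarTower k kH kS :=
    IsScalarTower.of_algebraMap_eq fun z => by obtain ⟨z, rfl⟩ := residue_surjective z; rfl
  haveI : IsScalarTower k (ResidueField F) kS :=
    IsScalarTower.of_algebraMap_eq fun z => by obtain ⟨z, rfl⟩ := residue_surjective z; rfl
  haveI : Algebra.IsSeparable k kH := Algebra.isSeparable_tower_bot_of_isSeparable k kH kS
  haveI : Algebra.IsSeparable kH kS := Algebra.isSeparable_tower_top_of_isSeparable k kH kS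
  let ρF := IsScalarTower.toAlgHom k (ResidueField F) kS
  haveI : FiniteDimensional k ρF.fieldRange :=
    Module.Finite.equiv (AlgEquiv.ofInjectiveField ρF).toLinearEquiv
  obtain ⟨θN, hθN⟩ := Field.exists_primitive_element k ρF.fieldRange
  let θ : kS := θN
  have hθ : k⟮θ⟯ = ρF.fieldRange := by
    have := congrArg (IntermediateField.map ρF.fieldRange.val) hθN
    rw [IntermediateField.adjoin_map, Set.image_singleton, ← AlgHom.fieldRange_eq_map,
      IntermediateField.fieldRange_val] at this
    exact this
  -- the residue field needed from `H`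
  let g := minpoly kH θ
  have hθint : IsIntegral kH θ := Algebra.IsIntegral.isIntegral θ
  let K' := IntermediateField.adjoin k (g.coeffs : Set kH)
  haveI : FiniteDimensional k K' :=
    IntermediateField.finiteDimensional_adjoin fun x _ => Algebra.IsIntegral.isIntegral x
  obtain ⟨θK, hθK⟩ := Field.exists_primitive_element k K'
  let θ' : kH := θK
  have hθ' : k⟮θ'⟯ = K' := by
    have := congrArg (IntermediateField.map K'.val) hθK
    rw [IntermediateField.adjoin_map, Set.image_singleton, ← AlgHom.fieldRange_eq_map,
      IntermediateField.fieldRange_val] at this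
    exact this
  obtain ⟨E, _, hEH, hEloc, hE, hEres⟩ := exists_lift H θ'
  haveI := hEloc
  obtain ⟨U, _, hEU, hUH, hUloc, hUres, hUind⟩ := exists_henselian_union H hE hEH
  haveI := hUloc
  -- lift `g` to `U`
  let iU : U →+* H := (Subalgebra.inclusion hUH).toRingHom
  haveI : IsLocalHom iU := ⟨fun x hx =>
    IsLocalHom.map_nonunit (f := algebraMap U S) x (hx.map (algebraMap H S))⟩
  have hcoeff : ∀ n, ∃ c : U, ResidueField.map iU (residue U c) = g.coeff n := by
    intro n
    have hmem : g.coeff n ∈ k⟮θ'⟯ := by
      rw [hθ']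
      by_cases hn : g.coeff n = 0
      · rw [hn]; exact zero_mem _
      · exact IntermediateField.subset_adjoin _ _ (Polynomial.coeff_mem_coeffs hn)
    obtain ⟨y, hy⟩ := hEres _ hmem
    refine ⟨⟨y, hEU y.2⟩, (ResidueField.map (algebraMap H S)).injective ?_⟩
    rw [ResidueField.map_residue, ResidueField.map_residue, ← hy]
    rfl
  let j := (ResidueField.map iU).comp (residue U)
  obtain ⟨G, hG, hGdeg, hGmon⟩ := Polynomial.lifts_and_natDegree_eq_and_monic
    (f := j) (p := g) ((Polynomial.lifts_iff_coeff_lifts _).mpr hcoeff) (minpoly.monic hθint)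
  have hGirr : Irreducible (G.map (residue U)) := by
    refine Polynomial.Monic.irreducible_of_irreducible_map (ResidueField.map iU) _ (hGmon.map _) ?_
    rw [Polynomial.map_map]
    exact hG.symm ▸ minpoly.irreducible hθint
  -- the root
  letI : Algebra U S := U.toAlgebra
  obtain ⟨η₀, hη₀⟩ := residue_surjective θ
  have hresU : ∀ p : Polynomial U, residue S (aeval η₀ p) = aeval θ (p.map j) := fun p => by
    rw [aeval_def, hom_eval₂, aeval_def, eval₂_map, hη₀]
    rfl
  have hev : (G.map (algebraMap U S)).eval η₀ ∈ maximalIdeal S := by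
    rw [← residue_eq_zero_iff, eval_map_algebraMap, hresU, hG, minpoly.aeval]
  have hder : IsUnit ((G.map (algebraMap U S)).derivative.eval η₀) := by
    rw [derivative_map, eval_map_algebraMap, ← notMem_maximalIdeal, ← residue_eq_zero_iff, hresU,
      ← derivative_map, hG]
    exact (Algebra.IsSeparable.isSeparable kH θ).aeval_derivative_ne_zero (minpoly.aeval _ _)
  obtain ⟨η, hη, hηη₀⟩ := HenselianLocalRing.is_henselian _ (hGmon.map _) η₀ hev hder
  have hηθ : residue S η = θ := by
    rw [← hη₀, ← sub_eq_zero, ← map_sub, residue_eq_zero_iff]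
    exact hηη₀
  have hroot : aeval η G = 0 := by rwa [IsRoot, eval_map_algebraMap] at hη
  -- the henselian algebra `U[η]`
  let φU : AdjoinRoot G →ₐ[U] S :=
    AdjoinRoot.liftAlgHom G (Algebra.ofId U S) η (by rw [← hroot]; rfl)
  let φ : AdjoinRoot G →ₐ[A] S := φU.restrictScalars A
  obtain ⟨hBloc, hBmax⟩ := isLocalRing_adjoinRoot hGmon hGirr
  haveI := hBloc
  haveI : Module.Finite U (AdjoinRoot G) := hGmon.finite_adjoinRoot
  haveI : HenselianLocalRing (AdjoinRoot G) :=
    Lib.Henselian.LocalRing.henselianLocalRing_of_isIntegral U (AdjoinRoot G)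
  haveI : IsLocalHom φ.toRingHom := by
    refine ((local_hom_TFAE φ.toRingHom).out 0 2).mpr ?_
    rw [← eq_maximalIdeal hBmax, Ideal.map_map,
      show φ.toRingHom.comp (algebraMap U (AdjoinRoot G)) = algebraMap U S from φU.comp_algebraMap]
    exact map_maximalIdeal_le _
  haveI : IsLocalRing φ.range :=
    haveI : Nontrivial φ.range := ⟨⟨0, 1, fun h => zero_ne_one (congrArg Subtype.val h)⟩⟩
    IsLocalRing.of_surjective' φ.rangeRestrict.toRingHom φ.rangeRestrict_surjective
  haveI : IsLocalHom (algebraMap φ.range S) := ⟨fun x hx => by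
    obtain ⟨y, rfl⟩ := φ.rangeRestrict_surjective x
    exact (IsLocalHom.map_nonunit (f := φ.toRingHom) y hx).map φ.rangeRestrict⟩
  letI : Algebra (AdjoinRoot G) φ.range := φ.rangeRestrict.toRingHom.toAlgebra
  haveI : Algebra.IsIntegral (AdjoinRoot G) φ.range := ⟨fun x => by
    obtain ⟨y, rfl⟩ := φ.rangeRestrict_surjective x
    exact isIntegral_algebraMap⟩
  haveI : HenselianLocalRing φ.range :=
    Lib.Henselian.LocalRing.henselianLocalRing_of_isIntegral (AdjoinRoot G) φ.range
  have hFG : F ≤ φ.range := by
    refine le_of_henselian hF fun x => ?_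
    have hmem : residue S (x : S) ∈ k⟮θ⟯ := by
      rw [hθ]; exact ⟨residue F x, rfl⟩
    have hmem' : residue S (x : S) ∈ (k⟮θ⟯).toSubalgebra := hmem
    rw [IntermediateField.adjoin_simple_toSubalgebra_of_isAlgebraic
      (Algebra.IsAlgebraic.isAlgebraic _), Algebra.adjoin_singleton_eq_range_aeval] at hmem'
    obtain ⟨p, hp⟩ := hmem'
    obtain ⟨p, rfl⟩ := Polynomial.map_surjective (residue A) residue_surjective p
    refine ⟨φ.rangeRestrict (AdjoinRoot.mk G (p.map (algebraMap A U))), ?_⟩
    show residue S (φU (AdjoinRoot.mk G (p.map (algebraMap A U)))) = _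
    rw [show φU (AdjoinRoot.mk G (p.map (algebraMap A U))) = aeval η (p.map (algebraMap A U)) from
      AdjoinRoot.liftAlgHom_mk _ _ _ _ _, aeval_map_algebraMap, ← hp, aeval_def, hom_eval₂, hηθ]
    show _ = aeval θ (p.map (residue A))
    rw [aeval_def, eval₂_map]
    rfl
  -- coordinates
  have hind : LinearIndependent H fun i : Fin g.natDegree => η ^ (i : ℕ) := by
    haveI : IsScalarTower H kH kS := IsScalarTower.of_algebraMap_eq' rfl
    let f : kH ⊗[H] S →ₗ[kH] kS := TensorProduct.AlgebraTensorModule.lift
      { toFun := fun c => c • (Algebra.linearMap S kS).restrictScalars H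
        map_add' := fun c d => add_smul c d _
        map_smul' := fun c d => by rw [RingHom.id_apply, smul_eq_mul, mul_smul] }
    refine Module.IsLocalRing.linearIndependent_of_flat _ (LinearIndependent.of_comp f ?_)
    have : (f ∘ TensorProduct.mk H kH S 1 ∘ fun i : Fin g.natDegree => η ^ (i : ℕ)) =
        fun i : Fin g.natDegree => θ ^ (i : ℕ) := funext fun i => by
      show (1 : kH) • residue S (η ^ (i : ℕ)) = _
      rw [one_smul, map_pow, hηθ]
    rw [this]
    exact linearIndependent_pow θ
  have hsU : (s : Set S) ⊆ U := by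
    intro x hx
    obtain ⟨b, hb⟩ := hFG (hsF hx)
    obtain ⟨p, rfl⟩ := AdjoinRoot.mk_surjective b
    have hp : AdjoinRoot.mk G p = AdjoinRoot.mk G (p %ₘ G) := by
      conv_lhs => rw [← Polynomial.modByMonic_add_div p G]
      rw [map_add, map_mul, AdjoinRoot.mk_self, zero_mul, add_zero]
    have hx' : x = aeval η (p %ₘ G) := by
      rw [← hb, hp]
      show φU (AdjoinRoot.mk G (p %ₘ G)) = _
      exact AdjoinRoot.liftAlgHom_mk _ _ _ _ _
    have hdeg : (p %ₘ G).natDegree < g.natDegree := by
      rw [← hGdeg]
      exact Polynomial.natDegree_modByMonic_lt _ hGmon fun h1 => by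
        have := minpoly.natDegree_pos hθint
        rw [← hGdeg, h1, Polynomial.natDegree_one] at this
        exact lt_irrefl _ this
    rw [Polynomial.aeval_eq_sum_range' hdeg, Finset.sum_range] at hx'
    let i₀ : Fin g.natDegree := ⟨0, minpoly.natDegree_pos hθint⟩
    have hsum : ∑ i : Fin g.natDegree,
        (iU ((p %ₘ G).coeff i) - if i = i₀ then (⟨x, hs hx⟩ : H) else 0) • η ^ (i : ℕ) = 0 := by
      simp only [sub_smul, Finset.sum_sub_distrib, ite_smul, zero_smul, Finset.sum_ite_eq',
        Finset.mem_univ, if_true]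
      show _ - x * η ^ 0 = 0
      rw [pow_zero, mul_one, sub_eq_zero]
      exact hx'.symm
    have h0 := Fintype.linearIndependent_iff.mp hind _ hsum i₀
    rw [if_pos rfl, sub_eq_zero] at h0
    have h0' : (((p %ₘ G).coeff 0 : U) : S) = x := congrArg Subtype.val h0
    exact h0' ▸ ((p %ₘ G).coeff 0).2
  exact hUind s hsU

end Groth.Agent.H24.EssEtale.IndEtale
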