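import Groth.Agent.H24.EssEtale.Descent
import Groth.Agent.Lib.Henselian.NoetherianCriterion
import Mathlib.RingTheory.Smooth.IntegralClosure
import Mathlib.RingTheory.Smooth.Flat
import Mathlib.RingTheory.SimpleModule.Basic
import Mathlib.RingTheory.Artinian.Module
import Mathlib.RingTheory.IntegralClosure.IntegrallyClosed

/-!
# Normal domains inside essentially étale local algebras

* `bijective_toIntegralClosure`: formation of integral closures commutes with stages;
* `flat_of_isIntegrallyClosed`: a stage is flat over every normal domain contained in it;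
* `of_le_of_isIntegrallyClosed`: normal local subalgebras of a stage dominated by it are
  essentially étale.
-/

universe u

open IsLocalRing
open scoped nonZeroDivisors TensorProduct

namespace Groth.Agent.H24.EssEtale.Normal

theorem bijective_toIntegralClosure {A E : Type u} [CommRing A] [IsLocalRing A] [CommRing E]
    [Algebra A E] (hE : EGA4loc.IsEssentiallyEtale A E) (L : Type u) [CommRing L] [Algebra A L] :
    Function.Bijective (TensorProduct.toIntegralClosure A E L) := by
  obtain ⟨C, _, _, q, _, _, -, ⟨e⟩⟩ := hE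
  letI : Algebra C E :=
    (e.symm.toAlgHom.comp (IsScalarTower.toAlgHom A C (Localization.AtPrime q))).toRingHom.toAlgebra
  haveI : IsScalarTower A C E := IsScalarTower.of_algebraMap_eq fun a => by
    show _ = e.symm (algebraMap C _ (algebraMap A C a))
    rw [← IsScalarTower.algebraMap_apply, e.symm.commutes]
  haveI : IsLocalization q.primeCompl E :=
    IsLocalization.isLocalization_of_algEquiv q.primeCompl
      (AlgEquiv.ofRingEquiv (f := e.symm.toRingEquiv) fun _ => rfl :
        Localization.AtPrime q ≃ₐ[C] E)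
  exact TensorProduct.toIntegralClosure_bijective_of_tower
    (TensorProduct.toIntegralClosure_bijective_of_smooth (R := A) (S := C) (B := L))
    (TensorProduct.toIntegralClosure_bijective_of_isLocalization (R := C) (S := E)
      (B := C ⊗[A] L) q.primeCompl)

/-- A stage is flat over every normal domain contained in it. -/
theorem flat_of_isIntegrallyClosed {A D E : Type u} [CommRing A] [IsLocalRing A] [CommRing D]
    [IsDomain D] [IsIntegrallyClosed D] [CommRing E] [IsDomain E] [Algebra A D] [Algebra A E]
    [Algebra D E] [IsScalarTower A D E] (hE : EGA4loc.IsEssentiallyEtale A E)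
    (hinj : Function.Injective (algebraMap D E)) : Module.Flat D E := by
  obtain ⟨_, _⟩ := Lib.Henselian.EssEtale.formallyEtale hE
  haveI := flat hE
  let L := FractionRing D
  let M := FractionRing E
  have hg : Function.Injective ((algebraMap E M).comp (algebraMap D E)) :=
    (IsFractionRing.injective E M).comp hinj
  let fL : L →ₐ[A] M := IsFractionRing.liftAlgHom
    (g := (IsScalarTower.toAlgHom A E M).comp (IsScalarTower.toAlgHom A D E)) hg
  have hfL : ∀ d : D, fL (algebraMap D L d) = algebraMap E M (algebraMap D E d) := fun d =>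
    IsFractionRing.lift_algebraMap hg d
  let μL : L ⊗[A] E →ₐ[A] M :=
    Algebra.TensorProduct.productMap fL (IsScalarTower.toAlgHom A E M)
  haveI : Module.Finite L (L ⊗[A] E) := Algebra.FormallyUnramified.finite_of_free L (L ⊗[A] E)
  haveI : IsReduced (L ⊗[A] E) := Algebra.FormallyUnramified.isReduced_of_field L _
  haveI : IsArtinianRing (L ⊗[A] E) := isArtinian_of_tower L inferInstance
  haveI := IsArtinianRing.isSemisimpleRing_of_isReduced (L ⊗[A] E)
  obtain ⟨e, he, hker⟩ := IsSemisimpleRing.ideal_eq_span_idempotent (RingHom.ker μL.toRingHom)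
  -- the idempotent lies in `D ⊗ E`
  let ι : D ⊗[A] E →ₐ[A] L ⊗[A] E :=
    Algebra.TensorProduct.map (IsScalarTower.toAlgHom A D L) (AlgHom.id A E)
  have hι : Function.Injective ι :=
    Module.Flat.rTensor_preserves_injective_linearMap (M := E)
      (IsScalarTower.toAlgHom A D L).toLinearMap (IsFractionRing.injective D L)
  obtain ⟨ε, hε⟩ : ∃ ε, ι ε = e := by
    let σ := Algebra.TensorProduct.comm A L E
    have hint : IsIntegral E (σ e) :=
      ⟨Polynomial.X ^ 2 - Polynomial.X, (Polynomial.monic_X_pow 2).sub_of_left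
        (by rw [Polynomial.degree_X_pow, Polynomial.degree_X]; decide),
        by simp [sq, ← map_mul, he.eq]⟩
    obtain ⟨y, hy⟩ := (bijective_toIntegralClosure hE L).2 ⟨σ e, hint⟩
    replace hy : Algebra.TensorProduct.map (AlgHom.id E E) (integralClosure A L).val y = σ e :=
      congrArg Subtype.val hy
    rw [← σ.symm_apply_apply e, ← hy]
    clear hy
    induction y using TensorProduct.induction_on with
    | zero => exact ⟨0, by simp⟩
    | tmul x c =>
      obtain ⟨d, hd⟩ := IsIntegrallyClosed.isIntegral_iff.mp
        (show IsIntegral D (c : L) from IsIntegral.tower_top c.2)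
      refine ⟨d ⊗ₜ x, ?_⟩
      simp [ι, σ, hd]
    | add u v hu hv =>
      obtain ⟨a, ha⟩ := hu
      obtain ⟨b, hb⟩ := hv
      exact ⟨a + b, by rw [map_add, ha, hb, map_add, map_add]⟩
  let μ : D ⊗[A] E →ₐ[D] E := Algebra.TensorProduct.lift (Algebra.ofId D E)
    (IsScalarTower.toAlgHom A E E) (fun _ _ => .all _ _)
  have hμι : ∀ z, μL (ι z) = algebraMap E M (μ z) := by
    intro z
    induction z using TensorProduct.induction_on with
    | zero => simp
    | tmul d x =>
      show fL (algebraMap D L d) * algebraMap E M x = algebraMap E M (algebraMap D E d * x)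
      rw [hfL, map_mul]
    | add u v hu hv => rw [map_add, map_add, hu, hv, map_add, map_add]
  have hμε : μ ε = 0 := by
    apply IsFractionRing.injective E M
    rw [← hμι, hε, map_zero]
    exact RingHom.mem_ker.mp (hker ▸ Ideal.mem_span_singleton_self e : e ∈ _)
  have hkill : ∀ z, μ z = 0 → z * (1 - ε) = 0 := by
    intro z hz
    apply hι
    have hmem : ι z ∈ RingHom.ker μL.toRingHom := by
      refine RingHom.mem_ker.mpr ?_
      show μL (ι z) = 0
      rw [hμι, hz, map_zero]
    rw [hker] at hmem
    obtain ⟨w, hw⟩ := Ideal.mem_span_singleton'.mp hmem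
    rw [map_mul, map_sub, map_one, map_zero, hε, ← hw, mul_sub, mul_one, mul_assoc, he.eq, sub_self]
  have hone : ∀ x : E, μ (1 ⊗ₜ[A] x) = x := fun x => by
    show algebraMap D E 1 * x = x
    rw [map_one, one_mul]
  let s : E →ₗ[D] D ⊗[A] E :=
    { toFun := fun x => (1 ⊗ₜ[A] x) * (1 - ε)
      map_add' := fun x y => by rw [TensorProduct.tmul_add, add_mul]
      map_smul' := fun d x => by
        rw [RingHom.id_apply]
        rw [← sub_eq_zero, ← smul_mul_assoc, ← sub_mul]
        refine hkill _ ?_
        rw [map_sub, map_smul, hone, hone, sub_self] }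
  exact Module.Flat.of_retract s μ.toLinearMap (LinearMap.ext fun x => by
    show μ ((1 ⊗ₜ[A] x) * (1 - ε)) = x
    rw [map_mul, map_sub, map_one, hμε, hone, sub_zero, mul_one])

variable {A S : Type u} [CommRing A] [IsLocalRing A] [CommRing S] [IsLocalRing S] [Algebra A S]
  [IsLocalHom (algebraMap A S)] [Hensel.IsStrictHenselization A S]

/-- Normal local subalgebras of a stage, dominated by it, are essentially étale. -/
theorem of_le_of_isIntegrallyClosed [IsDomain S] [IsNoetherianRing A]
    [IsArtinianRing (FractionRing A)] (D : Subalgebra A S) [IsLocalRing D]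
    [IsLocalHom (algebraMap D S)] [IsIntegrallyClosed D] {E : Subalgebra A S} [IsLocalRing E]
    (hle : D ≤ E) (hE : EGA4loc.IsEssentiallyEtale A E) : EGA4loc.IsEssentiallyEtale A D := by
  haveI := isLocalHom hE
  obtain ⟨_, _⟩ := Lib.Henselian.EssEtale.formallyEtale hE
  haveI := flat hE
  letI : Algebra D E := (Subalgebra.inclusion hle).toRingHom.toAlgebra
  haveI : IsScalarTower A D E := IsScalarTower.of_algebraMap_eq fun a => rfl
  haveI : IsLocalHom (algebraMap D E) := ⟨fun d hd =>
    IsLocalHom.map_nonunit (f := algebraMap D S) d (hd.map E.val)⟩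
  haveI : Module.Flat D E := flat_of_isIntegrallyClosed hE (Subalgebra.inclusion_injective hle)
  haveI : Module.FaithfullyFlat D E := Module.FaithfullyFlat.of_flat_of_isLocalHom
  haveI : IsNoetherianRing E := Algebra.EssFiniteType.isNoetherianRing A E
  haveI : IsNoetherianRing D := Lib.Henselian.NoetherianCriterion.isNoetherianRing_of_faithfullyFlat (S := E) D
  have hm : (maximalIdeal A).map (algebraMap A D) = maximalIdeal D := by
    have h1 : (maximalIdeal D).map (algebraMap D E) ≤
        ((maximalIdeal A).map (algebraMap A D)).map (algebraMap D E) := by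
      rw [Ideal.map_map, ← IsScalarTower.algebraMap_eq A D E,
        Lib.Henselian.EssEtale.map_maximalIdeal hE]
      exact map_maximalIdeal_le _
    refine le_antisymm ?_ ?_
    · have hne : (maximalIdeal A).map (algebraMap A D) ≠ ⊤ := fun h => by
        have h2 := Lib.Henselian.EssEtale.map_maximalIdeal hE
        rw [IsScalarTower.algebraMap_eq A D E, ← Ideal.map_map, h, Ideal.map_top] at h2
        exact (maximalIdeal.isMaximal E).ne_top h2.symm
      exact le_maximalIdeal hne
    · rw [← Ideal.comap_map_eq_self_of_faithfullyFlat (B := E) ((maximalIdeal A).map (algebraMap A D))]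
      exact Ideal.le_comap_of_map_le h1
  obtain ⟨T, hT⟩ := Sub.exists_finset_span_of_le D hle hE
  haveI := Descent.essFiniteType_of_flat hE T fun x => by
    obtain ⟨a, ha, hax⟩ := hT x
    exact ⟨a, ha, Algebra.span_le_adjoin A _ hax⟩
  exact Sub.of_le D hle hE hm

omit [IsLocalHom (algebraMap A S)] [Hensel.IsStrictHenselization A S] [IsLocalRing A]
  [IsLocalRing S] in
/-- A faithfully flat stage contains the fractions of its elements lying in `S`. -/
theorem mem_of_mul_eq [IsDomain S] {E : Subalgebra A S} [Module.FaithfullyFlat E S] {x p q : S}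
    (hp : p ∈ E) (hq : q ∈ E) (hq0 : q ≠ 0) (h : x * q = p) : x ∈ E := by
  have hmem : (⟨p, hp⟩ : E) ∈ Ideal.comap (algebraMap E S)
      ((Ideal.span {(⟨q, hq⟩ : E)}).map (algebraMap E S)) := by
    rw [Ideal.mem_comap, Ideal.map_span, Set.image_singleton]
    exact Ideal.mem_span_singleton'.mpr ⟨x, h⟩
  rw [Ideal.comap_map_eq_self_of_faithfullyFlat, Ideal.mem_span_singleton'] at hmem
  obtain ⟨e, he⟩ := hmem
  have he' : (e : S) * q = p := congrArg Subtype.val he
  rw [mul_right_cancel₀ hq0 (h.trans he'.symm)]
  exact e.2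

omit [IsLocalHom (algebraMap A S)] [Hensel.IsStrictHenselization A S] [IsLocalRing A] in
/-- If the fraction field is generated by `s`, every element is a fraction of elements of `A[s]`. -/
theorem exists_mul_eq_of_closure_eq_top (D : Subalgebra A S) [IsDomain D] (s : Finset D)
    (hs : Subfield.closure (Set.range (algebraMap A (FractionRing D)) ∪
      (algebraMap D (FractionRing D)) '' (s : Set D)) = ⊤) (x : D) :
    ∃ p ∈ Algebra.adjoin A (s : Set D), ∃ q ∈ Algebra.adjoin A (s : Set D), q ≠ 0 ∧ x * q = p := by
  let K := FractionRing D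
  have hi := IsFractionRing.injective D K
  have key : ∀ z ∈ Subfield.closure (Set.range (algebraMap A K) ∪
      (algebraMap D K) '' (s : Set D)), ∃ p ∈ Algebra.adjoin A (s : Set D),
      ∃ q ∈ Algebra.adjoin A (s : Set D), q ≠ 0 ∧ z * algebraMap D K q = algebraMap D K p := by
    intro z hz
    induction hz using Subfield.closure_induction with
    | mem z hz =>
      rcases hz with ⟨a, rfl⟩ | ⟨d, hd, rfl⟩
      · exact ⟨algebraMap A D a, Subalgebra.algebraMap_mem _ a, 1, one_mem _, one_ne_zero, by
          rw [map_one, mul_one, ← IsScalarTower.algebraMap_apply]⟩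
      · exact ⟨d, Algebra.subset_adjoin hd, 1, one_mem _, one_ne_zero, by rw [map_one, mul_one]⟩
    | one => exact ⟨1, one_mem _, 1, one_mem _, one_ne_zero, one_mul _⟩
    | add y z _ _ hy hz =>
      obtain ⟨p, hp, q, hq, hq0, h⟩ := hy
      obtain ⟨p', hp', q', hq', hq0', h'⟩ := hz
      refine ⟨p * q' + p' * q, add_mem (mul_mem hp hq') (mul_mem hp' hq), q * q', mul_mem hq hq',
        mul_ne_zero hq0 hq0', ?_⟩
      rw [map_mul, map_add, map_mul, map_mul, ← h, ← h']
      ring
    | neg y _ hy =>
      obtain ⟨p, hp, q, hq, hq0, h⟩ := hy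
      exact ⟨-p, neg_mem hp, q, hq, hq0, by rw [map_neg, ← h, neg_mul]⟩
    | inv y _ hy =>
      obtain ⟨p, hp, q, hq, hq0, h⟩ := hy
      by_cases hy0 : y = 0
      · exact ⟨0, zero_mem _, 1, one_mem _, one_ne_zero, by rw [hy0, inv_zero, zero_mul, map_zero]⟩
      · refine ⟨q, hq, p, hp, fun hp0 => ?_, by rw [← h, inv_mul_cancel_left₀ hy0]⟩
        rw [hp0, map_zero, mul_eq_zero] at h
        exact h.elim hy0 fun hq' => hq0 (hi (hq'.trans (map_zero _).symm))
    | mul y z _ _ hy hz =>
      obtain ⟨p, hp, q, hq, hq0, h⟩ := hy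
      obtain ⟨p', hp', q', hq', hq0', h'⟩ := hz
      refine ⟨p * p', mul_mem hp hp', q * q', mul_mem hq hq', mul_ne_zero hq0 hq0', ?_⟩
      rw [map_mul, map_mul, ← h, ← h']
      ring
  obtain ⟨p, hp, q, hq, hq0, h⟩ := key (algebraMap D K x) (hs ▸ Subfield.mem_top _)
  exact ⟨p, hp, q, hq, hq0, hi (by rw [map_mul, h])⟩

end Groth.Agent.H24.EssEtale.Normal
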