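import Groth.Agent.H24.EssEtale.Normal
import Groth.Agent.Lib.Henselian.Finite
import Groth.Agent.Lib.Excellent.Nagata
import Mathlib.RingTheory.Flat.EquationalCriterion

/-!
# Normalizations inside essentially étale algebras, without domain hypotheses

* `isReduced_tensor`: `L ⊗ E` is reduced for `L` reduced Artinian;
* `flat_of_mem_range`: integrally closed subrings of a reduced Artinian algebra have flat normalized
  stages;
* `finite_integralClosure`: finiteness of integral closures in finite reduced algebras (Nagata);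
* `essFiniteType_of_integral`: descending essential finite type along semilocal integral extensions.
-/

universe u

open IsLocalRing
open scoped nonZeroDivisors TensorProduct

namespace Groth.Agent.H24.EssEtale.NormalSemi

theorem isReduced_tensor {A E L : Type u} [CommRing A] [CommRing E] [Algebra A E] [Module.Flat A E]
    [Algebra.FormallyUnramified A E] [Algebra.EssFiniteType A E] [CommRing L] [Algebra A L]
    [IsReduced L] [IsArtinianRing L] : IsReduced (L ⊗[A] E) := by
  classical
  haveI := Fintype.ofFinite (MaximalSpectrum L)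
  let P : L →ₐ[A] ∀ m : MaximalSpectrum L, L ⧸ m.asIdeal :=
    Pi.algHom A _ fun m => Ideal.Quotient.mkₐ A m.asIdeal
  have hP : Function.Injective P := by
    refine (injective_iff_map_eq_zero P.toRingHom).mpr fun x hx => ?_
    have h : x ∈ nilradical L := by
      rw [nilradical_eq_sInf, Ideal.mem_sInf]
      intro p hp
      haveI := hp.out
      haveI : p.IsMaximal := IsArtinianRing.isMaximal_of_isPrime p
      exact Ideal.Quotient.eq_zero_iff_mem.mp (congrFun hx ⟨p, inferInstance⟩)
    rwa [nilradical_eq_zero, Ideal.zero_eq_bot, Ideal.mem_bot] at h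
  let e : (∀ m : MaximalSpectrum L, L ⧸ m.asIdeal) ⊗[A] E ≃ₐ[A]
      ∀ m : MaximalSpectrum L, E ⊗[A] (L ⧸ m.asIdeal) :=
    (Algebra.TensorProduct.comm A _ E).trans (Algebra.TensorProduct.piRight A A E _)
  have hinj : Function.Injective (e.toAlgHom.comp (Algebra.TensorProduct.map P (AlgHom.id A E))) :=
    e.injective.comp (Module.Flat.rTensor_preserves_injective_linearMap (M := E) P.toLinearMap hP)
  haveI : ∀ m : MaximalSpectrum L, IsReduced (E ⊗[A] (L ⧸ m.asIdeal)) := fun m => by
    letI := Ideal.Quotient.field m.asIdeal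
    haveI : IsReduced ((L ⧸ m.asIdeal) ⊗[A] E) :=
      Algebra.FormallyUnramified.isReduced_of_field (L ⧸ m.asIdeal) _
    exact isReduced_of_injective (Algebra.TensorProduct.comm A E _).toAlgHom
      (Algebra.TensorProduct.comm A E _).injective
  exact isReduced_of_injective _ hinj

/-- Let `B` be integrally closed in the reduced Artinian algebra `L`, over which `L ⊗ E` is finite.
An algebra `R` in `M` generated by `B` and `E` is flat over `B`. -/
theorem flat_of_mem_range {A E : Type u} [CommRing A] [IsLocalRing A] [CommRing E] [Algebra A E]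
    (hE : EGA4loc.IsEssentiallyEtale A E) {B L R M : Type u} [CommRing B] [CommRing L]
    [IsReduced L] [IsArtinianRing L] [Algebra A L] [CommRing R] [CommRing M] [Algebra A B]
    [Algebra A R] [Algebra A M] [Algebra B R] [IsScalarTower A B R] [IsArtinianRing (L ⊗[A] E)]
    (iB : B →ₐ[A] L) (hiB : Function.Injective iB)
    (hcl : ∀ c : L, IsIntegral A c → c ∈ iB.range)
    (iR : R →ₐ[A] M) (hiR : Function.Injective iR) (iL : L →ₐ[A] M)
    (hcomp : ∀ b, iR (algebraMap B R b) = iL (iB b)) (g : E →ₐ[A] R)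
    (hsurj : Function.Surjective (Algebra.TensorProduct.productMap (IsScalarTower.toAlgHom A B R) g)) :
    Module.Flat B R := by
  obtain ⟨_, _⟩ := Lib.Henselian.EssEtale.formallyEtale hE
  haveI := flat hE
  haveI := isLocalRing hE
  let μL : L ⊗[A] E →ₐ[A] M := Algebra.TensorProduct.productMap iL (iR.comp g)
  haveI : IsReduced (L ⊗[A] E) := isReduced_tensor
  haveI := IsArtinianRing.isSemisimpleRing_of_isReduced (L ⊗[A] E)
  obtain ⟨e, he, hker⟩ := IsSemisimpleRing.ideal_eq_span_idempotent (RingHom.ker μL.toRingHom)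
  let ι : B ⊗[A] E →ₐ[A] L ⊗[A] E := Algebra.TensorProduct.map iB (AlgHom.id A E)
  have hι : Function.Injective ι :=
    Module.Flat.rTensor_preserves_injective_linearMap (M := E) iB.toLinearMap hiB
  obtain ⟨ε, hε⟩ : ∃ ε, ι ε = e := by
    let σ := Algebra.TensorProduct.comm A L E
    have hint : IsIntegral E (σ e) :=
      ⟨Polynomial.X ^ 2 - Polynomial.X, (Polynomial.monic_X_pow 2).sub_of_left
        (by rw [Polynomial.degree_X_pow, Polynomial.degree_X]; decide),
        by simp [sq, ← map_mul, he.eq]⟩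
    obtain ⟨y, hy⟩ := (Normal.bijective_toIntegralClosure hE L).2 ⟨σ e, hint⟩
    replace hy : Algebra.TensorProduct.map (AlgHom.id E E) (integralClosure A L).val y = σ e :=
      congrArg Subtype.val hy
    rw [← σ.symm_apply_apply e, ← hy]
    clear hy
    induction y using TensorProduct.induction_on with
    | zero => exact ⟨0, by simp⟩
    | tmul x c =>
      obtain ⟨d, hd⟩ := hcl c c.2
      refine ⟨d ⊗ₜ x, ?_⟩
      change iB d = (c : L) at hd
      simp [ι, σ, hd]
    | add u v hu hv =>
      obtain ⟨a, ha⟩ := hu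
      obtain ⟨b, hb⟩ := hv
      exact ⟨a + b, by rw [map_add, ha, hb, map_add, map_add]⟩
  let μ : B ⊗[A] E →ₐ[B] R := Algebra.TensorProduct.lift (Algebra.ofId B R) g (fun _ _ => .all _ _)
  have hμs : Function.Surjective μ := fun r => by
    obtain ⟨z, rfl⟩ := hsurj r
    refine ⟨z, ?_⟩
    induction z using TensorProduct.induction_on with
    | zero => rw [map_zero, map_zero]
    | tmul d x => rfl
    | add u v hu hv => rw [map_add, map_add, hu, hv]
  have hμι : ∀ z, μL (ι z) = iR (μ z) := by
    intro z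
    induction z using TensorProduct.induction_on with
    | zero => simp
    | tmul d x =>
      show iL (iB d) * iR (g x) = iR (algebraMap B R d * g x)
      rw [map_mul, hcomp]
    | add u v hu hv => rw [map_add, map_add, hu, hv, map_add, map_add]
  have hμε : μ ε = 0 := by
    apply hiR
    rw [← hμι, hε, map_zero]
    exact RingHom.mem_ker.mp (hker ▸ Ideal.mem_span_singleton_self e : e ∈ _)
  have hkill : ∀ z, μ z = 0 → z * (1 - ε) = 0 := by
    intro z hz
    apply hι
    have hmem : ι z ∈ RingHom.ker μL.toRingHom := by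
      refine RingHom.mem_ker.mpr ?_
      show μL (ι z) = 0
      rw [hμι, hz, map_zero]
    rw [hker] at hmem
    obtain ⟨w, hw⟩ := Ideal.mem_span_singleton'.mp hmem
    rw [map_mul, map_sub, map_one, map_zero, hε, ← hw, mul_sub, mul_one, mul_assoc, he.eq, sub_self]
  choose sec hsec using hμs
  let s : R →ₗ[B] B ⊗[A] E :=
    { toFun := fun x => sec x * (1 - ε)
      map_add' := fun x y => by
        rw [← add_mul, ← sub_eq_zero, ← sub_mul]
        refine hkill _ ?_
        rw [map_sub, map_add, hsec, hsec, hsec, sub_self]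
      map_smul' := fun d x => by
        rw [RingHom.id_apply, ← sub_eq_zero, ← smul_mul_assoc, ← sub_mul]
        refine hkill _ ?_
        rw [map_sub, map_smul, hsec, hsec, sub_self] }
  exact Module.Flat.of_retract s μ.toLinearMap (LinearMap.ext fun x => by
    show μ (sec x * (1 - ε)) = x
    rw [map_mul, map_sub, map_one, hμε, hsec, sub_zero, mul_one])

theorem isArtinianRing_tensor {A E L : Type u} [CommRing A] [CommRing E] [Algebra A E]
    [Algebra.FormallyUnramified A E] [Algebra.EssFiniteType A E] [CommRing L] [Algebra A L]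
    [IsArtinianRing L] : IsArtinianRing (L ⊗[A] E) := by
  haveI : Module.Finite L (L ⊗[A] E) := Module.Finite.of_quasiFinite
  exact isArtinian_of_tower L inferInstance

/-- If `c` is divisible by `a` in a flat algebra, the colon ideal `(a : c)` generates the unit
ideal. -/
theorem one_mem_map_colon {C R : Type u} [CommRing C] [CommRing R] [Algebra C R] [Module.Flat C R]
    {c a : C} {x : R} (h : algebraMap C R c = algebraMap C R a * x) :
    (1 : R) ∈ Ideal.map (algebraMap C R)
      (Submodule.comap (LinearMap.mulRight C c) (Ideal.span {a})) := by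
  have hrel : ∑ j : Fin 2, ![c, -a] j • ![(1 : R), x] j = 0 := by
    rw [Fin.sum_univ_two]
    simp [Algebra.smul_def, h]
  obtain ⟨k, co, y, hy, hco⟩ :=
    Module.Flat.isTrivialRelation_of_sum_smul_eq_zero (R := C) (M := R) (ι := Fin 2) hrel
  rw [show (1 : R) = ∑ j, co 0 j • y j from hy 0]
  refine Ideal.sum_mem _ fun j _ => ?_
  rw [Algebra.smul_def]
  refine Ideal.mul_mem_right _ _ (Ideal.mem_map_of_mem _ ?_)
  have h' := hco j
  rw [Fin.sum_univ_two] at h'
  simp only [Matrix.cons_val_zero, Matrix.cons_val_one] at h'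
  exact Ideal.mem_span_singleton'.mpr ⟨co 1 j, by
    show _ = co 0 j * c
    linear_combination -h'⟩

/-- The colon ideal avoids finitely many primes of the flat algebra. -/
theorem exists_colon_notMem {C R : Type u} [CommRing C] [CommRing R] [Algebra C R] [Module.Flat C R]
    {c a : C} {x : R} (h : algebraMap C R c = algebraMap C R a * x) (Qs : Finset (Ideal R))
    (hQs : ∀ Q ∈ Qs, Q.IsPrime) :
    ∃ s w : C, w * a = s * c ∧ ∀ Q ∈ Qs, algebraMap C R s ∉ Q := by
  classical
  let J : Ideal C := Submodule.comap (LinearMap.mulRight C c) (Ideal.span {a})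
  have hnle : ¬ ((J : Set C) ⊆ ⋃ Q ∈ (Qs : Set (Ideal R)),
      ((Q.comap (algebraMap C R) : Ideal C) : Set C)) := fun hsub => by
    obtain ⟨Q, hQ, hle⟩ := (Ideal.subset_union_prime (s := Qs)
      (f := fun Q => Q.comap (algebraMap C R)) ⊥ ⊥
      (fun Q hQ _ _ => by haveI := hQs Q hQ; exact Ideal.IsPrime.comap _)).mp hsub
    have h' : J.map (algebraMap C R) ≤ Q := Ideal.map_le_iff_le_comap.mpr hle
    exact (hQs Q hQ).ne_top ((Ideal.eq_top_iff_one _).mpr (h' (one_mem_map_colon h)))
  obtain ⟨s, hsJ, hs⟩ := Set.not_subset.mp hnle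
  obtain ⟨w, hw⟩ := Ideal.mem_span_singleton'.mp (show s * c ∈ Ideal.span {a} from hsJ)
  exact ⟨s, w, hw, fun Q hQ hsQ => hs (Set.mem_biUnion hQ hsQ)⟩

/-- Finiteness of the integral closure in a finite reduced algebra. -/
theorem finite_integralClosure {A L : Type u} [CommRing A] (hA : CAlg.IsNagata A) [CommRing L]
    [IsReduced L] [IsArtinianRing L] [Algebra A L] [Algebra (FractionRing A) L]
    [IsScalarTower A (FractionRing A) L] [Module.Finite (FractionRing A) L] :
    Module.Finite A (integralClosure A L) := by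
  classical
  haveI := hA.1
  haveI := Fintype.ofFinite (MaximalSpectrum L)
  let K := FractionRing A
  have hfin : ∀ m : MaximalSpectrum L, Module.Finite A (integralClosure A (L ⧸ m.asIdeal)) := by
    intro m
    letI : Field (L ⧸ m.asIdeal) := Ideal.Quotient.field _
    let p := RingHom.ker (algebraMap A (L ⧸ m.asIdeal))
    haveI : p.IsPrime := RingHom.ker_isPrime _
    letI : Algebra (A ⧸ p) (L ⧸ m.asIdeal) :=
      (Ideal.Quotient.lift p (algebraMap A (L ⧸ m.asIdeal)) fun _ h => h).toAlgebra
    haveI : IsScalarTower A (A ⧸ p) (L ⧸ m.asIdeal) := IsScalarTower.of_algebraMap_eq fun _ => rfl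
    haveI : FaithfulSMul (A ⧸ p) (L ⧸ m.asIdeal) := (faithfulSMul_iff_algebraMap_injective _ _).mpr
      (RingHom.lift_injective_of_ker_le_ideal _ _ le_rfl)
    letI := FractionRing.liftAlgebra (A ⧸ p) (L ⧸ m.asIdeal)
    haveI : FiniteDimensional (FractionRing (A ⧸ p)) (L ⧸ m.asIdeal) := by
      obtain ⟨t, ht⟩ := (Module.Finite.of_surjective (M := L)
        ((Ideal.Quotient.mkₐ K m.asIdeal).toLinearMap) Ideal.Quotient.mk_surjective :
          Module.Finite K (L ⧸ m.asIdeal)).fg_top
      refine ⟨⟨t, eq_top_iff.mpr fun z _ => ?_⟩⟩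
      have hz : z ∈ Submodule.span K (t : Set (L ⧸ m.asIdeal)) := ht ▸ Submodule.mem_top
      induction hz using Submodule.span_induction with
      | mem w hw => exact Submodule.subset_span hw
      | zero => exact zero_mem _
      | add u v _ _ hu hv => exact add_mem (hu trivial) (hv trivial)
      | smul c u _ hu =>
        obtain ⟨a, s, rfl⟩ := IsLocalization.exists_mk'_eq A⁰ c
        have hc : algebraMap K (L ⧸ m.asIdeal) (IsLocalization.mk' K a s) =
            algebraMap (FractionRing (A ⧸ p)) (L ⧸ m.asIdeal)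
              (algebraMap (A ⧸ p) _ (Ideal.Quotient.mk p a) /
                algebraMap (A ⧸ p) _ (Ideal.Quotient.mk p s)) := by
          have hs : IsUnit (algebraMap A (L ⧸ m.asIdeal) s) := by
            rw [IsScalarTower.algebraMap_apply A K (L ⧸ m.asIdeal)]
            exact (IsLocalization.map_units K s).map _
          rw [map_div₀, ← IsScalarTower.algebraMap_apply, ← IsScalarTower.algebraMap_apply,
            eq_div_iff (by exact hs.ne_zero)]
          show _ * algebraMap A (L ⧸ m.asIdeal) s = algebraMap A (L ⧸ m.asIdeal) a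
          rw [IsScalarTower.algebraMap_apply A K (L ⧸ m.asIdeal) s, ← map_mul, IsLocalization.mk'_spec,
            ← IsScalarTower.algebraMap_apply]
        rw [Algebra.smul_def, hc, ← Algebra.smul_def]
        exact Submodule.smul_mem _ _ (hu trivial)
    haveI := hA.2 p (L ⧸ m.asIdeal) inferInstance
    haveI : Module.Finite A (integralClosure (A ⧸ p) (L ⧸ m.asIdeal)) :=
      Module.Finite.trans (A ⧸ p) _
    refine Module.Finite.of_injective
      ({ toFun := fun x => ⟨x.1, IsIntegral.tower_top x.2⟩
         map_add' := fun _ _ => rfl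
         map_smul' := fun _ _ => rfl } :
        integralClosure A (L ⧸ m.asIdeal) →ₗ[A] integralClosure (A ⧸ p) (L ⧸ m.asIdeal))
      fun x y h => Subtype.ext (congrArg Subtype.val h :)
  refine Module.Finite.of_injective
    (LinearMap.pi fun m : MaximalSpectrum L =>
      ({ toFun := fun x => ⟨Ideal.Quotient.mk m.asIdeal x.1, x.2.map (Ideal.Quotient.mkₐ A m.asIdeal)⟩
         map_add' := fun _ _ => rfl
         map_smul' := fun _ _ => rfl } :
        integralClosure A L →ₗ[A] integralClosure A (L ⧸ m.asIdeal))) fun x y h => ?_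
  refine Subtype.ext (sub_eq_zero.mp ?_)
  have hmem : (x : L) - (y : L) ∈ nilradical L := by
    rw [nilradical_eq_sInf, Ideal.mem_sInf]
    intro q hq
    haveI := hq.out
    haveI : q.IsMaximal := IsArtinianRing.isMaximal_of_isPrime q
    exact Ideal.Quotient.eq_zero_iff_mem.mp (by
      rw [map_sub, sub_eq_zero]
      exact congrArg Subtype.val (congrFun h ⟨q, inferInstance⟩))
  rwa [nilradical_eq_zero, Ideal.zero_eq_bot, Ideal.mem_bot] at hmem

/-- A local ring `D` is essentially of finite type if a semilocal integral extension of it is. -/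
theorem essFiniteType_of_integral {A D D' : Type u} [CommRing A] [IsNoetherianRing A] [CommRing D]
    [IsLocalRing D] [CommRing D'] [Algebra A D] [Algebra A D'] [Algebra D D'] [IsScalarTower A D D']
    (hinj : Function.Injective (algebraMap D D')) [Algebra.IsIntegral D D']
    [Algebra.EssFiniteType A D'] (hfin : {N : Ideal D' | N.IsMaximal}.Finite) :
    Algebra.EssFiniteType A D := by
  classical
  obtain ⟨G, hG⟩ := (Algebra.essFiniteType_iff (R := A) (S := D')).mp ‹_›
  have hint : ∀ x : D', ∃ F : Finset D, ∀ Λ : Subalgebra A D, (F : Set D) ⊆ Λ →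
      IsIntegral Λ x := by
    intro x
    obtain ⟨p, hp, hpx⟩ := Algebra.IsIntegral.isIntegral (R := D) x
    refine ⟨p.coeffs, fun Λ hΛ => ?_⟩
    obtain ⟨q, hq, -, hqm⟩ := Polynomial.lifts_and_natDegree_eq_and_monic
      (f := algebraMap Λ D) (p := p) ((Polynomial.lifts_iff_coeff_lifts _).mpr fun n => by
        by_cases hn : p.coeff n = 0
        · exact ⟨0, by rw [hn, map_zero]⟩
        · exact ⟨⟨_, hΛ (Polynomial.coeff_mem_coeffs hn)⟩, rfl⟩) hp
    refine ⟨q, hqm, ?_⟩
    rw [← hpx, ← hq, Polynomial.eval₂_map, ← IsScalarTower.algebraMap_eq]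
  choose F hF using hint
  obtain ⟨Λ₁, hF₁, hΛ₁, hu₁⟩ : ∃ Λ : Subalgebra A D, ((G.biUnion F : Finset D) : Set D) ⊆ Λ ∧
      Λ ≤ Descent.locSub (A := A) ((G.biUnion F : Finset D) : Set D) ∧
        ∀ x : Λ, IsUnit (x : D) → IsUnit x :=
    ⟨_, fun z hz => Descent.adjoin_le_locSub _ (Algebra.subset_adjoin hz), le_rfl,
      fun _ => Descent.isUnit_locSub _⟩
  haveI : IsLocalHom (algebraMap Λ₁ D) := ⟨fun y hy => hu₁ y hy⟩
  haveI : IsLocalRing Λ₁ := RingHom.domain_isLocalRing (algebraMap Λ₁ D)
  let B₁ : Subalgebra Λ₁ D' := Algebra.adjoin Λ₁ (G : Set D')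
  haveI : Module.Finite Λ₁ B₁ := Module.Finite.iff_fg.mpr (fg_adjoin_of_finite G.finite_toSet
    fun g hg => hF g _ ((Finset.coe_subset.mpr (Finset.subset_biUnion_of_mem F hg)).trans hF₁))
  haveI := Lib.Henselian.Finite.finite_maximalSpectrum Λ₁ (B := B₁)
  haveI := Fintype.ofFinite (MaximalSpectrum B₁)
  let good : MaximalSpectrum B₁ → Prop := fun n =>
    ∃ N : Ideal D', N.IsMaximal ∧ n.asIdeal = N.comap (algebraMap B₁ D')
  have hbad : ∀ n, ¬ good n → ∃ b : B₁, b ∈ n.asIdeal ∧ ∃ v : D', (b : D') * v = 1 := by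
    intro n hn
    by_contra hc
    push Not at hc
    have hsub : (n.asIdeal : Set B₁) ⊆ ⋃ N ∈ (hfin.toFinset : Set (Ideal D')),
        ((N.comap (algebraMap B₁ D') : Ideal B₁) : Set B₁) := by
      intro b hb
      have hnu : ¬ IsUnit (b : D') := fun hu => by
        obtain ⟨v, hv⟩ := hu.exists_right_inv
        exact hc b hb v hv
      obtain ⟨N, hN, hbN⟩ := exists_max_ideal_of_mem_nonunits hnu
      exact Set.mem_biUnion (hfin.mem_toFinset.mpr hN) hbN
    obtain ⟨N, hN, hle⟩ := (Ideal.subset_union_prime (s := hfin.toFinset)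
      (f := fun N => N.comap (algebraMap B₁ D')) ⊥ ⊥ (fun N hN _ _ => by
        haveI : N.IsMaximal := hfin.mem_toFinset.mp hN
        exact Ideal.IsPrime.comap _)).mp hsub
    haveI : N.IsMaximal := hfin.mem_toFinset.mp hN
    exact hn ⟨N, inferInstance,
      n.isMaximal.eq_of_le (Ideal.IsPrime.comap _).ne_top hle⟩
  choose! b hb v hv using hbad
  let G₂ : Finset D' := G ∪ (Finset.univ.filter fun n => ¬ good n).image v
  let F₂ : Finset D := G.biUnion F ∪ G₂.biUnion F
  obtain ⟨Λ₂, hF₂, h12, hess, hu₂⟩ : ∃ Λ : Subalgebra A D, (F₂ : Set D) ⊆ Λ ∧ Λ₁ ≤ Λ ∧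
      Algebra.EssFiniteType A Λ ∧ ∀ x : Λ, IsUnit (x : D) → IsUnit x :=
    ⟨_, fun z hz => Descent.adjoin_le_locSub _ (Algebra.subset_adjoin hz),
      hΛ₁.trans (Descent.locSub_mono _ (Finset.coe_subset.mpr Finset.subset_union_left)),
      Descent.essFiniteType_locSub F₂, fun _ => Descent.isUnit_locSub _⟩
  haveI := hess
  haveI : IsLocalHom (algebraMap Λ₂ D) := ⟨fun y hy => hu₂ y hy⟩
  haveI : IsLocalRing Λ₂ := RingHom.domain_isLocalRing (algebraMap Λ₂ D)
  haveI : IsNoetherianRing Λ₂ := Algebra.EssFiniteType.isNoetherianRing A Λ₂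
  let B₂ : Subalgebra Λ₂ D' := Algebra.adjoin Λ₂ (G₂ : Set D')
  haveI : Module.Finite Λ₂ B₂ := Module.Finite.iff_fg.mpr (fg_adjoin_of_finite G₂.finite_toSet
    fun g hg => hF g _ ((Finset.coe_subset.mpr ((Finset.subset_biUnion_of_mem F hg).trans
      Finset.subset_union_right)).trans hF₂))
  have hB12 : ∀ x ∈ B₁, x ∈ B₂ := by
    intro x hx
    induction hx using Algebra.adjoin_induction with
    | mem w hw => exact Algebra.subset_adjoin (Finset.mem_coe.mpr (Finset.mem_union_left _ hw))
    | algebraMap r => exact B₂.algebraMap_mem ⟨r.1, h12 r.2⟩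
    | add u w _ _ hu hw => exact add_mem hu hw
    | mul u w _ _ hu hw => exact mul_mem hu hw
  let j : B₁ →+* B₂ :=
    { toFun := fun x => ⟨x.1, hB12 _ x.2⟩
      map_one' := rfl
      map_mul' := fun _ _ => rfl
      map_zero' := rfl
      map_add' := fun _ _ => rfl }
  -- units of `D'` in `B₁` are units in `B₂`
  have hunit : ∀ x : B₁, IsUnit (x : D') → IsUnit (j x) := by
    intro x hx
    by_contra hnx
    obtain ⟨n₂, hn₂, hxn⟩ := exists_max_ideal_of_mem_nonunits hnx
    haveI := hn₂
    let q := n₂.comap j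
    haveI : q.IsPrime := Ideal.IsPrime.comap j
    have hq : (q.comap (algebraMap Λ₁ B₁)).IsMaximal := by
      have hm2 : (n₂.comap (algebraMap Λ₂ B₂)) = maximalIdeal Λ₂ :=
        eq_maximalIdeal (Ideal.isMaximal_comap_of_isIntegral_of_isMaximal (R := Λ₂) n₂)
      have : q.comap (algebraMap Λ₁ B₁) = maximalIdeal Λ₁ := by
        refine le_antisymm (le_maximalIdeal ?_) fun r hr => ?_
        · exact (Ideal.IsPrime.comap _).ne_top
        · show j (algebraMap Λ₁ B₁ r) ∈ n₂
          have hr2 : (⟨r.1, h12 r.2⟩ : Λ₂) ∈ n₂.comap (algebraMap Λ₂ B₂) := by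
            rw [hm2, mem_maximalIdeal]
            intro hu
            exact hr (hu₁ _ (hu.map (algebraMap Λ₂ D)))
          exact hr2
      rw [this]; infer_instance
    haveI : q.IsMaximal := Ideal.isMaximal_of_isIntegral_of_isMaximal_comap q hq
    by_cases hgood : good ⟨q, inferInstance⟩
    · obtain ⟨N, hN, hqN⟩ := hgood
      have hxN : (x : D') ∈ N := by
        have : x ∈ q := hxn
        rw [show q = N.comap _ from hqN] at this
        exact this
      exact hN.ne_top (Ideal.eq_top_of_isUnit_mem _ hxN hx)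
    · have hvB : v ⟨q, inferInstance⟩ ∈ B₂ := Algebra.subset_adjoin (Finset.mem_coe.mpr
        (Finset.mem_union_right _ (Finset.mem_image_of_mem v
          (Finset.mem_filter.mpr ⟨Finset.mem_univ _, hgood⟩))))
      have : IsUnit (j (b ⟨q, inferInstance⟩)) :=
        isUnit_iff_exists_inv.mpr ⟨⟨_, hvB⟩, Subtype.ext (hv _ hgood)⟩
      exact hn₂.ne_top (Ideal.eq_top_of_isUnit_mem _ (hb _ hgood) this)
  have htop : B₂ = ⊤ := by
    rw [eq_top_iff]
    intro x _
    obtain ⟨t, ht, htu, hxt⟩ := hG x
    have hadj : ∀ y ∈ Algebra.adjoin A (G : Set D'), y ∈ B₁ := fun y hy => by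
      induction hy using Algebra.adjoin_induction with
      | mem w hw => exact Algebra.subset_adjoin hw
      | algebraMap r =>
        rw [IsScalarTower.algebraMap_apply A D D']
        exact B₁.algebraMap_mem (algebraMap A Λ₁ r)
      | add u w _ _ hu hw => exact add_mem hu hw
      | mul u w _ _ hu hw => exact mul_mem hu hw
    obtain ⟨w, hw⟩ := (hunit ⟨t, hadj t ht⟩ htu).exists_right_inv
    have hw' : t * (w : D') = 1 := congrArg Subtype.val hw
    rw [show x = (x * t) * (w : D') by rw [mul_assoc, hw', mul_one]]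
    exact mul_mem (hB12 _ (hadj _ hxt)) w.2
  haveI : Module.Finite Λ₂ D' :=
    Module.Finite.equiv ((Subalgebra.equivOfEq _ _ htop).trans Subalgebra.topEquiv).toLinearEquiv
  haveI : Module.Finite Λ₂ D :=
    Module.Finite.of_injective (IsScalarTower.toAlgHom Λ₂ D D').toLinearMap hinj
  haveI : Algebra.EssFiniteType Λ₂ D := inferInstance
  exact Algebra.EssFiniteType.comp A Λ₂ D

end Groth.Agent.H24.EssEtale.NormalSemi
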