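import Groth.Agent.H24.EssEtale.NormalSemi
import Groth.Agent.H24.EssEtale.Fractions

/-!
# Total rings of fractions and normalizations of stages over reduced bases

* `algebraFrac`: `Frac A → Frac E`; `equivTensor`: `E ⊗ Frac A ≅ Frac E`;
* `exists_tensor_of_isIntegral`: the normalization of `E` is generated by that of `A` and `E`;
* `flat_normalization`: it is flat over the integral closure of `A` in intermediate algebras.
-/

universe u

open IsLocalRing
open scoped nonZeroDivisors TensorProduct

namespace Groth.Agent.H24.EssEtale.Normalization

variable {A E : Type u} [CommRing A] [IsLocalRing A] [CommRing E] [Algebra A E]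

theorem isUnit_algebraMap (hE : EGA4loc.IsEssentiallyEtale A E) {a : A} (ha : a ∈ A⁰) :
    IsUnit (algebraMap A (FractionRing E) a) := by
  haveI := flat hE
  rw [IsScalarTower.algebraMap_apply A E (FractionRing E)]
  exact IsLocalization.map_units (FractionRing E)
    (⟨_, Fractions.algebraMap_mem_nonZeroDivisors A E ha⟩ : E⁰)

/-- `Frac A → Frac E`. -/
@[reducible] noncomputable def algebraFrac (hE : EGA4loc.IsEssentiallyEtale A E) :
    Algebra (FractionRing A) (FractionRing E) :=
  (IsLocalization.lift (g := algebraMap A (FractionRing E)) (M := A⁰)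
    fun a => isUnit_algebraMap hE a.2).toAlgebra

theorem isScalarTower (hE : EGA4loc.IsEssentiallyEtale A E) :
    letI := algebraFrac hE
    IsScalarTower A (FractionRing A) (FractionRing E) :=
  letI := algebraFrac hE
  IsScalarTower.of_algebraMap_eq fun a =>
    (IsLocalization.lift_eq (g := algebraMap A (FractionRing E))
      (fun a => isUnit_algebraMap hE a.2) a).symm

variable [IsArtinianRing (FractionRing A)]

/-- `E ⊗ Frac A ≅ Frac E`. -/
theorem exists_equivTensor (hE : EGA4loc.IsEssentiallyEtale A E) :
    ∃ e : E ⊗[A] FractionRing A ≃ₐ[E] FractionRing E, ∀ (x : E) (c : FractionRing A),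
      letI := algebraFrac hE
      e (x ⊗ₜ c) = algebraMap E (FractionRing E) x *
        algebraMap (FractionRing A) (FractionRing E) c := by
  letI := algebraFrac hE
  haveI := isScalarTower hE
  haveI := Fractions.isLocalization_fractionRing A E hE
  haveI : IsLocalization (Algebra.algebraMapSubmonoid E A⁰) (E ⊗[A] FractionRing A) := inferInstance
  let e := IsLocalization.algEquiv (Algebra.algebraMapSubmonoid E A⁰) (E ⊗[A] FractionRing A)
    (FractionRing E)
  refine ⟨e, fun x c => ?_⟩
  obtain ⟨⟨a, s⟩, hc⟩ := IsLocalization.surj A⁰ c
  apply (isUnit_algebraMap hE s.2).mul_right_cancel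
  calc e (x ⊗ₜ c) * algebraMap A (FractionRing E) s
      = e ((x ⊗ₜ c) * algebraMap E _ (algebraMap A E s)) := by
        rw [map_mul, e.commutes, ← IsScalarTower.algebraMap_apply A E (FractionRing E)]
    _ = e (algebraMap E _ (x * algebraMap A E a)) := by
        congr 1
        rw [map_mul, Algebra.TensorProduct.algebraMap_apply, Algebra.TensorProduct.algebraMap_apply,
          Algebra.TensorProduct.algebraMap_apply, Algebra.TensorProduct.tmul_mul_tmul,
          Algebra.TensorProduct.tmul_mul_tmul, ← Algebra.algebraMap_self_apply (algebraMap A E s),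
          ← Algebra.algebraMap_self_apply (algebraMap A E a)]
        simp only [Algebra.algebraMap_self_apply, mul_one]
        rw [show x * algebraMap A E s = (s : A) • x by rw [Algebra.smul_def, mul_comm],
          show x * algebraMap A E a = a • x by rw [Algebra.smul_def, mul_comm],
          TensorProduct.smul_tmul, TensorProduct.smul_tmul, Algebra.smul_def, mul_comm, hc,
          Algebra.algebraMap_eq_smul_one]
    _ = _ := by
        rw [e.commutes, map_mul, ← IsScalarTower.algebraMap_apply A E (FractionRing E), mul_assoc]
        congr 1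
        rw [IsScalarTower.algebraMap_apply A (FractionRing A) (FractionRing E),
          IsScalarTower.algebraMap_apply A (FractionRing A) (FractionRing E), ← map_mul, hc]

theorem finite_fractionRing (hE : EGA4loc.IsEssentiallyEtale A E) :
    letI := algebraFrac hE
    Module.Finite (FractionRing A) (FractionRing E) := by
  letI := algebraFrac hE
  haveI := isScalarTower hE
  obtain ⟨_, _⟩ := Lib.Henselian.EssEtale.formallyEtale hE
  obtain ⟨e, he⟩ := exists_equivTensor hE
  haveI : Module.Finite (FractionRing A) (FractionRing A ⊗[A] E) := Module.Finite.of_quasiFinite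
  refine Module.Finite.of_surjective (M := FractionRing A ⊗[A] E)
    (Algebra.TensorProduct.lift (Algebra.ofId (FractionRing A) (FractionRing E))
      (IsScalarTower.toAlgHom A E (FractionRing E)) (fun _ _ => .all _ _)).toLinearMap fun z => ?_
  obtain ⟨w, rfl⟩ := e.surjective z
  refine ⟨Algebra.TensorProduct.comm A E (FractionRing A) w, ?_⟩
  induction w using TensorProduct.induction_on with
  | zero => rw [map_zero, map_zero, map_zero]
  | tmul x c =>
    rw [he, mul_comm]
    rfl
  | add u v hu hv => rw [map_add, map_add, map_add, hu, hv]

theorem isReduced_fractionRing [IsReduced A] (hE : EGA4loc.IsEssentiallyEtale A E) :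
    IsReduced (FractionRing E) := by
  haveI := flat hE
  obtain ⟨_, _⟩ := Lib.Henselian.EssEtale.formallyEtale hE
  haveI : IsReduced (FractionRing A) :=
    isReduced_localizationPreserves A⁰ (FractionRing A) inferInstance
  obtain ⟨e, -⟩ := exists_equivTensor hE
  haveI := NormalSemi.isReduced_tensor (A := A) (E := E) (L := FractionRing A)
  let f : FractionRing E →+* FractionRing A ⊗[A] E :=
    ((Algebra.TensorProduct.comm A E (FractionRing A)).toRingEquiv : _ →+* _).comp
      (e.symm.toRingEquiv : FractionRing E →+* E ⊗[A] FractionRing A)
  exact isReduced_of_injective f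
    ((Algebra.TensorProduct.comm A E (FractionRing A)).injective.comp e.symm.injective)

/-- Elements integral over `E` are sums of products of elements of `E` and of elements of
`Frac A` integral over `A`. -/
theorem exists_tensor_of_isIntegral (hE : EGA4loc.IsEssentiallyEtale A E) {z : FractionRing E}
    (hz : IsIntegral E z) :
    letI := algebraFrac hE
    haveI := isScalarTower hE
    ∃ y : E ⊗[A] integralClosure A (FractionRing A),
      Algebra.TensorProduct.productMap (IsScalarTower.toAlgHom A E (FractionRing E))
        ((IsScalarTower.toAlgHom A (FractionRing A) (FractionRing E)).comp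
          (integralClosure A (FractionRing A)).val) y = z := by
  letI := algebraFrac hE
  haveI := isScalarTower hE
  obtain ⟨e, he⟩ := exists_equivTensor hE
  obtain ⟨y, hy⟩ := (Normal.bijective_toIntegralClosure hE (FractionRing A)).2
    ⟨e.symm z, hz.map e.symm⟩
  refine ⟨y, ?_⟩
  replace hy : Algebra.TensorProduct.map (AlgHom.id E E) (integralClosure A (FractionRing A)).val y =
      e.symm z := congrArg Subtype.val hy
  rw [← e.apply_symm_apply z, ← hy]
  clear hy
  induction y using TensorProduct.induction_on with
  | zero => simp
  | tmul x c =>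
    show _ = e (x ⊗ₜ[A] (c : FractionRing A))
    rw [he]
    rfl
  | add u v hu hv => rw [map_add, hu, hv, map_add, map_add]

variable (hE : EGA4loc.IsEssentiallyEtale A E) (L : Subalgebra A (FractionRing E))

include hE in
/-- Subalgebras of `Frac E` containing `Frac A` are finite reduced Artinian over it, with finite
integral closure of `A`. -/
theorem intermediate [IsReduced A]
    (hL : ∀ s ∈ A⁰, ∃ y ∈ L, algebraMap A (FractionRing E) s * y = 1) :
    IsReduced L ∧ IsArtinianRing L ∧ IsArtinianRing (L ⊗[A] E) ∧
      (CAlg.IsNagata A → Module.Finite A (integralClosure A L)) ∧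
      (∀ x : L, ∃ a ∈ A⁰, IsIntegral A (algebraMap A L a * x)) ∧
      ∀ c : integralClosure A (FractionRing A), ∃ l : L, IsIntegral A l ∧
        (l : FractionRing E) = (letI := algebraFrac hE; algebraMap (FractionRing A) (FractionRing E) c) := by
  letI := algebraFrac hE
  haveI := isScalarTower hE
  haveI := finite_fractionRing hE
  haveI := isReduced_fractionRing hE
  obtain ⟨_, _⟩ := Lib.Henselian.EssEtale.formallyEtale hE
  let K := FractionRing A
  let M := FractionRing E
  have hKL : ∀ c : K, algebraMap K M c ∈ L := fun c => by
    obtain ⟨⟨b, s⟩, hc⟩ := IsLocalization.surj A⁰ c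
    obtain ⟨y, hy, hsy⟩ := hL s s.2
    have h := congrArg (algebraMap K M) hc
    rw [map_mul, ← IsScalarTower.algebraMap_apply, ← IsScalarTower.algebraMap_apply] at h
    have : algebraMap K M c = algebraMap A M b * y := by
      rw [← h, mul_assoc, hsy, mul_one]
    rw [this]
    exact mul_mem (L.algebraMap_mem b) hy
  letI : Algebra K L := ((algebraMap K M).codRestrict L hKL).toAlgebra
  haveI : IsScalarTower A K L := IsScalarTower.of_algebraMap_eq fun a =>
    Subtype.ext (IsScalarTower.algebraMap_apply A K M a)
  haveI : Module.Finite K L := by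
    refine Module.Finite.of_injective
      ({ toFun := Subtype.val
         map_add' := fun _ _ => rfl
         map_smul' := fun c x => by
          show ((c • x : L) : M) = c • (x : M)
          rw [Algebra.smul_def, Algebra.smul_def]
          rfl } : L →ₗ[K] M) Subtype.val_injective
  haveI : IsArtinianRing L := isArtinian_of_tower K inferInstance
  haveI : IsReduced L := isReduced_of_injective L.val Subtype.val_injective
  refine ⟨inferInstance, inferInstance, NormalSemi.isArtinianRing_tensor,
    fun h => NormalSemi.finite_integralClosure h, fun x => ?_,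
    fun c => ⟨algebraMap K L c, c.2.map (IsScalarTower.toAlgHom A K L), rfl⟩⟩
  obtain ⟨⟨a, ha⟩, hax⟩ := IsIntegral.exists_multiple_integral_of_isLocalization A⁰ x
    (IsIntegral.of_finite K x)
  refine ⟨a, ha, ?_⟩
  rw [← Algebra.smul_def]
  exact hax

include hE in
/-- The normalization of `E` is flat over the integral closure of `A` in `L`. -/
theorem flat_normalization [IsReduced A]
    (hL : ∀ s ∈ A⁰, ∃ y ∈ L, algebraMap A (FractionRing E) s * y = 1)
    (i : integralClosure A L →ₐ[A] integralClosure E (FractionRing E))
    (hi : ∀ x, (i x : FractionRing E) = ((x : L) : FractionRing E)) :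
    letI := i.toRingHom.toAlgebra
    Module.Flat (integralClosure A L) (integralClosure E (FractionRing E)) := by
  obtain ⟨h1, h2, h3, -, -, hc⟩ := intermediate hE L hL
  letI := i.toRingHom.toAlgebra
  letI := algebraFrac hE
  haveI := isScalarTower hE
  haveI : IsScalarTower A (integralClosure A L) (integralClosure E (FractionRing E)) :=
    IsScalarTower.of_algebraMap_eq fun a => (i.commutes a).symm
  refine NormalSemi.flat_of_mem_range hE (B := integralClosure A L) (L := L)
    (R := integralClosure E (FractionRing E)) (M := FractionRing E)
    (integralClosure A L).val Subtype.val_injective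
    (fun c hc => ⟨⟨c, hc⟩, rfl⟩) ((integralClosure E (FractionRing E)).val.restrictScalars A)
    Subtype.val_injective L.val hi (IsScalarTower.toAlgHom A E (integralClosure E (FractionRing E)))
    fun z => ?_
  obtain ⟨y, hy⟩ := exists_tensor_of_isIntegral hE (z := (z : FractionRing E)) z.2
  suffices h : ∃ w, ((Algebra.TensorProduct.productMap
      (IsScalarTower.toAlgHom A (integralClosure A L) (integralClosure E (FractionRing E)))
      (IsScalarTower.toAlgHom A E (integralClosure E (FractionRing E))) w :
        integralClosure E (FractionRing E)) : FractionRing E) = (z : FractionRing E) by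
    obtain ⟨w, hw⟩ := h
    exact ⟨w, Subtype.ext hw⟩
  rw [← hy]
  clear hy
  induction y using TensorProduct.induction_on with
  | zero => exact ⟨0, by rw [map_zero, map_zero, Subalgebra.coe_zero]⟩
  | tmul x c =>
    obtain ⟨l, hl, hl'⟩ := hc c
    refine ⟨(⟨l, hl⟩ : integralClosure A L) ⊗ₜ x, ?_⟩
    show (i ⟨l, hl⟩ : FractionRing E) * algebraMap E (FractionRing E) x =
      algebraMap E (FractionRing E) x * algebraMap (FractionRing A) (FractionRing E) c
    rw [hi, mul_comm]
    exact congrArg _ hl'
  | add u v hu hv =>
    obtain ⟨a, ha⟩ := hu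
    obtain ⟨b, hb⟩ := hv
    exact ⟨a + b, by rw [map_add, Subalgebra.coe_add, ha, hb, map_add]⟩

include hE in
/-- Integral elements of `L` have denominators avoiding finitely many given primes. -/
theorem exists_mul_isIntegral [IsReduced A]
    (hL : ∀ s ∈ A⁰, ∃ y ∈ L, algebraMap A (FractionRing E) s * y = 1)
    (Qs : Finset (Ideal (integralClosure E (FractionRing E)))) (hQs : ∀ Q ∈ Qs, Q.IsPrime)
    (x : L) (hx : IsIntegral E (x : FractionRing E)) :
    ∃ s : L, IsIntegral A s ∧ IsIntegral A (x * s) ∧ ∀ z : integralClosure E (FractionRing E),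
      (z : FractionRing E) = (s : FractionRing E) → ∀ Q ∈ Qs, z ∉ Q := by
  obtain ⟨-, -, -, -, hint, -⟩ := intermediate hE L hL
  let C := integralClosure A L
  let R : Subalgebra E (FractionRing E) := integralClosure E (FractionRing E)
  let i : C →ₐ[A] integralClosure E (FractionRing E) :=
    { toFun := fun y => ⟨((y : L) : FractionRing E), IsIntegral.tower_top (A := E) (y.2.map L.val)⟩
      map_one' := rfl
      map_mul' := fun _ _ => rfl
      map_zero' := rfl
      map_add' := fun _ _ => rfl
      commutes' := fun _ => rfl }
  have hi : ∀ y, (i y : FractionRing E) = ((y : L) : FractionRing E) := fun y => rfl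
  letI : Algebra C (integralClosure E (FractionRing E)) := i.toRingHom.toAlgebra
  haveI : Module.Flat C (integralClosure E (FractionRing E)) := flat_normalization hE L hL i hi
  obtain ⟨a, ha, hax⟩ := hint x
  let c : C := ⟨_, hax⟩
  let aC : C := algebraMap A C a
  obtain ⟨s, w, hw, hsQ⟩ := NormalSemi.exists_colon_notMem (C := C) (c := c) (a := aC)
    (R := integralClosure E (FractionRing E)) (x := ⟨x, hx⟩) (Subtype.ext rfl) Qs hQs
  refine ⟨s, s.2, ?_, fun z hz Q hQ hzQ => hsQ Q hQ ?_⟩
  ·
    have : x * (s : L) = (w : L) := by
      refine Subtype.ext ((isUnit_algebraMap hE ha).mul_left_cancel ?_)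
      have hw' : ((w : L) : FractionRing E) * algebraMap A (FractionRing E) a =
          ((s : L) : FractionRing E) * (algebraMap A (FractionRing E) a * (x : FractionRing E)) :=
        congrArg (fun z : C => ((z : L) : FractionRing E)) hw
      show algebraMap A (FractionRing E) a * ((x : FractionRing E) * ((s : L) : FractionRing E)) =
        algebraMap A (FractionRing E) a * ((w : L) : FractionRing E)
      rw [mul_comm _ ((w : L) : FractionRing E), hw']
      ring
    rw [this]
    exact w.2
  · show i s ∈ Q
    rwa [show i s = z from Subtype.ext ((hi s).trans hz.symm)]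

include hE in
/-- Units of `Frac E` lying in `L` are units of `L`. -/
theorem exists_inv_mem [IsReduced A]
    (hL : ∀ s ∈ A⁰, ∃ y ∈ L, algebraMap A (FractionRing E) s * y = 1)
    {x : L} (hx : IsUnit (x : FractionRing E)) : IsUnit x := by
  haveI := (intermediate hE L hL).2.1
  refine IsArtinianRing.isUnit_of_mem_nonZeroDivisors (mem_nonZeroDivisors_iff_right.mpr fun y hy => ?_)
  refine Subtype.ext (hx.mul_left_eq_zero.mp ?_)
  exact congrArg Subtype.val hy

end Groth.Agent.H24.EssEtale.Normalization
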