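import Groth.Agent.H24.EssEtale.Normalization
import Groth.Agent.Lib.Henselian.StrictHenselization
import Mathlib.RingTheory.Flat.EquationalCriterion
import Mathlib.LinearAlgebra.TensorProduct.Finiteness

/-!
# Normalizations inside the fractions of a strict henselization: basic tools

* `injective_productMap`: injectivity of multiplication `N ⊗ P → M` for `N` inside fractions;
* `isUnit_algebraMap_frac`, `toFrac`: `A⁰` is invertible in `Frac S`;
* `finite_of_mem_iff`: the normalization of `A` inside `Frac S` is finite;
* `isRadical_jacobson`, `isArtinianRing_quotient_jacobson`.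
-/

universe u

open IsLocalRing
open scoped nonZeroDivisors TensorProduct

namespace Groth.Agent.H24.EssEtale.Residual

theorem injective_productMap {R M N P : Type u} [CommRing R] [CommRing M] [Algebra R M]
    [CommRing N] [Algebra R N] [CommRing P] [Algebra R P] [Module.Flat R P] (iN : N →ₐ[R] M)
    (hiN : Function.Injective iN) (iP : P →ₐ[R] M) (hiP : Function.Injective iP) (W : Set R)
    (hW1 : (1 : R) ∈ W) (hWmul : ∀ a ∈ W, ∀ b ∈ W, a * b ∈ W)
    (hWu : ∀ a ∈ W, IsUnit (algebraMap R M a))
    (hN : ∀ x : N, ∃ a ∈ W, ∃ r : R, a • x = algebraMap R N r) :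
    Function.Injective (Algebra.TensorProduct.productMap iN iP) := by
  refine (injective_iff_map_eq_zero (Algebra.TensorProduct.productMap iN iP).toRingHom).mpr
    fun z hz => ?_
  have key : ∀ z : N ⊗[R] P, ∃ a ∈ W, ∃ p : P, a • z = (1 : N) ⊗ₜ[R] p := by
    intro z
    induction z using TensorProduct.induction_on with
    | zero => exact ⟨1, hW1, 0, by rw [smul_zero, TensorProduct.tmul_zero]⟩
    | tmul x p =>
      obtain ⟨a, ha, r, hr⟩ := hN x
      exact ⟨a, ha, r • p, by
        rw [TensorProduct.smul_tmul', hr, Algebra.algebraMap_eq_smul_one, TensorProduct.smul_tmul]⟩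
    | add u v hu hv =>
      obtain ⟨a, ha, p, hp⟩ := hu
      obtain ⟨b, hb, q, hq⟩ := hv
      exact ⟨a * b, hWmul a ha b hb, b • p + a • q, by
        rw [smul_add, TensorProduct.tmul_add, TensorProduct.tmul_smul, TensorProduct.tmul_smul, ← hp,
          ← hq, smul_smul, smul_smul, mul_comm b a]⟩
  obtain ⟨a, ha, p, hp⟩ := key z
  have hz' : (Algebra.TensorProduct.productMap iN iP) z = 0 := hz
  have h := congrArg (Algebra.TensorProduct.productMap iN iP) hp
  rw [map_smul, hz', smul_zero, Algebra.TensorProduct.productMap_apply_tmul, map_one, one_mul] at h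
  have hp0 : p = 0 := hiP (h.symm.trans (map_zero iP).symm)
  rw [hp0, TensorProduct.tmul_zero] at hp
  have hreg : IsSMulRegular N a := fun x y hxy => hiN ((hWu a ha).mul_left_cancel (by
    rw [← Algebra.smul_def, ← Algebra.smul_def, ← map_smul, ← map_smul]
    exact congrArg iN hxy))
  have hinj : Function.Injective (LinearMap.rTensor P (DistribSMul.toLinearMap R N a)) :=
    Module.Flat.rTensor_preserves_injective_linearMap (M := P) _ hreg
  refine hinj ?_
  rw [map_zero]
  refine Eq.trans ?_ hp
  clear hp hz hz' h
  induction z using TensorProduct.induction_on with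
  | zero => rw [map_zero, smul_zero]
  | tmul x q => rw [LinearMap.rTensor_tmul, TensorProduct.smul_tmul']; rfl
  | add u v hu hv => rw [map_add, smul_add, hu, hv]

variable {A S : Type u} [CommRing A] [IsLocalRing A] [CommRing S] [IsLocalRing S] [Algebra A S]
  [IsLocalHom (algebraMap A S)] [Hensel.IsStrictHenselization A S]

theorem isUnit_algebraMap_frac {a : A} (ha : a ∈ A⁰) :
    IsUnit (algebraMap A (FractionRing S) a) := by
  haveI := Lib.Henselian.StrictHenselization.flat A S
  rw [IsScalarTower.algebraMap_apply A S (FractionRing S)]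
  exact IsLocalization.map_units (FractionRing S)
    (⟨_, Fractions.algebraMap_mem_nonZeroDivisors A S ha⟩ : S⁰)

theorem algebraMap_frac_injective : Function.Injective (algebraMap A (FractionRing S)) := by
  haveI := Lib.Henselian.StrictHenselization.faithfullyFlat A S
  rw [IsScalarTower.algebraMap_eq A S (FractionRing S)]
  exact (IsFractionRing.injective S (FractionRing S)).comp (FaithfulSMul.algebraMap_injective A S)

/-- `Frac A → Frac S`. -/
noncomputable def toFrac : FractionRing A →ₐ[A] FractionRing S :=
  IsLocalization.liftAlgHom (M := A⁰) (f := Algebra.ofId A (FractionRing S))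
    fun a => isUnit_algebraMap_frac a.2

theorem toFrac_injective : Function.Injective (toFrac (A := A) (S := S)) := by
  refine (injective_iff_map_eq_zero toFrac.toRingHom).mpr fun c hc => ?_
  obtain ⟨a, s, rfl⟩ := IsLocalization.exists_mk'_eq A⁰ c
  have hc' : toFrac (S := S) (IsLocalization.mk' (FractionRing A) a s) = 0 := hc
  have h : algebraMap A (FractionRing S) a = 0 := by
    rw [← toFrac.commutes a, ← IsLocalization.mk'_spec (FractionRing A) a s, map_mul, hc', zero_mul]
  rw [algebraMap_frac_injective (h.trans (map_zero _).symm), IsLocalization.mk'_zero]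

/-- The normalization of `A` in `Frac S` is the image of the integral closure of `A` in `Frac A`. -/
theorem exists_eq_toFrac {A' : Subalgebra A (FractionRing S)}
    (hA' : ∀ x : FractionRing S, x ∈ A' ↔ (IsIntegral A x ∧
      ∃ a ∈ A⁰, ∃ b : A, algebraMap A (FractionRing S) a * x = algebraMap A (FractionRing S) b))
    (x : A') : ∃ c : integralClosure A (FractionRing A), toFrac (A := A) (S := S) c = x := by
  obtain ⟨hx, a, ha, b, hab⟩ := (hA' _).mp x.2
  let c : FractionRing A := IsLocalization.mk' _ b (⟨a, ha⟩ : A⁰)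
  have hc : toFrac (S := S) c = x := by
    apply (isUnit_algebraMap_frac (S := S) ha).mul_left_cancel
    rw [hab, ← toFrac.commutes a, ← map_mul, mul_comm, IsLocalization.mk'_spec, toFrac.commutes]
  exact ⟨⟨c, (isIntegral_algHom_iff toFrac toFrac_injective).mp (hc ▸ hx)⟩, hc⟩

theorem toFrac_mem {A' : Subalgebra A (FractionRing S)}
    (hA' : ∀ x : FractionRing S, x ∈ A' ↔ (IsIntegral A x ∧
      ∃ a ∈ A⁰, ∃ b : A, algebraMap A (FractionRing S) a * x = algebraMap A (FractionRing S) b))
    (c : integralClosure A (FractionRing A)) : toFrac (A := A) (S := S) c ∈ A' := by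
  obtain ⟨b, s, hc⟩ := IsLocalization.exists_mk'_eq A⁰ (c : FractionRing A)
  refine (hA' _).mpr ⟨c.2.map toFrac, s, s.2, b, ?_⟩
  rw [← toFrac.commutes (s : A), ← map_mul, mul_comm, ← hc, IsLocalization.mk'_spec,
    toFrac.commutes]

theorem finite_of_mem_iff [IsReduced A] (hA : CAlg.IsNagata A) {A' : Subalgebra A (FractionRing S)}
    (hA' : ∀ x : FractionRing S, x ∈ A' ↔ (IsIntegral A x ∧
      ∃ a ∈ A⁰, ∃ b : A, algebraMap A (FractionRing S) a * x = algebraMap A (FractionRing S) b)) :
    Module.Finite A A' := by
  haveI := hA.1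
  haveI := Fractions.isArtinianRing_fractionRing A (minimalPrimes.finite_of_isNoetherianRing A)
  haveI : IsReduced (FractionRing A) :=
    isReduced_localizationPreserves A⁰ (FractionRing A) inferInstance
  haveI := NormalSemi.finite_integralClosure (L := FractionRing A) hA
  let f : integralClosure A (FractionRing A) →ₐ[A] A' :=
    (toFrac.comp (integralClosure A (FractionRing A)).val).codRestrict A' (toFrac_mem hA')
  exact Module.Finite.of_surjective f.toLinearMap fun x => by
    obtain ⟨c, hc⟩ := exists_eq_toFrac hA' x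
    exact ⟨c, Subtype.ext hc⟩

theorem isRadical_jacobson (B : Type u) [CommRing B] :
    (Ideal.jacobson (⊥ : Ideal B)).IsRadical := by
  rintro x ⟨n, hn⟩
  simp only [Ideal.jacobson, Ideal.mem_sInf] at hn ⊢
  rintro J ⟨hJ, hJm⟩
  exact hJm.isPrime.mem_of_pow_mem n (hn ⟨hJ, hJm⟩)

/-- `B/Rad B` is reduced Artinian for `B` finite over a local ring. -/
theorem isArtinianRing_quotient_jacobson (B : Type u) [CommRing B] [Algebra A B] [Module.Finite A B] :
    IsArtinianRing (B ⧸ Ideal.jacobson (⊥ : Ideal B)) ∧
      IsReduced (B ⧸ Ideal.jacobson (⊥ : Ideal B)) ∧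
      (maximalIdeal A).map (algebraMap A B) ≤ Ideal.jacobson (⊥ : Ideal B) := by
  have hle : (maximalIdeal A).map (algebraMap A B) ≤ Ideal.jacobson (⊥ : Ideal B) := by
    refine le_sInf fun n hn => ?_
    haveI : n.IsMaximal := hn.2
    exact Lib.Henselian.Finite.map_maximalIdeal_le n
  refine ⟨?_, (Ideal.isRadical_iff_quotient_reduced _).mp (isRadical_jacobson B), hle⟩
  exact (Ideal.Quotient.factor_surjective hle).isArtinianRing

/-- Residues of elements of a subalgebra `H` which is a union of stages. -/
theorem flat_of_stages (H : Subalgebra A S)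
    (hind : ∀ s : Finset S, (s : Set S) ⊆ H → ∃ E : Subalgebra A S, (s : Set S) ⊆ E ∧ E ≤ H ∧
      ∃ _ : IsLocalRing E, EGA4loc.IsEssentiallyEtale A E) :
    Module.Flat A H := by
  classical
  refine Module.Flat.iff_forall_isTrivialRelation.mpr fun {l f x} hfx => ?_
  obtain ⟨E, hxE, hEH, _, hE⟩ := hind (Finset.univ.image fun i => (x i : S)) (by
    intro z hz
    obtain ⟨i, -, rfl⟩ := Finset.mem_image.mp hz
    exact (x i).2)
  haveI := flat hE
  let x' : Fin l → E := fun i =>
    ⟨x i, hxE (Finset.mem_coe.mpr (Finset.mem_image_of_mem _ (Finset.mem_univ i)))⟩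
  let j := Subalgebra.inclusion hEH
  have hj : Function.Injective j := Subalgebra.inclusion_injective hEH
  have hx' : ∑ i, f i • x' i = 0 := hj (by
    rw [map_sum, map_zero, ← hfx]
    exact Finset.sum_congr rfl fun i _ => map_smul j _ _)
  obtain ⟨k, a, y, hy, hay⟩ := Module.Flat.isTrivialRelation_of_sum_smul_eq_zero hx'
  exact ⟨k, a, fun m => j (y m), fun i => by
    rw [show x i = j (x' i) from rfl, hy i, map_sum]
    exact Finset.sum_congr rfl fun m _ => map_smul j _ _, hay⟩

end Groth.Agent.H24.EssEtale.Residual
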