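import Groth.Agent.H24.EssEtale.ResidualBasic
import Mathlib.LinearAlgebra.TensorProduct.RightExactness

/-!
# Residual products of normalizations: necessity

If `H ⊇ D` is a union of stages, flat over `D` with the same residue field and `m_H = m_D H`, then
the normalization `D'` of `D` has residual product `(A'/Rad A') ⊗ (D/m_D)`.
-/

universe u

open IsLocalRing
open scoped nonZeroDivisors TensorProduct

namespace Groth.Agent.H24.EssEtale.Residual

variable {A S : Type u} [CommRing A] [IsLocalRing A] [CommRing S] [IsLocalRing S] [Algebra A S]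
  [IsLocalHom (algebraMap A S)] [Hensel.IsStrictHenselization A S]

/-- `Λ ⊗ S` is reduced for `Λ` reduced Artinian. -/
theorem isReduced_tensor_strict (Λ : Type u) [CommRing Λ] [Algebra A Λ] [IsArtinianRing Λ]
    [IsReduced Λ] : IsReduced (Λ ⊗[A] S) := by
  classical
  refine ⟨fun w hw => ?_⟩
  obtain ⟨n, hn⟩ := hw
  obtain ⟨T, hT⟩ := TensorProduct.exists_finset w
  obtain ⟨E, _, hsE, hloc, hE, hff⟩ :=
    exists_stage (A := A) (T.image (fun p : Λ × S => p.2))
  haveI := hff
  obtain ⟨_, _⟩ := Lib.Henselian.EssEtale.formallyEtale hE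
  haveI := flat hE
  haveI := NormalSemi.isReduced_tensor (A := A) (E := E) (L := Λ)
  let f : Λ ⊗[A] E →ₐ[A] Λ ⊗[A] S := Algebra.TensorProduct.map (AlgHom.id A Λ) E.val
  have hf : Function.Injective f := by
    intro z z' hzz'
    let ev : Λ ⊗[A] E →ₗ[A] S ⊗[E] (E ⊗[A] Λ) :=
      ((TensorProduct.mk E S (E ⊗[A] Λ) 1).restrictScalars A).comp
        (TensorProduct.comm A Λ E).toLinearMap
    let e := TensorProduct.AlgebraTensorModule.cancelBaseChange A E E S Λ
    have key : ∀ v, (TensorProduct.comm A Λ S) (f v) = e (ev v) := by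
      intro v
      induction v using TensorProduct.induction_on with
      | zero => simp
      | tmul a b =>
        simp only [f, ev, e, Algebra.TensorProduct.map_tmul, LinearMap.comp_apply,
          LinearEquiv.coe_coe, TensorProduct.comm_tmul, LinearMap.restrictScalars_apply,
          TensorProduct.mk_apply, AlgHom.id_apply,
          TensorProduct.AlgebraTensorModule.cancelBaseChange_tmul]
        rw [Algebra.smul_def, mul_one]
        rfl
      | add u v hu hv => rw [map_add, map_add, hu, hv, map_add, map_add]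
    have h := key z
    rw [hzz', key z'] at h
    exact (TensorProduct.comm A Λ E).injective
      (Module.FaithfullyFlat.tensorProduct_mk_injective (A := E) (B := S) _ (e.injective h.symm))
  obtain ⟨w', rfl⟩ : ∃ w', f w' = w := by
    refine ⟨∑ p ∈ T.attach, (p : Λ × S).1 ⊗ₜ[A] (⟨(p : Λ × S).2,
      hsE (Finset.mem_coe.mpr (Finset.mem_image_of_mem (fun q : Λ × S => q.2) p.2))⟩ : E), ?_⟩
    rw [map_sum, hT, ← Finset.sum_attach T]
    exact Finset.sum_congr rfl fun p _ => rfl
  rw [← map_pow] at hn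
  rw [IsReduced.eq_zero w' ⟨n, hf (hn.trans (map_zero f).symm)⟩, map_zero]

variable {D H : Subalgebra A S} [IsLocalRing D] [IsLocalHom (algebraMap D S)] [IsLocalRing H]

/-- The ideal `Rad A' ⊗ D + A' ⊗ m_D` is radical. -/
theorem isRadical_residual (A' : Type u) [CommRing A'] [Algebra A A'] [Module.Finite A A'] :
    ((Ideal.jacobson (⊥ : Ideal A')).map
        (Algebra.TensorProduct.includeLeft : A' →ₐ[A] A' ⊗[A] D) ⊔
      (maximalIdeal D).map
        (Algebra.TensorProduct.includeRight : D →ₐ[A] A' ⊗[A] D)).IsRadical := by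
  haveI := Lib.Henselian.StrictHenselization.flat A S
  obtain ⟨hart, hred, hm⟩ := isArtinianRing_quotient_jacobson (A := A) A'
  haveI := hart; haveI := hred
  let Λ := A' ⧸ Ideal.jacobson (⊥ : Ideal A')
  haveI := isReduced_tensor_strict (A := A) (S := S) Λ
  haveI : IsLocalHom (algebraMap A D) := ⟨fun a ha =>
    IsLocalHom.map_nonunit (f := algebraMap A S) a (ha.map (algebraMap D S))⟩
  let f : A' →ₐ[A] Λ := Ideal.Quotient.mkₐ A _
  let g : D →ₐ[A] ResidueField D := IsScalarTower.toAlgHom A D (ResidueField D)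
  have hker : RingHom.ker (Algebra.TensorProduct.map f g) =
      (Ideal.jacobson (⊥ : Ideal A')).map
        (Algebra.TensorProduct.includeLeft : A' →ₐ[A] A' ⊗[A] D) ⊔
      (maximalIdeal D).map (Algebra.TensorProduct.includeRight : D →ₐ[A] A' ⊗[A] D) := by
    rw [Algebra.TensorProduct.map_ker f g Ideal.Quotient.mk_surjective residue_surjective]
    congr 2
    · exact Ideal.Quotient.mkₐ_ker A _
    · ext d; exact residue_eq_zero_iff d
  rw [← hker]
  -- compare with `Λ ⊗ S`
  let iK : ResidueField D →ₐ[A] ResidueField S :=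
    { ResidueField.map (algebraMap D S) with commutes' := fun a => rfl }
  let iKl : ResidueField D →ₗ[ResidueField A] ResidueField S :=
    { toFun := iK
      map_add' := map_add iK
      map_smul' := fun c x => by
        obtain ⟨a, rfl⟩ := residue_surjective c
        exact map_smul iK a x }
  obtain ⟨r, hr⟩ := iKl.exists_leftInverse_of_injective
    (LinearMap.ker_eq_bot.mpr iK.toRingHom.injective)
  have hinjK : Function.Injective (Algebra.TensorProduct.map (AlgHom.id A Λ) iK) := by
    intro z z' h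
    have key : ∀ v, LinearMap.lTensor Λ (r.restrictScalars A)
        (Algebra.TensorProduct.map (AlgHom.id A Λ) iK v) = v := by
      intro v
      induction v using TensorProduct.induction_on with
      | zero => simp
      | tmul a b =>
        rw [Algebra.TensorProduct.map_tmul, LinearMap.lTensor_tmul]
        exact congrArg (_ ⊗ₜ[A] ·) (LinearMap.congr_fun hr b)
      | add u v hu hv => rw [map_add, map_add, hu, hv]
    rw [← key z, h, key z']
  let π : Λ ⊗[A] S →ₐ[A] Λ ⊗[A] ResidueField S :=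
    Algebra.TensorProduct.map (AlgHom.id A Λ) (IsScalarTower.toAlgHom A S (ResidueField S))
  have hπinj : Function.Injective π := by
    refine (injective_iff_map_eq_zero π.toRingHom).mpr fun v hv => ?_
    have h0 : v ∈ RingHom.ker π := hv
    rw [Algebra.TensorProduct.lTensor_ker _ residue_surjective] at h0
    have hle : (RingHom.ker (IsScalarTower.toAlgHom A S (ResidueField S))).map
        (Algebra.TensorProduct.includeRight : S →ₐ[A] Λ ⊗[A] S) ≤ ⊥ := by
      rw [show RingHom.ker (IsScalarTower.toAlgHom A S (ResidueField S)) = maximalIdeal S from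
        Ideal.ext fun x => residue_eq_zero_iff x,
        ← Lib.Henselian.StrictHenselization.map_maximalIdeal A S, Ideal.map_le_iff_le_comap,
        Ideal.map_le_iff_le_comap]
      intro a ha
      rw [Ideal.mem_comap, Ideal.mem_comap, Ideal.mem_bot, AlgHom.commutes,
        Algebra.TensorProduct.algebraMap_apply]
      rw [show algebraMap A Λ a = 0 from Ideal.Quotient.eq_zero_iff_mem.mpr
        (hm (Ideal.mem_map_of_mem _ ha)), TensorProduct.zero_tmul]
    exact Ideal.mem_bot.mp (hle h0)
  let q : A' ⊗[A] D →ₐ[A] Λ ⊗[A] S := Algebra.TensorProduct.map f D.val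
  have hqker : ∀ z, q z = 0 → Algebra.TensorProduct.map f g z = 0 := by
    intro z hz
    apply hinjK
    rw [map_zero, ← map_zero π, ← hz]
    clear hz
    induction z using TensorProduct.induction_on with
    | zero => simp
    | tmul a b => rfl
    | add u v hu hv => rw [map_add, map_add, map_add, hu, hv, map_add]
  have hqker' : ∀ z, Algebra.TensorProduct.map f g z = 0 → q z = 0 := by
    intro z hz
    apply hπinj
    rw [map_zero, ← map_zero (Algebra.TensorProduct.map (AlgHom.id A Λ) iK), ← hz]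
    clear hz
    induction z using TensorProduct.induction_on with
    | zero => simp
    | tmul a b => rfl
    | add u v hu hv => rw [map_add, map_add, hu, hv, map_add, map_add]
  intro z hz
  obtain ⟨n, hn⟩ := hz
  exact hqker _ (IsReduced.eq_zero _ ⟨n, by rw [← map_pow]; exact hqker' _ hn⟩)

/-- A hom out of `k_D` extends to `H`. -/
theorem exists_residueHom [Algebra D H]
    (hmH : (maximalIdeal D).map (algebraMap D H) = maximalIdeal H)
    (hres : ∀ h : H, ∃ d : D, h - algebraMap D H d ∈ maximalIdeal H) {Ω : Type u} [CommRing Ω]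
    (φ : D →+* Ω) (hφ : maximalIdeal D ≤ RingHom.ker φ) :
    ∃ ψ : H →+* Ω, ∀ d, ψ (algebraMap D H d) = φ d := by
  haveI : IsLocalHom (algebraMap D H) := ((local_hom_TFAE (algebraMap D H)).out 0 2).mpr hmH.le
  let r := ResidueField.map (algebraMap D H)
  have hbij : Function.Bijective r := by
    refine ⟨r.injective, fun z => ?_⟩
    obtain ⟨h, rfl⟩ := residue_surjective z
    obtain ⟨d, hd⟩ := hres h
    refine ⟨residue D d, ?_⟩
    rw [ResidueField.map_residue]
    exact ((Ideal.Quotient.eq).mpr hd).symm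
  let e := RingEquiv.ofBijective r hbij
  let φk : ResidueField D →+* Ω := Ideal.Quotient.lift (maximalIdeal D) φ fun x hx => hφ hx
  refine ⟨φk.comp (e.symm.toRingHom.comp (residue H)), fun d => ?_⟩
  show φk (e.symm (residue H (algebraMap D H d))) = φ d
  rw [show residue H (algebraMap D H d) = e (residue D d) from
    (ResidueField.map_residue _ d).symm, RingEquiv.symm_apply_apply]
  exact Ideal.Quotient.lift_mk _ _ _

variable {A' D' : Subalgebra A (FractionRing S)}

omit [IsLocalRing D] [IsLocalHom (algebraMap D S)] [IsLocalRing H] in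
/-- Elements of `D'` come from `A' ⊗ H`. -/
theorem exists_productMap_eq [IsArtinianRing (FractionRing A)]
    (hA' : ∀ x : (FractionRing S), x ∈ A' ↔ (IsIntegral A x ∧
      ∃ a ∈ A⁰, ∃ b : A, algebraMap A (FractionRing S) a * x = algebraMap A (FractionRing S) b))
    (hD' : ∀ x : (FractionRing S), x ∈ D' ↔ (IsIntegral D x ∧
      ∃ a ∈ A⁰, ∃ d ∈ D, algebraMap A (FractionRing S) a * x = algebraMap S (FractionRing S) d))
    (hDH : D ≤ H)
    (hind : ∀ s : Finset S, (s : Set S) ⊆ H → ∃ E : Subalgebra A S, (s : Set S) ⊆ E ∧ E ≤ H ∧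
      ∃ _ : IsLocalRing E, EGA4loc.IsEssentiallyEtale A E) (x : D') :
    ∃ y, Algebra.TensorProduct.productMap A'.val
      ((IsScalarTower.toAlgHom A S (FractionRing S)).comp H.val) y = (x : FractionRing S) := by
  classical
  haveI := Lib.Henselian.StrictHenselization.flat A S
  obtain ⟨⟨p, hp, hpx⟩, a, ha, d, hd, hx⟩ := (hD' _).mp x.2
  have hsub : ((insert d (p.coeffs.image fun c : D => (c : S)) : Finset S) : Set S) ⊆ H := by
    intro z hz
    rcases Finset.mem_insert.mp hz with rfl | hz
    · exact hDH hd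
    · obtain ⟨c, -, rfl⟩ := Finset.mem_image.mp hz
      exact hDH c.2
  obtain ⟨E, hsE, hEH, _, hE⟩ := hind _ hsub
  haveI := isLocalHom hE
  obtain ⟨_, _⟩ := Lib.Henselian.EssEtale.formallyEtale hE
  haveI := flat hE
  haveI : Module.Flat E S := flat_of_algHom E.val
  let M := FractionRing S
  have hE0 : ∀ e : E⁰, IsUnit (algebraMap E M (e : E)) := fun e => by
    rw [IsScalarTower.algebraMap_apply E S M]
    exact IsLocalization.map_units M
      (⟨_, Fractions.algebraMap_mem_nonZeroDivisors E S e.2⟩ : S⁰)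
  let ιF : FractionRing E →ₐ[E] M :=
    IsLocalization.liftAlgHom (M := E⁰) (f := Algebra.ofId E M) hE0
  have hιFinj : Function.Injective ιF := by
    refine (injective_iff_map_eq_zero ιF.toRingHom).mpr fun z hz => ?_
    obtain ⟨e, s, rfl⟩ := IsLocalization.exists_mk'_eq E⁰ z
    have hz' : ιF (IsLocalization.mk' (FractionRing E) e s) = 0 := hz
    have h : algebraMap E M e = 0 := by
      rw [← ιF.commutes e, ← IsLocalization.mk'_spec (FractionRing E) e s, map_mul, hz', zero_mul]
    rw [IsScalarTower.algebraMap_apply E S M] at h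
    have he : e = 0 :=
      Subtype.val_injective (IsFractionRing.injective S M (h.trans (map_zero _).symm))
    rw [he, IsLocalization.mk'_zero]
  let dE : E := ⟨d, hsE (Finset.mem_coe.mpr (Finset.mem_insert_self _ _))⟩
  obtain ⟨v, hv⟩ := (Normalization.isUnit_algebraMap hE ha).exists_right_inv
  let z : FractionRing E := algebraMap E _ dE * v
  have hz : ιF z = (x : M) := by
    apply (isUnit_algebraMap_frac (S := S) ha).mul_left_cancel
    rw [hx]
    have h1 : algebraMap A M a = ιF (algebraMap A (FractionRing E) a) := by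
      rw [IsScalarTower.algebraMap_apply A E (FractionRing E), ιF.commutes,
        ← IsScalarTower.algebraMap_apply]
    rw [h1, ← map_mul, show algebraMap A (FractionRing E) a * z = algebraMap E _ dE by
      simp only [z]; linear_combination (algebraMap E (FractionRing E) dE) * hv, ιF.commutes]
    rfl
  have hzint : IsIntegral E z := by
    refine (isIntegral_algHom_iff ιF hιFinj).mp ?_
    rw [hz]
    obtain ⟨q, hq, -, hqm⟩ := Polynomial.lifts_and_natDegree_eq_and_monic
      (f := algebraMap E S) (p := p.map (algebraMap D S))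
      ((Polynomial.lifts_iff_coeff_lifts _).mpr fun n => by
        rw [Polynomial.coeff_map]
        by_cases hn : p.coeff n = 0
        · exact ⟨0, by rw [hn, map_zero, map_zero]⟩
        · exact ⟨⟨_, hsE (Finset.mem_coe.mpr (Finset.mem_insert_of_mem
            (Finset.mem_image_of_mem _ (Polynomial.coeff_mem_coeffs hn))))⟩, rfl⟩) (hp.map _)
    refine ⟨q, hqm, ?_⟩
    rw [IsScalarTower.algebraMap_eq E S M, ← Polynomial.eval₂_map, hq, Polynomial.eval₂_map,
      ← IsScalarTower.algebraMap_eq D S M]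
    exact hpx
  letI := Normalization.algebraFrac hE
  haveI := Normalization.isScalarTower hE
  obtain ⟨y, hy⟩ := Normalization.exists_tensor_of_isIntegral hE hzint
  let cA : integralClosure A (FractionRing A) →ₐ[A] A' :=
    (toFrac.comp (integralClosure A (FractionRing A)).val).codRestrict A' (toFrac_mem hA')
  refine ⟨Algebra.TensorProduct.map cA (Subalgebra.inclusion hEH)
    (Algebra.TensorProduct.comm A E _ y), ?_⟩
  rw [← hz, ← hy]
  clear hy
  have hfrac : ∀ c : FractionRing A,
      ιF (algebraMap (FractionRing A) (FractionRing E) c) = toFrac (A := A) (S := S) c := by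
    intro c
    refine RingHom.congr_fun (IsLocalization.ringHom_ext A⁰
      (j := (ιF : FractionRing E →+* M).comp (algebraMap (FractionRing A) (FractionRing E)))
      (k := (toFrac (A := A) (S := S) : FractionRing A →+* M)) (RingHom.ext fun a => ?_)) c
    show ιF (algebraMap (FractionRing A) (FractionRing E) (algebraMap A _ a)) =
      toFrac (algebraMap A _ a)
    rw [← IsScalarTower.algebraMap_apply, IsScalarTower.algebraMap_apply A E (FractionRing E),
      ιF.commutes, ← IsScalarTower.algebraMap_apply, AlgHom.commutes]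
  induction y using TensorProduct.induction_on with
  | zero => simp
  | tmul e c =>
    show (toFrac (A := A) (S := S) (c : FractionRing A)) * algebraMap S M (e : S) =
      ιF (algebraMap E (FractionRing E) e *
        algebraMap (FractionRing A) (FractionRing E) (c : FractionRing A))
    rw [map_mul, ιF.commutes, hfrac, mul_comm]
    rfl
  | add u v hu hv => rw [map_add, map_add, map_add, hu, hv, map_add, map_add]

/-- The kernel is at most the residual ideal (abstract form). -/
theorem mem_of_extension {A A₁ D₁ H₁ B M : Type u} [CommRing A] [CommRing A₁] [CommRing D₁]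
    [CommRing H₁] [CommRing B] [CommRing M] [Algebra A A₁] [Algebra A D₁] [Algebra A H₁]
    [Algebra A B] [Algebra A M] [Algebra D₁ H₁] [IsScalarTower A D₁ H₁] [IsLocalRing D₁]
    (iA : A₁ →ₐ[A] M) (iB : B →ₐ[A] M) (iH : H₁ →ₐ[A] M) (μA : A₁ →ₐ[A] B) (μD : D₁ →ₐ[A] B)
    (hA : ∀ a, iB (μA a) = iA a) (hD : ∀ d, iB (μD d) = iH (algebraMap D₁ H₁ d))
    (hν : Function.Injective (Algebra.TensorProduct.productMap iA iH))
    (hgen : ∀ b : B, ∃ y, Algebra.TensorProduct.productMap iA iH y = iB b)
    (hψ : ∀ (Ω : Type u) [CommRing Ω] (φ : D₁ →+* Ω), maximalIdeal D₁ ≤ RingHom.ker φ →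
      ∃ ψ : H₁ →+* Ω, ∀ d, ψ (algebraMap D₁ H₁ d) = φ d)
    {z : A₁ ⊗[A] D₁}
    (hz : Algebra.TensorProduct.productMap μA μD z ∈ Ideal.jacobson (⊥ : Ideal B))
    (P : Ideal (A₁ ⊗[A] D₁)) [P.IsMaximal]
    (hP : (maximalIdeal D₁).map
      (Algebra.TensorProduct.includeRight : D₁ →ₐ[A] A₁ ⊗[A] D₁) ≤ P) : z ∈ P := by
  let Ω := (A₁ ⊗[A] D₁) ⧸ P
  let π := Ideal.Quotient.mkₐ A P
  obtain ⟨ψ, hψ⟩ := hψ Ω ((π.comp Algebra.TensorProduct.includeRight).toRingHom) (fun d hd =>
    Ideal.Quotient.eq_zero_iff_mem.mpr (hP (Ideal.mem_map_of_mem _ hd)))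
  have hψa : ∀ a : A, ψ (algebraMap A H₁ a) = algebraMap A Ω a := fun a => by
    rw [IsScalarTower.algebraMap_apply A D₁ H₁, hψ]
    exact (π.comp Algebra.TensorProduct.includeRight).commutes a
  let ψA : H₁ →ₐ[A] Ω := { ψ with commutes' := hψa }
  let νA := Algebra.TensorProduct.productMap iA iH
  let ν : A₁ ⊗[A] H₁ →ₐ[A] Ω :=
    Algebra.TensorProduct.productMap (π.comp Algebra.TensorProduct.includeLeft) ψA
  let e := AlgEquiv.ofInjective νA hν
  let ω : B →ₐ[A] Ω := ν.comp (e.symm.toAlgHom.comp (iB.codRestrict νA.range fun x => hgen x))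
  let μ := Algebra.TensorProduct.productMap μA μD
  have he : ∀ b y, νA y = iB b → ω b = ν y := fun b y h => by
    show ν (e.symm _) = ν y
    exact congrArg ν (e.injective ((e.apply_symm_apply _).trans (Subtype.ext h.symm)))
  have hωμ : ω.comp μ = π := by
    refine Algebra.TensorProduct.ext ?_ ?_
    · ext a
      show ω (μ (a ⊗ₜ 1)) = π (a ⊗ₜ 1)
      rw [he _ (a ⊗ₜ[A] (1 : H₁)) (by simp [μ, νA, hA])]
      simp [ν]
    · ext d
      show ω (μ (1 ⊗ₜ d)) = π (1 ⊗ₜ d)
      rw [he _ ((1 : A₁) ⊗ₜ[A] algebraMap D₁ H₁ d) (by simp [μ, νA, hD])]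
      simp [ν, ψA, hψ]
      rw [← map_mul, Algebra.TensorProduct.tmul_mul_tmul, one_mul, one_mul]
  have hωs : Function.Surjective ω := fun w => by
    obtain ⟨u, rfl⟩ := Ideal.Quotient.mk_surjective w
    exact ⟨μ u, AlgHom.congr_fun hωμ u⟩
  letI : Field Ω := Ideal.Quotient.field P
  have hN : (RingHom.ker ω.toRingHom).IsMaximal := RingHom.ker_isMaximal_of_surjective _ hωs
  have hmem : μ z ∈ RingHom.ker ω.toRingHom := by
    rw [Ideal.jacobson, Ideal.mem_sInf] at hz
    exact hz ⟨bot_le, hN⟩
  have h0 : ω (μ z) = 0 := hmem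
  exact Ideal.Quotient.eq_zero_iff_mem.mp ((AlgHom.congr_fun hωμ z).symm.trans h0)

/-- Primes of `A₁ ⊗ D₁` over `m_D` are maximal, and there are finitely many. -/
theorem isMaximal_and_finite {A A₁ D₁ : Type u} [CommRing A] [CommRing A₁] [CommRing D₁]
    [Algebra A A₁] [Algebra A D₁] [IsLocalRing D₁] [Module.Finite A A₁] :
    (∀ P : Ideal (A₁ ⊗[A] D₁), P.IsPrime → (maximalIdeal D₁).map
        (Algebra.TensorProduct.includeRight : D₁ →ₐ[A] A₁ ⊗[A] D₁) ≤ P → P.IsMaximal) ∧
      {P : Ideal (A₁ ⊗[A] D₁) | P.IsMaximal}.Finite := by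
  letI : Algebra D₁ (A₁ ⊗[A] D₁) := Algebra.TensorProduct.rightAlgebra
  haveI : Module.Finite D₁ (A₁ ⊗[A] D₁) :=
    Module.Finite.equiv
      ({ Algebra.TensorProduct.comm A D₁ A₁ with
         commutes' := fun d => by simp [Algebra.TensorProduct.right_algebraMap_apply] } :
        D₁ ⊗[A] A₁ ≃ₐ[D₁] A₁ ⊗[A] D₁).toLinearEquiv
  refine ⟨fun P hP hle => ?_, ?_⟩
  · haveI : Algebra.IsIntegral D₁ (A₁ ⊗[A] D₁) := Algebra.IsIntegral.of_finite D₁ _
    refine Ideal.isMaximal_of_isIntegral_of_isMaximal_comap (R := D₁) P ?_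
    rw [show P.comap (algebraMap D₁ (A₁ ⊗[A] D₁)) = maximalIdeal D₁ from
      le_antisymm (le_maximalIdeal (Ideal.IsPrime.ne_top inferInstance)) fun d hd =>
        hle (Ideal.mem_map_of_mem _ hd)]
    infer_instance
  · haveI : Finite (MaximalSpectrum (A₁ ⊗[A] D₁)) :=
      Lib.Henselian.Finite.finite_maximalSpectrum D₁
    exact (Set.finite_range fun m : MaximalSpectrum (A₁ ⊗[A] D₁) => m.asIdeal).subset
      fun P hP => ⟨⟨P, hP⟩, rfl⟩

/-- Values of maps out of `B` and `H₁` on elements of `B` coming from `B ⊗ H₁`. -/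
theorem map_eq_sum {D₁ B H₁ M Ω : Type u} [CommRing D₁] [CommRing B] [CommRing H₁] [CommRing M]
    [CommRing Ω] [Algebra D₁ B] [Algebra D₁ H₁] [Algebra D₁ M] (iB : B →ₐ[D₁] M)
    (iH : H₁ →ₐ[D₁] M) (hν : Function.Injective (Algebra.TensorProduct.productMap iB iH))
    {κ : Type u} (T : Finset κ) (b : κ → B) (h : κ → H₁) {x : B}
    (heq : iB x = ∑ i ∈ T, iB (b i) * iH (h i)) (φ : B →+* Ω) (ψ : H₁ →+* Ω)
    (hψ : ∀ d, ψ (algebraMap D₁ H₁ d) = φ (algebraMap D₁ B d)) :
    φ x = ∑ i ∈ T, φ (b i) * ψ (h i) := by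
  letI : Algebra D₁ Ω := (φ.comp (algebraMap D₁ B)).toAlgebra
  let φ' : B →ₐ[D₁] Ω := { φ with commutes' := fun _ => rfl }
  let ψ' : H₁ →ₐ[D₁] Ω := { ψ with commutes' := hψ }
  have hz : x ⊗ₜ[D₁] (1 : H₁) = ∑ i ∈ T, b i ⊗ₜ[D₁] h i := hν (by
    rw [map_sum, Algebra.TensorProduct.productMap_apply_tmul, map_one, mul_one, heq]
    rfl)
  have := congrArg (Algebra.TensorProduct.productMap φ' ψ') hz
  rw [map_sum, Algebra.TensorProduct.productMap_apply_tmul, map_one, mul_one] at this
  exact this

/-- Assembly of the residual conditions. -/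
theorem conditions_aux {A A₁ D₁ B : Type u} [CommRing A] [CommRing A₁] [CommRing D₁] [CommRing B]
    [Algebra A A₁] [Algebra A D₁] [Algebra A B] [IsLocalRing D₁] [Module.Finite A A₁]
    (μA : A₁ →ₐ[A] B) (μD : D₁ →ₐ[A] B)
    (hD : ∀ N : Ideal B, N.IsMaximal → N.comap μD = maximalIdeal D₁)
    (hA : ∀ N : Ideal B, N.IsMaximal → Ideal.jacobson (⊥ : Ideal A₁) ≤ N.comap μA)
    (hsub : ∀ x : B, ∃ z, ∀ N : Ideal B, N.IsMaximal →
      x - Algebra.TensorProduct.productMap μA μD z ∈ N)
    (hext : ∀ z, Algebra.TensorProduct.productMap μA μD z ∈ Ideal.jacobson (⊥ : Ideal B) →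
      ∀ P : Ideal (A₁ ⊗[A] D₁), P.IsMaximal → (maximalIdeal D₁).map
        (Algebra.TensorProduct.includeRight : D₁ →ₐ[A] A₁ ⊗[A] D₁) ≤ P → z ∈ P)
    (hrad : ((Ideal.jacobson (⊥ : Ideal A₁)).map
        (Algebra.TensorProduct.includeLeft : A₁ →ₐ[A] A₁ ⊗[A] D₁) ⊔
      (maximalIdeal D₁).map
        (Algebra.TensorProduct.includeRight : D₁ →ₐ[A] A₁ ⊗[A] D₁)).IsRadical) :
    {N : Ideal B | N.IsMaximal}.Finite ∧
      Function.Surjective ((Ideal.Quotient.mkₐ A (Ideal.jacobson (⊥ : Ideal B))).comp
        (Algebra.TensorProduct.productMap μA μD)) ∧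
      RingHom.ker ((Ideal.Quotient.mkₐ A (Ideal.jacobson (⊥ : Ideal B))).comp
        (Algebra.TensorProduct.productMap μA μD)) =
        (Ideal.jacobson (⊥ : Ideal A₁)).map
            (Algebra.TensorProduct.includeLeft : A₁ →ₐ[A] A₁ ⊗[A] D₁) ⊔
          (maximalIdeal D₁).map
            (Algebra.TensorProduct.includeRight : D₁ →ₐ[A] A₁ ⊗[A] D₁) := by
  let μ := Algebra.TensorProduct.productMap μA μD
  let Φ := (Ideal.Quotient.mkₐ A (Ideal.jacobson (⊥ : Ideal B))).comp μ
  have hsurj : Function.Surjective Φ := fun w => by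
    obtain ⟨x, rfl⟩ := Ideal.Quotient.mk_surjective w
    obtain ⟨z, hz⟩ := hsub x
    refine ⟨z, (Ideal.Quotient.eq.mpr ?_).symm⟩
    rw [Ideal.jacobson, Ideal.mem_sInf]
    exact fun N hN => hz N hN.2
  obtain ⟨hmax, hfinT⟩ := isMaximal_and_finite (A := A) (A₁ := A₁) (D₁ := D₁)
  refine ⟨?_, hsurj, le_antisymm (fun z hz => ?_) ?_⟩
  · refine (hfinT.image fun P => (P.map Φ.toRingHom).comap
      (Ideal.Quotient.mk (Ideal.jacobson (⊥ : Ideal B)))).subset fun N hN => ?_
    haveI : N.IsMaximal := hN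
    have hjN : Ideal.jacobson (⊥ : Ideal B) ≤ N := sInf_le ⟨bot_le, hN⟩
    haveI hNm : (N.map (Ideal.Quotient.mk (Ideal.jacobson (⊥ : Ideal B)))).IsMaximal :=
      Ideal.IsMaximal.map_of_surjective_of_ker_le Ideal.Quotient.mk_surjective
        (by rw [Ideal.mk_ker]; exact hjN)
    refine ⟨(N.map (Ideal.Quotient.mk _)).comap Φ.toRingHom,
      Ideal.comap_isMaximal_of_surjective _ hsurj, ?_⟩
    dsimp only
    rw [Ideal.map_comap_of_surjective Φ.toRingHom hsurj, Ideal.comap_map_of_surjective _
      Ideal.Quotient.mk_surjective, ← RingHom.ker_eq_comap_bot, Ideal.mk_ker]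
    exact sup_eq_left.mpr hjN
  · rw [← hrad.radical, Ideal.radical_eq_sInf, Ideal.mem_sInf]
    intro P ⟨hJP, hP⟩
    exact hext z (Ideal.Quotient.eq_zero_iff_mem.mp (RingHom.mem_ker.mp hz)) P
      (hmax P hP (le_sup_right.trans hJP)) (le_sup_right.trans hJP)
  · refine sup_le (Ideal.map_le_iff_le_comap.mpr fun a ha => ?_)
      (Ideal.map_le_iff_le_comap.mpr fun d hd => ?_)
    · refine RingHom.mem_ker.mpr (Ideal.Quotient.eq_zero_iff_mem.mpr ?_)
      rw [Ideal.jacobson, Ideal.mem_sInf]
      rintro N ⟨-, hN⟩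
      show μ (a ⊗ₜ 1) ∈ N
      rw [show μ (a ⊗ₜ 1) = μA a by simp [μ]]
      exact hA N hN ha
    · refine RingHom.mem_ker.mpr (Ideal.Quotient.eq_zero_iff_mem.mpr ?_)
      rw [Ideal.jacobson, Ideal.mem_sInf]
      rintro N ⟨-, hN⟩
      show μ (1 ⊗ₜ d) ∈ N
      rw [show μ (1 ⊗ₜ d) = μD d by simp [μ]]
      rw [← hD N hN] at hd
      exact hd

variable (hD' : ∀ x : (FractionRing S), x ∈ D' ↔ (IsIntegral D x ∧
      ∃ a ∈ A⁰, ∃ d ∈ D, algebraMap A (FractionRing S) a * x = algebraMap S (FractionRing S) d))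
  (ι : D →ₐ[A] D') (hι : ∀ d : D, (ι d : (FractionRing S)) = algebraMap S (FractionRing S) d)

include hD' hι in
omit [IsLocalHom (algebraMap D S)] in
/-- Maximal ideals of the normalization of `D` lie over `m_D`. -/
theorem comap_eq_maximalIdeal (N : Ideal D') (hN : N.IsMaximal) :
    N.comap ι = maximalIdeal D := by
  letI : Algebra D D' := ι.toRingHom.toAlgebra
  haveI : IsScalarTower D D' (FractionRing S) := IsScalarTower.of_algebraMap_eq fun d => by
    show algebraMap S (FractionRing S) (d : S) = (ι d : FractionRing S)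
    rw [hι]
  haveI : Algebra.IsIntegral D D' := ⟨fun x =>
    (isIntegral_algebraMap_iff (B := FractionRing S) Subtype.val_injective).mp ((hD' _).mp x.2).1⟩
  exact eq_maximalIdeal (Ideal.isMaximal_comap_of_isIntegral_of_isMaximal (R := D) N)

include hD' hι in
/-- Surjectivity modulo every maximal ideal. -/
theorem exists_sub_mem (hle : A' ≤ D') [Algebra D H]
    (hDH : ∀ d : D, ((algebraMap D H d : H) : S) = (d : S))
    [Module.Flat D H] (hmH : (maximalIdeal D).map (algebraMap D H) = maximalIdeal H)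
    (hres : ∀ h : H, ∃ d : D, h - algebraMap D H d ∈ maximalIdeal H) (x : D')
    (y : A' ⊗[A] H) (hy : Algebra.TensorProduct.productMap A'.val
      ((IsScalarTower.toAlgHom A S (FractionRing S)).comp H.val) y = (x : FractionRing S)) :
    ∃ z, ∀ N : Ideal D', N.IsMaximal →
      x - Algebra.TensorProduct.productMap (Subalgebra.inclusion hle) ι z ∈ N := by
  classical
  haveI := Lib.Henselian.StrictHenselization.flat A S
  choose dres hdres using hres
  let M := FractionRing S
  letI : Algebra D D' := ι.toRingHom.toAlgebra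
  haveI : IsScalarTower D D' M := IsScalarTower.of_algebraMap_eq fun d => by
    show algebraMap S M (d : S) = (ι d : M)
    rw [hι]
  let iH : H →ₐ[D] M :=
    { (algebraMap S M).comp H.val.toRingHom with
      commutes' := fun d => by
        show algebraMap S M ((algebraMap D H d : H) : S) = algebraMap S M (d : S)
        rw [hDH] }
  let νD := Algebra.TensorProduct.productMap (IsScalarTower.toAlgHom D D' M) iH
  have hνD : Function.Injective νD := injective_productMap _ Subtype.val_injective iH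
    ((IsFractionRing.injective S M).comp Subtype.val_injective)
    ((fun a => algebraMap A D a) '' (A⁰ : Set A)) ⟨1, one_mem _, map_one _⟩
    (by rintro _ ⟨a, ha, rfl⟩ _ ⟨b, hb, rfl⟩; exact ⟨a * b, mul_mem ha hb, map_mul _ _ _⟩)
    (by
      rintro _ ⟨a, ha, rfl⟩
      show IsUnit (algebraMap S M (algebraMap A D a : S))
      exact (IsScalarTower.algebraMap_apply A S M a) ▸ isUnit_algebraMap_frac ha)
    fun x => by
      obtain ⟨-, a, ha, d, hd, hx⟩ := (hD' _).mp x.2
      refine ⟨_, ⟨a, ha, rfl⟩, ⟨d, hd⟩, Subtype.ext ?_⟩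
      rw [Algebra.smul_def]
      show (ι (algebraMap A D a) : M) * (x : M) = (ι ⟨d, hd⟩ : M)
      rw [hι, hι]
      exact (IsScalarTower.algebraMap_apply A S M a) ▸ hx
  obtain ⟨T, hT⟩ := TensorProduct.exists_finset y
  refine ⟨∑ p ∈ T, p.1 ⊗ₜ[A] dres p.2, fun N hN => ?_⟩
  obtain ⟨ψ, hψ⟩ := exists_residueHom hmH (fun h => ⟨_, hdres h⟩) (Ω := D' ⧸ N)
    ((Ideal.Quotient.mk N).comp ι.toRingHom) (fun d hd => by
      rw [← comap_eq_maximalIdeal hD' ι hι N hN] at hd
      exact Ideal.Quotient.eq_zero_iff_mem.mpr hd)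
  have heq : (x : M) = ∑ p ∈ T, ((Subalgebra.inclusion hle p.1 : D') : M) * iH p.2 := by
    rw [← hy, hT, map_sum]
    rfl
  have h := map_eq_sum (IsScalarTower.toAlgHom D D' M) iH hνD T
    (fun p => Subalgebra.inclusion hle p.1) (fun p => p.2) heq (Ideal.Quotient.mk N) ψ hψ
  rw [← Ideal.Quotient.eq, map_sum, map_sum, h]
  refine Finset.sum_congr rfl fun p _ => ?_
  show Ideal.Quotient.mk N (Subalgebra.inclusion hle p.1) * ψ p.2 = _
  rw [Algebra.TensorProduct.productMap_apply_tmul, map_mul]
  congr 1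
  have hker : maximalIdeal H ≤ RingHom.ker ψ := by
    rw [← hmH, Ideal.map_le_iff_le_comap]
    intro d hd
    show ψ (algebraMap D H d) = 0
    rw [hψ]
    rw [← comap_eq_maximalIdeal hD' ι hι N hN] at hd
    exact Ideal.Quotient.eq_zero_iff_mem.mpr hd
  have h0 := RingHom.mem_ker.mp (hker (hdres p.2))
  rw [map_sub, sub_eq_zero, hψ] at h0
  exact h0

include hD' hι in
/-- Necessity of the residual condition. -/
theorem conditions [IsReduced A] (hA : CAlg.IsNagata A)
    (hA' : ∀ x : (FractionRing S), x ∈ A' ↔ (IsIntegral A x ∧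
      ∃ a ∈ A⁰, ∃ b : A, algebraMap A (FractionRing S) a * x = algebraMap A (FractionRing S) b))
    (hle : A' ≤ D') [Algebra D H] (hDH : ∀ d : D, ((algebraMap D H d : H) : S) = (d : S))
    [Module.Flat D H] (hmH : (maximalIdeal D).map (algebraMap D H) = maximalIdeal H)
    (hres : ∀ h : H, ∃ d : D, h - algebraMap D H d ∈ maximalIdeal H)
    (hind : ∀ s : Finset S, (s : Set S) ⊆ H → ∃ E : Subalgebra A S, (s : Set S) ⊆ E ∧ E ≤ H ∧
      ∃ _ : IsLocalRing E, EGA4loc.IsEssentiallyEtale A E) :
    {N : Ideal D' | N.IsMaximal}.Finite ∧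
      Function.Surjective ((Ideal.Quotient.mkₐ A (Ideal.jacobson (⊥ : Ideal D'))).comp
        (Algebra.TensorProduct.productMap (Subalgebra.inclusion hle) ι)) ∧
      RingHom.ker ((Ideal.Quotient.mkₐ A (Ideal.jacobson (⊥ : Ideal D'))).comp
        (Algebra.TensorProduct.productMap (Subalgebra.inclusion hle) ι)) =
        (Ideal.jacobson (⊥ : Ideal A')).map
            (Algebra.TensorProduct.includeLeft : A' →ₐ[A] A' ⊗[A] D) ⊔
          (maximalIdeal D).map
            (Algebra.TensorProduct.includeRight : D →ₐ[A] A' ⊗[A] D) := by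
  classical
  haveI := hA.1
  haveI := Fractions.isArtinianRing_fractionRing A (minimalPrimes.finite_of_isNoetherianRing A)
  haveI := flat_of_stages H hind
  haveI := finite_of_mem_iff hA hA'
  have hDH' : D ≤ H := fun d hd => by
    rw [show d = ((algebraMap D H ⟨d, hd⟩ : H) : S) from (hDH ⟨d, hd⟩).symm]
    exact (algebraMap D H ⟨d, hd⟩).2
  haveI : IsScalarTower A D H := IsScalarTower.of_algebraMap_eq fun r =>
    Subtype.ext (hDH (algebraMap A D r)).symm
  have hgen := exists_productMap_eq hA' hD' hDH' hind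
  have hcomap := comap_eq_maximalIdeal hD' ι hι
  let M := FractionRing S
  let iH : H →ₐ[A] M := (IsScalarTower.toAlgHom A S M).comp H.val
  refine conditions_aux (A := A) (A₁ := A') (D₁ := D) (B := D') (Subalgebra.inclusion hle) ι hcomap
    ?_ (fun x => ?_) (fun z hz P hP hle' => ?_) (isRadical_residual (D := D) A')
  · intro N hN
    haveI : IsLocalHom (algebraMap A D) := ⟨fun a ha =>
      IsLocalHom.map_nonunit (f := algebraMap A S) a (ha.map (algebraMap D S))⟩
    haveI : Algebra.IsIntegral A A' := Algebra.IsIntegral.of_finite A A'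
    haveI := hN
    refine sInf_le ⟨bot_le, Ideal.isMaximal_of_isIntegral_of_isMaximal_comap (R := A) _ ?_⟩
    have hc : (N.comap (Subalgebra.inclusion hle)).comap (algebraMap A A') = maximalIdeal A := by
      refine le_antisymm (le_maximalIdeal (Ideal.IsPrime.ne_top inferInstance)) fun r hr => ?_
      have hd : algebraMap A D r ∈ N.comap ι := by
        rw [hcomap N hN, mem_maximalIdeal, mem_nonunits_iff]
        exact fun hu => hr (IsLocalHom.map_nonunit r hu)
      rw [Ideal.mem_comap, AlgHom.commutes] at hd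
      rw [Ideal.mem_comap, Ideal.mem_comap, AlgHom.commutes]
      exact hd
    rw [hc]; infer_instance
  · obtain ⟨y, hy⟩ := hgen x
    exact exists_sub_mem hD' ι hι hle hDH hmH hres x y hy
  · haveI := hP
    refine mem_of_extension (A := A) (A₁ := A') (D₁ := D) (H₁ := H) (B := D') (M := M)
      A'.val D'.val iH (Subalgebra.inclusion hle) ι (fun _ => rfl) (fun d => ?_) ?_ hgen
      (fun Ω _ φ hφ => exists_residueHom hmH hres φ hφ) hz P hle'
    · show (ι d : M) = algebraMap S M ((algebraMap D H d : H) : S)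
      rw [hι, hDH]
    · exact injective_productMap A'.val Subtype.val_injective iH
        ((IsFractionRing.injective S M).comp Subtype.val_injective) (A⁰ : Set A) (one_mem _)
        (fun a ha b hb => mul_mem ha hb) (fun a ha => isUnit_algebraMap_frac ha)
        fun x => by
          obtain ⟨-, a, ha, b, hab⟩ := (hA' _).mp x.2
          refine ⟨a, ha, b, Subtype.ext ?_⟩
          rw [SetLike.val_smul, Algebra.smul_def]
          exact hab

end Groth.Agent.H24.EssEtale.Residual
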