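import Groth.Agent.H24.EssEtale.ResidualBasic
import Groth.Agent.Lib.Henselian.Permanence

/-!
# Residual products of normalizations: sufficiency

If `A' ⊗ D → D'/Rad D'` is surjective, then `S` is flat over `D`: the strict henselization of `D`
maps isomorphically to `S`, because two primes of it with the same trace on `S` are separated by an
idempotent of its normalization, which is impossible as both points have the same residues.
-/

universe u

open IsLocalRing
open scoped nonZeroDivisors TensorProduct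

namespace Groth.Agent.H24.EssEtale.Residual

/-- In a reduced zero-dimensional ring every element is associated to an idempotent. -/
theorem exists_idempotent {R : Type u} [CommRing R] [IsReduced R]
    (h : ∀ I : Ideal R, I.IsPrime → I.IsMaximal) (x : R) :
    ∃ r : R, IsIdempotentElem (r * x) ∧ r * x * x = x := by
  let ann : Ideal R := LinearMap.ker (LinearMap.mulRight R x)
  have htop : ann ⊔ Ideal.span {x} = ⊤ := by
    by_contra hne
    obtain ⟨M, hM, hle⟩ := Ideal.exists_le_maximal _ hne
    haveI := hM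
    have hmin : M ∈ minimalPrimes R :=
      ⟨⟨inferInstance, bot_le⟩, fun Q hQ hQM => ((h Q hQ.1).eq_of_le hM.ne_top hQM).ge⟩
    haveI : Ring.KrullDimLE 0 (Localization.AtPrime M) := Ring.KrullDimLE.mk₀ fun I hI => by
      haveI := IsLocalization.subsingleton_primeSpectrum_of_mem_minimalPrimes M hmin
        (Localization.AtPrime M)
      have he : (⟨I, hI⟩ : PrimeSpectrum (Localization.AtPrime M)) =
          IsLocalRing.closedPoint _ := Subsingleton.elim _ _
      rw [show I = maximalIdeal (Localization.AtPrime M) from congrArg PrimeSpectrum.asIdeal he]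
      infer_instance
    have hfield : IsField (Localization.AtPrime M) := Ring.KrullDimLE.isField_of_isReduced
    have hx : x ∈ M := hle (Ideal.mem_sup_right (Ideal.mem_span_singleton_self x))
    have h0 : algebraMap R (Localization.AtPrime M) x = 0 := by
      by_contra hne0
      letI := hfield.toField
      exact (IsLocalization.AtPrime.isUnit_to_map_iff (Localization.AtPrime M) M x).mp
        (isUnit_iff_ne_zero.mpr hne0) hx
    obtain ⟨⟨s, hs⟩, hsx⟩ := (IsLocalization.map_eq_zero_iff M.primeCompl _ x).mp h0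
    exact hs (hle (Ideal.mem_sup_left hsx))
  obtain ⟨w, hw, v, hv, hwv⟩ := Submodule.mem_sup.mp ((Ideal.eq_top_iff_one _).mp htop)
  obtain ⟨r, rfl⟩ := Ideal.mem_span_singleton'.mp hv
  have hw0 : w * x = 0 := hw
  refine ⟨r, ?_, ?_⟩
  · show r * x * (r * x) = r * x
    linear_combination (r * x) * hwv - r * hw0
  · linear_combination x * hwv - hw0

/-- Two maps out of `B` agreeing on generators modulo `Rad B` and killing it are equal. -/
theorem ringHom_eq_of_surjective {A A₁ D₁ B Ω : Type u} [CommRing A] [CommRing A₁] [CommRing D₁]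
    [CommRing B] [CommRing Ω] [Algebra A A₁] [Algebra A D₁] [Algebra A B] (μA : A₁ →ₐ[A] B)
    (μD : D₁ →ₐ[A] B)
    (hsurj : ∀ x : B, ∃ z, x - Algebra.TensorProduct.productMap μA μD z ∈
      Ideal.jacobson (⊥ : Ideal B))
    (φ ψ : B →+* Ω) (hφ : Ideal.jacobson (⊥ : Ideal B) ≤ RingHom.ker φ)
    (hψ : Ideal.jacobson (⊥ : Ideal B) ≤ RingHom.ker ψ)
    (hA : ∀ a, φ (μA a) = ψ (μA a)) (hD : ∀ d, φ (μD d) = ψ (μD d)) : φ = ψ := by
  refine RingHom.ext fun x => ?_
  obtain ⟨z, hz⟩ := hsurj x
  have h1 := RingHom.mem_ker.mp (hφ hz)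
  have h2 := RingHom.mem_ker.mp (hψ hz)
  rw [map_sub, sub_eq_zero] at h1 h2
  rw [h1, h2]
  clear h1 h2 hz
  induction z using TensorProduct.induction_on with
  | zero => simp
  | tmul a d =>
    rw [Algebra.TensorProduct.productMap_apply_tmul, map_mul, map_mul, hA, hD]
  | add u v hu hv => rw [map_add, map_add, map_add, hu, hv]

/-- An idempotent fraction not vanishing at some prime avoiding the denominators. -/
theorem exists_prime_separating {R : Type u} [CommRing R] [IsReduced R] (W : Submonoid R)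
    (hW : ∀ w ∈ W, w ∈ R⁰)
    (hinc : ∀ P Q : Ideal R, P.IsPrime → Q.IsPrime → P ≤ Q → Disjoint (W : Set R) Q → P = Q)
    {x₀ : R} (hx₀ : x₀ ≠ 0) :
    ∃ w ∈ W, ∃ r : R, ∃ P : Ideal R, P.IsPrime ∧ Disjoint (W : Set R) P ∧
      r * x₀ * (r * x₀) = w * (r * x₀) ∧ r * x₀ ∉ P := by
  let RK := Localization W
  haveI : IsReduced RK := isReduced_localizationPreserves W RK inferInstance
  have hRK : Function.Injective (algebraMap R RK) :=
    IsLocalization.injective RK (fun w hw => hW w hw)
  have hdim : ∀ I : Ideal RK, I.IsPrime → I.IsMaximal := by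
    intro I hI
    obtain ⟨J, hJ, hIJ⟩ := Ideal.exists_le_maximal I hI.ne_top
    haveI := hJ
    have hd := ((IsLocalization.isPrime_iff_isPrime_disjoint W RK J).mp inferInstance).2
    have h := hinc _ _ inferInstance inferInstance
      (Ideal.comap_mono (f := algebraMap R RK) hIJ) hd
    have h' := congrArg (Ideal.map (algebraMap R RK)) h
    rw [IsLocalization.map_comap W RK, IsLocalization.map_comap W RK] at h'
    rw [h']; exact hJ
  obtain ⟨r, hr, hrx⟩ := exists_idempotent hdim (algebraMap R RK x₀)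
  obtain ⟨r', ⟨w, hw⟩, hr'⟩ := IsLocalization.exists_mk'_eq W r
  have hx : r * algebraMap R RK x₀ * algebraMap R RK w = algebraMap R RK (r' * x₀) := by
    rw [← hr', map_mul, mul_right_comm, IsLocalization.mk'_spec]
  have hxne : r' * x₀ ≠ 0 := fun h0 => by
    have : r * algebraMap R RK x₀ = 0 := by
      apply ((IsLocalization.map_units RK (⟨w, hw⟩ : W))).mul_left_eq_zero.mp
      rw [hx, h0, map_zero]
    rw [this, zero_mul] at hrx
    exact hx₀ (hRK (hrx.symm.trans (map_zero _).symm))
  obtain ⟨P', hP', hxP'⟩ : ∃ P' : Ideal RK, P'.IsPrime ∧ algebraMap R RK (r' * x₀) ∉ P' := by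
    by_contra hc
    push Not at hc
    exact hxne (hRK ((IsReduced.eq_zero _ (nilpotent_iff_mem_prime.mpr hc)).trans (map_zero _).symm))
  haveI := hP'
  refine ⟨w, hw, r', P'.comap (algebraMap R RK), inferInstance,
    ((IsLocalization.isPrime_iff_isPrime_disjoint W RK P').mp inferInstance).2, hRK ?_, hxP'⟩
  rw [map_mul (algebraMap R RK) (r' * x₀) (r' * x₀), map_mul (algebraMap R RK) w (r' * x₀), ← hx]
  linear_combination (algebraMap R RK w) ^ 2 * hr.eq

/-- Two points of `C ⊗ L` agreeing modulo a proper ideal on integral elements cannot be separated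
by an idempotent. -/
theorem not_separated {D C L F : Type u} [CommRing D] [IsLocalRing D] [CommRing C] [Algebra D C]
    [CommRing L] [Algebra D L] [Field F] (hC : EGA4loc.IsEssentiallyEtale D C)
    (T : Subring F) {Ω : Type u} [CommRing Ω] [Nontrivial Ω] (q : T →+* Ω) (g₁ g₂ : C →+* F)
    (h₁ h₂ : L →+* F) (hcompat₁ : ∀ d, g₁ (algebraMap D C d) = h₁ (algebraMap D L d))
    (hcompat₂ : ∀ d, g₂ (algebraMap D C d) = h₂ (algebraMap D L d))
    (hgC : ∀ c, ∃ t₁ t₂ : T, q t₁ = q t₂ ∧ (t₁ : F) = g₁ c ∧ (t₂ : F) = g₂ c)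
    (hhL : ∀ l : L, IsIntegral D l → ∃ t₁ t₂ : T, q t₁ = q t₂ ∧ (t₁ : F) = h₁ l ∧ (t₂ : F) = h₂ l)
    {a : D} {x : C} {ainv : L} (hainv : algebraMap D L a * ainv = 1)
    (hxx : x * x = algebraMap D C a * x) (hx₁ : g₁ x ≠ 0) (hx₂ : g₂ x = 0) : False := by
  let e : C ⊗[D] L := x ⊗ₜ ainv
  have he : e * e = e := by
    show x ⊗ₜ[D] ainv * (x ⊗ₜ[D] ainv) = x ⊗ₜ[D] ainv
    rw [Algebra.TensorProduct.tmul_mul_tmul, hxx, ← Algebra.smul_def, TensorProduct.smul_tmul,
      Algebra.smul_def, ← mul_assoc, hainv, one_mul]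
  haveI := isLocalRing hC
  have heint : IsIntegral C e :=
    ⟨Polynomial.X ^ 2 - Polynomial.X, (Polynomial.monic_X_pow 2).sub_of_left
      (by rw [Polynomial.degree_X_pow, Polynomial.degree_X]; decide),
      by simp [sq, he]⟩
  obtain ⟨y, hy⟩ := (Normal.bijective_toIntegralClosure hC L).2 ⟨e, heint⟩
  replace hy : Algebra.TensorProduct.map (AlgHom.id C C) (integralClosure D L).val y = e :=
    congrArg Subtype.val hy
  have hΘ : ∀ (g : C →+* F) (h : L →+* F), (∀ d, g (algebraMap D C d) = h (algebraMap D L d)) →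
      ∃ Θ : C ⊗[D] L →+* F, ∀ c l, Θ (c ⊗ₜ l) = g c * h l := by
    intro g h hgh
    letI : Algebra D F := (g.comp (algebraMap D C)).toAlgebra
    exact ⟨(Algebra.TensorProduct.productMap ({ g with commutes' := fun d => rfl } : C →ₐ[D] F)
      ({ h with commutes' := fun d => (hgh d).symm } : L →ₐ[D] F)).toRingHom, fun c l => rfl⟩
  obtain ⟨Θ₁, hΘ₁⟩ := hΘ g₁ h₁ hcompat₁
  obtain ⟨Θ₂, hΘ₂⟩ := hΘ g₂ h₂ hcompat₂
  have key : ∀ z : C ⊗[D] integralClosure D L, ∃ t₁ t₂ : T, q t₁ = q t₂ ∧
      (t₁ : F) = Θ₁ (Algebra.TensorProduct.map (AlgHom.id C C) (integralClosure D L).val z) ∧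
      (t₂ : F) = Θ₂ (Algebra.TensorProduct.map (AlgHom.id C C) (integralClosure D L).val z) := by
    intro z
    induction z using TensorProduct.induction_on with
    | zero => exact ⟨0, 0, rfl, by simp, by simp⟩
    | tmul c l =>
      obtain ⟨u₁, u₂, hu, e₁, e₂⟩ := hgC c
      obtain ⟨v₁, v₂, hv, f₁, f₂⟩ := hhL l l.2
      exact ⟨u₁ * v₁, u₂ * v₂, by rw [map_mul, map_mul, hu, hv],
        by rw [Subring.coe_mul, e₁, f₁]; exact (hΘ₁ c l).symm,
        by rw [Subring.coe_mul, e₂, f₂]; exact (hΘ₂ c l).symm⟩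
    | add u w hu hw =>
      obtain ⟨t₁, t₂, ht, e₁, e₂⟩ := hu
      obtain ⟨s₁, s₂, hs, f₁, f₂⟩ := hw
      exact ⟨t₁ + s₁, t₂ + s₂, by rw [map_add, map_add, ht, hs],
        by rw [map_add, map_add, ← e₁, ← f₁]; rfl, by rw [map_add, map_add, ← e₂, ← f₂]; rfl⟩
  obtain ⟨t₁, t₂, ht, e₁, e₂⟩ := key y
  rw [hy] at e₁ e₂
  have hu : h₁ ainv ≠ 0 := fun hz => by
    have := congrArg h₁ hainv
    rw [map_mul, hz, mul_zero, map_one] at this
    exact zero_ne_one this
  have hone : (t₁ : F) = 1 := by
    have hidem : IsIdempotentElem (t₁ : F) := by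
      show (t₁ : F) * t₁ = t₁
      rw [e₁, ← map_mul, he]
    refine (IsIdempotentElem.iff_eq_zero_or_one.mp hidem).resolve_left fun h0 => ?_
    rw [e₁, hΘ₁] at h0
    exact mul_ne_zero hx₁ hu h0
  have hzero : (t₂ : F) = 0 := by rw [e₂, hΘ₂, hx₂, zero_mul]
  rw [show t₁ = 1 from Subtype.ext hone, show t₂ = 0 from Subtype.ext hzero, map_one, map_zero] at ht
  exact one_ne_zero ht

/-- Two points of a normalization with the same residues agree modulo a maximal ideal. -/
theorem exists_agree {A A₁ D₁ B L R F : Type u} [CommRing A] [CommRing A₁] [CommRing D₁]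
    [IsLocalRing D₁] [CommRing B] [CommRing L] [CommRing R] [IsLocalRing R] [Field F]
    [Algebra A A₁] [Algebra A D₁] [Algebra A B] [Algebra D₁ L] (μA : A₁ →ₐ[A] B)
    (μD : D₁ →ₐ[A] B)
    (hsurj : ∀ x : B, ∃ z, x - Algebra.TensorProduct.productMap μA μD z ∈
      Ideal.jacobson (⊥ : Ideal B))
    (iB : B →+* L) (hιL : ∀ d, iB (μD d) = algebraMap D₁ L d) (hBint : μD.toRingHom.IsIntegral)
    (fR : D₁ →+* R) [IsLocalHom fR] (ρ : R →+* R) (hres : ∀ z, z - ρ z ∈ maximalIdeal R)
    (γ : R →+* F) (h₁ h₂ : L →+* F) (hh₁ : ∀ d, h₁ (algebraMap D₁ L d) = γ (fR d))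
    (hh₂ : ∀ d, h₂ (algebraMap D₁ L d) = γ (ρ (fR d)))
    (hA : ∀ a, h₁ (iB (μA a)) = h₂ (iB (μA a))) :
    ∃ (T : Subring F) (Mt : Ideal T), Mt.IsMaximal ∧
      (∀ z : R, ∃ t₁ t₂ : T, Ideal.Quotient.mk Mt t₁ = Ideal.Quotient.mk Mt t₂ ∧
        (t₁ : F) = γ z ∧ (t₂ : F) = γ (ρ z)) ∧
      ∀ b : B, ∃ t₁ t₂ : T, Ideal.Quotient.mk Mt t₁ = Ideal.Quotient.mk Mt t₂ ∧
        (t₁ : F) = h₁ (iB b) ∧ (t₂ : F) = h₂ (iB b) := by
  letI : Algebra R F := γ.toAlgebra
  let T := integralClosure R F
  have hT : ∀ (h : L →+* F) (f : D₁ →+* R), (∀ d, h (algebraMap D₁ L d) = γ (f d)) →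
      ∀ b : B, IsIntegral R (h (iB b)) := fun h f hh b => by
    obtain ⟨p, hp, hpb⟩ := hBint b
    refine ⟨p.map f, hp.map _, ?_⟩
    rw [Polynomial.eval₂_map, show (algebraMap R F).comp f = (h.comp iB).comp μD.toRingHom from
      RingHom.ext fun d => by
        show γ (f d) = h (iB (μD d))
        rw [hιL, hh], show h (iB b) = (h.comp iB) b from rfl, ← Polynomial.hom_eval₂, hpb, map_zero]
  obtain ⟨Mt, hMt⟩ := Ideal.exists_maximal T
  haveI := hMt
  haveI : Algebra.IsIntegral R T := integralClosure.AlgebraIsIntegral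
  have hMR : ∀ z ∈ maximalIdeal R, algebraMap R T z ∈ Mt := fun z hz => by
    rw [← eq_maximalIdeal (Ideal.isMaximal_comap_of_isIntegral_of_isMaximal (R := R) Mt)] at hz
    exact hz
  let q : T →+* T ⧸ Mt := Ideal.Quotient.mk Mt
  have hqe : ∀ z, q (algebraMap R T z) = q (algebraMap R T (ρ z)) := fun z =>
    Ideal.Quotient.eq.mpr (by rw [← map_sub]; exact hMR _ (hres z))
  let mkφ : ∀ (h : L →+* F) (f : D₁ →+* R), (∀ d, h (algebraMap D₁ L d) = γ (f d)) →
      B →+* T ⧸ Mt := fun h f hh => q.comp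
    { toFun := fun b => ⟨h (iB b), hT h f hh b⟩
      map_one' := Subtype.ext ((congrArg h (map_one iB)).trans (map_one h))
      map_mul' := fun u w => Subtype.ext ((congrArg h (map_mul iB u w)).trans (map_mul h _ _))
      map_zero' := Subtype.ext ((congrArg h (map_zero iB)).trans (map_zero h))
      map_add' := fun u w => Subtype.ext ((congrArg h (map_add iB u w)).trans (map_add h _ _)) }
  let φ₁ := mkφ h₁ fR hh₁
  let φ₂ := mkφ h₂ (ρ.comp fR) hh₂
  have hD₁ : ∀ d, φ₁ (μD d) = q (algebraMap R T (fR d)) := fun d =>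
    congrArg q (Subtype.ext (by show h₁ (iB (μD d)) = _; rw [hιL, hh₁]; rfl))
  have hD₂ : ∀ d, φ₂ (μD d) = q (algebraMap R T (ρ (fR d))) := fun d =>
    congrArg q (Subtype.ext (by show h₂ (iB (μD d)) = _; rw [hιL, hh₂]; rfl))
  have hker : ∀ φ : B →+* T ⧸ Mt, (∀ d, φ (μD d) = q (algebraMap R T (fR d))) →
      Ideal.jacobson (⊥ : Ideal B) ≤ RingHom.ker φ := by
    intro φ hφ
    letI : Algebra D₁ B := μD.toRingHom.toAlgebra
    haveI : Algebra.IsIntegral D₁ B := ⟨hBint⟩
    haveI : (RingHom.ker φ).IsPrime := RingHom.ker_isPrime φ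
    refine sInf_le ⟨bot_le, Ideal.isMaximal_of_isIntegral_of_isMaximal_comap (R := D₁) _ ?_⟩
    rw [show (RingHom.ker φ).comap (algebraMap D₁ B) = maximalIdeal D₁ from
      le_antisymm (le_maximalIdeal (Ideal.IsPrime.ne_top inferInstance)) fun d hd => by
        show φ (μD d) = 0
        rw [hφ]
        exact Ideal.Quotient.eq_zero_iff_mem.mpr (hMR _ (map_nonunit fR d hd))]
    infer_instance
  have hφ : φ₁ = φ₂ := ringHom_eq_of_surjective μA μD hsurj φ₁ φ₂ (hker _ hD₁)
    (hker _ fun d => (hD₂ d).trans (hqe _).symm) (fun a => congrArg q (Subtype.ext (hA a)))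
    (fun d => by rw [hD₁, hD₂]; exact hqe _)
  exact ⟨T.toSubring, Mt, hMt,
    fun z => ⟨algebraMap R T z, algebraMap R T (ρ z), hqe z, rfl, rfl⟩,
    fun b => ⟨_, _, RingHom.congr_fun hφ b, rfl, rfl⟩⟩

variable {A S : Type u} [CommRing A] [IsLocalRing A] [CommRing S] [IsLocalRing S] [Algebra A S]
  [IsLocalHom (algebraMap A S)] [Hensel.IsStrictHenselization A S]
  {D : Subalgebra A S} [IsLocalRing D] [IsLocalHom (algebraMap D S)]

omit [IsLocalRing D] [IsLocalHom (algebraMap D S)] in
theorem algebraMap_mem_nonZeroDivisors' {a : A} (ha : a ∈ A⁰) : algebraMap A D a ∈ D⁰ := by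
  haveI := Lib.Henselian.StrictHenselization.flat A S
  refine mem_nonZeroDivisors_iff_right.mpr fun y hy => Subtype.ext ?_
  have h : (y : S) * algebraMap A S a = 0 := congrArg Subtype.val hy
  exact (mul_right_mem_nonZeroDivisors_eq_zero_iff
    (Fractions.algebraMap_mem_nonZeroDivisors A S ha)).mp h

omit [IsLocalRing D] [IsLocalHom (algebraMap D S)] in
/-- Every element of `D` becomes integral over `A` after multiplication by an element of `A⁰`. -/
theorem exists_isIntegral_smul [IsArtinianRing (FractionRing A)] (x : D) :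
    ∃ a ∈ A⁰, IsIntegral A (algebraMap A D a * x) := by
  classical
  obtain ⟨E, _, hxE, -, hE, -⟩ := exists_stage (A := A) ({(x : S)} : Finset S)
  letI := Normalization.algebraFrac hE
  haveI := Normalization.isScalarTower hE
  haveI := Normalization.finite_fractionRing hE
  haveI := flat hE
  let xE : E := ⟨x, hxE (by simp)⟩
  obtain ⟨⟨a, ha⟩, hax⟩ := IsIntegral.exists_multiple_integral_of_isLocalization A⁰
    (algebraMap E (FractionRing E) xE) (IsIntegral.of_finite (FractionRing A) _)
  refine ⟨a, ha, ?_⟩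
  have h1 : IsIntegral A (algebraMap A E a * xE) := by
    refine (isIntegral_algHom_iff (IsScalarTower.toAlgHom A E (FractionRing E))
      (IsFractionRing.injective E (FractionRing E))).mp ?_
    show IsIntegral A (algebraMap E (FractionRing E) (algebraMap A E a * xE))
    rw [map_mul, ← IsScalarTower.algebraMap_apply, ← Algebra.smul_def]
    exact hax
  exact (isIntegral_algHom_iff D.val Subtype.val_injective).mp (h1.map E.val)

variable [IsArtinianRing (FractionRing A)]

omit [IsLocalHom (algebraMap D S)] in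
/-- Comparable primes of a strict henselization of `D` avoiding `A⁰` are equal. -/
theorem eq_of_le_of_disjoint {R : Type u} [CommRing R] [IsLocalRing R] [Algebra D R]
    [IsLocalHom (algebraMap D R)] [Hensel.IsStrictHenselization D R] {P Q : Ideal R} [P.IsPrime]
    [Q.IsPrime] (hle : P ≤ Q) (hQ : ∀ a ∈ A⁰, algebraMap D R (algebraMap A D a) ∉ Q) : P = Q := by
  refine Lib.Henselian.Permanence.strict_eq_of_le_of_comap_eq D R hle ?_
  let q := Q.comap (algebraMap D R)
  let p := P.comap (algebraMap D R)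
  refine le_antisymm (Ideal.comap_mono hle) fun x hx => ?_
  obtain ⟨a, ha, hax⟩ := exists_isIntegral_smul x
  let C := integralClosure A D
  have hcomap : ∀ I : Ideal D, I.IsPrime → (∀ a ∈ A⁰, algebraMap A D a ∉ I) →
      (I.comap (algebraMap A D)) ∈ minimalPrimes A := by
    intro I hI hdisj
    refine ⟨⟨inferInstance, bot_le⟩, fun J hJ hJI => ?_⟩
    haveI := hJ.1
    have hd : ∀ {K : Ideal A}, K ≤ I.comap (algebraMap A D) → Disjoint (A⁰ : Set A) K :=
      fun hK => Set.disjoint_left.mpr fun a ha haK => hdisj a ha (hK haK)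
    haveI := IsLocalization.isPrime_of_isPrime_disjoint A⁰ (FractionRing A) J inferInstance (hd hJI)
    haveI := IsLocalization.isPrime_of_isPrime_disjoint A⁰ (FractionRing A) (I.comap (algebraMap A D))
      inferInstance (hd le_rfl)
    have heq : J.map (algebraMap A (FractionRing A)) =
        (I.comap (algebraMap A D)).map (algebraMap A (FractionRing A)) :=
      (IsArtinianRing.isMaximal_of_isPrime _).eq_of_le (Ideal.IsPrime.ne_top inferInstance)
        (Ideal.map_mono hJI)
    have := congrArg (Ideal.comap (algebraMap A (FractionRing A))) heq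
    exact ((IsLocalization.comap_map_of_isPrime_disjoint A⁰ (FractionRing A) inferInstance
      (hd hJI)).symm.trans (this.trans (IsLocalization.comap_map_of_isPrime_disjoint A⁰
        (FractionRing A) inferInstance (hd le_rfl)))).ge
  have hq : ∀ a ∈ A⁰, algebraMap A D a ∉ q := fun a ha h => hQ a ha h
  have hp : ∀ a ∈ A⁰, algebraMap A D a ∉ p := fun a ha h => hQ a ha (hle h)
  have hpq : (p.comap C.val).comap (algebraMap A C) = (q.comap C.val).comap (algebraMap A C) := by
    have h1 : p.comap (algebraMap A D) ≤ q.comap (algebraMap A D) :=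
      Ideal.comap_mono (Ideal.comap_mono hle)
    exact le_antisymm h1 ((hcomap q inferInstance hq).2 (hcomap p inferInstance hp).1 h1)
  haveI : Algebra.IsIntegral A C := integralClosure.AlgebraIsIntegral
  have hCeq : p.comap C.val = q.comap C.val := by
    rcases eq_or_lt_of_le (Ideal.comap_mono (f := C.val) (Ideal.comap_mono hle) :
      p.comap C.val ≤ q.comap C.val) with h | h
    · exact h
    · exact absurd hpq (Ideal.comap_lt_comap_of_integral_mem_sdiff h.le
        (Classical.choose_spec (SetLike.exists_of_lt h)) (Algebra.IsIntegral.isIntegral _)).ne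
  have hy : (⟨algebraMap A D a * x, hax⟩ : C) ∈ q.comap C.val := Ideal.mul_mem_left _ _ hx
  rw [← hCeq] at hy
  exact (Ideal.IsPrime.mem_or_mem inferInstance (show algebraMap A D a * x ∈ p from hy)).resolve_left
    (hp a ha)

set_option synthInstance.maxHeartbeats 200000 in
set_option maxHeartbeats 1600000 in
/-- The key: if `A' ⊗ D → D'/Rad D'` is surjective, then `S` is flat over `D`. -/
theorem flat_of_residual_surjective [IsReduced A] (A' D' : Subalgebra A (FractionRing S))
    (hA' : ∀ x : FractionRing S, x ∈ A' → ∃ a ∈ A⁰, ∃ b : A,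
      algebraMap A (FractionRing S) a * x = algebraMap A (FractionRing S) b)
    (hD' : ∀ x : (FractionRing S), x ∈ D' ↔ (IsIntegral D x ∧
      ∃ a ∈ A⁰, ∃ d ∈ D, algebraMap A (FractionRing S) a * x = algebraMap S (FractionRing S) d))
    (hle : A' ≤ D') (ι : D →ₐ[A] D')
    (hι : ∀ d : D, (ι d : (FractionRing S)) = algebraMap S (FractionRing S) d)
    (hsurj : ∀ x : D', ∃ z, x - Algebra.TensorProduct.productMap (Subalgebra.inclusion hle) ι z ∈
      Ideal.jacobson (⊥ : Ideal D')) :
    Module.Flat D S := by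
  classical
  haveI := Lib.Henselian.StrictHenselization.flat A S
  haveI : IsReduced S := (Lib.Henselian.Permanence.strict_isReduced_iff A S).mp inferInstance
  haveI : IsReduced D := isReduced_of_injective D.val Subtype.val_injective
  haveI : IsLocalHom (algebraMap A D) := ⟨fun a ha =>
    IsLocalHom.map_nonunit (f := algebraMap A S) a (ha.map (algebraMap D S))⟩
  haveI : HenselianLocalRing S := Hensel.IsStrictHenselization.henselian (R := A)
  -- the strict henselization of `D`
  let R := Lib.Henselian.StrictHenselization.StrictHenselization D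
  haveI : IsReduced R := (Lib.Henselian.Permanence.strict_isReduced_iff D R).mp inferInstance
  haveI : Module.Flat D R := Lib.Henselian.StrictHenselization.flat D R
  haveI : IsScalarTower (ResidueField A) (ResidueField D) (ResidueField S) :=
    IsScalarTower.of_algebraMap_eq fun z => by
      obtain ⟨z, rfl⟩ := residue_surjective z
      rfl
  haveI : IsSepClosure (ResidueField D) (ResidueField S) :=
    { sep_closed := (Hensel.IsStrictHenselization.isSepClosure (R := A) (S := S)).sep_closed
      separable :=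
        haveI := (Hensel.IsStrictHenselization.isSepClosure (R := A) (S := S)).separable
        Algebra.isSeparable_tower_top_of_isSeparable (ResidueField A) (ResidueField D)
          (ResidueField S) }
  haveI := Hensel.IsStrictHenselization.isSepClosure (R := D) (S := R)
  let τ : ResidueField R ≃ₐ[ResidueField D] ResidueField S :=
    IsSepClosure.equiv (ResidueField D) _ _
  obtain ⟨π, ⟨hπ, hπres⟩, -⟩ := Hensel.IsStrictHenselization.universal (R := D) (S := R) S
    (algebraMap D S) τ.toRingEquiv.toRingHom (RingHom.ext fun z => τ.commutes z)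
  let fA : A →+* R := (algebraMap D R).comp (algebraMap A D)
  haveI : IsLocalHom fA := RingHom.isLocalHom_comp _ _
  obtain ⟨σ, ⟨hσ, hσres⟩, -⟩ := Hensel.IsStrictHenselization.universal (R := A) (S := S) R fA
    τ.symm.toRingEquiv.toRingHom (RingHom.ext fun z => by
      obtain ⟨a, rfl⟩ := residue_surjective z
      exact τ.symm.commutes (residue D (algebraMap A D a)))
  have hπσ : π.comp σ = RingHom.id S := by
    refine Lib.Henselian.StrictHenselization.comp_eq_id A _ ?_ fun s => ?_
    · rw [RingHom.comp_assoc, hσ]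
      show (π.comp (algebraMap D R)).comp (algebraMap A D) = _
      rw [hπ]
      rfl
    · rw [RingHom.comp_apply, hπres, hσres]
      exact τ.apply_symm_apply _
  suffices hinj : Function.Injective π by
    have hbij : Function.Bijective π := ⟨hinj, fun s => ⟨σ s, RingHom.congr_fun hπσ s⟩⟩
    exact Module.Flat.of_linearEquiv (AlgEquiv.ofBijective
      ({ π with commutes' := fun d => RingHom.congr_fun hπ d } : R →ₐ[D] S) hbij).symm.toLinearEquiv
  refine (injective_iff_map_eq_zero π).mpr fun x₀ hx₀ => ?_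
  by_contra hx0
  -- invert `A⁰`
  let W : Submonoid R := Submonoid.map fA (A⁰)
  obtain ⟨w, hw, r', P, hP, hdP, hxx, hxP⟩ := exists_prime_separating W (by
      rintro _ ⟨a, ha, rfl⟩
      exact Fractions.algebraMap_mem_nonZeroDivisors D R (algebraMap_mem_nonZeroDivisors' ha))
    (fun P Q hP hQ hle hd => eq_of_le_of_disjoint (D := D) hle fun a ha hmem =>
      Set.disjoint_left.mp hd ⟨a, ha, rfl⟩ hmem) hx0
  obtain ⟨a, ha, rfl⟩ := hw
  haveI := hP
  let x := r' * x₀
  let F := FractionRing (R ⧸ P)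
  let γ : R →+* F := (algebraMap (R ⧸ P) F).comp (Ideal.Quotient.mk P)
  have hγ0 : ∀ z, γ z = 0 → z ∈ P := fun z hz => Ideal.Quotient.eq_zero_iff_mem.mp
    (IsFractionRing.injective (R ⧸ P) F (hz.trans (map_zero _).symm))
  have hγa : ∀ b ∈ A⁰, γ (fA b) ≠ 0 := fun b hb h =>
    Set.disjoint_left.mp hdP ⟨b, hb, rfl⟩ (hγ0 _ h)
  have hfix : ∀ b : A, σ (π (fA b)) = fA b := fun b => by
    show σ (π (algebraMap D R (algebraMap A D b))) = _
    rw [show π (algebraMap D R (algebraMap A D b)) = algebraMap A S b from RingHom.congr_fun hπ _]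
    exact RingHom.congr_fun hσ b
  let γ₂ : R →+* F := γ.comp (σ.comp π)
  -- the stage containing `x`
  obtain ⟨C, _, hxC, -, hC, hCff⟩ := exists_stage (A := D) ({x} : Finset R)
  let xC : C := ⟨x, hxC (by simp)⟩
  -- the fractions of `D`
  let M := FractionRing S
  let L : Subalgebra D M :=
    { carrier := {m | ∃ b ∈ A⁰, ∃ d ∈ D, algebraMap A M b * m = algebraMap S M d}
      mul_mem' := by
        rintro u v ⟨b, hb, d, hd, h⟩ ⟨b', hb', d', hd', h'⟩
        refine ⟨b * b', mul_mem hb hb', d * d', mul_mem hd hd', ?_⟩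
        rw [map_mul, map_mul, ← h, ← h']; ring
      add_mem' := by
        rintro u v ⟨b, hb, d, hd, h⟩ ⟨b', hb', d', hd', h'⟩
        refine ⟨b * b', mul_mem hb hb', algebraMap A S b' * d + algebraMap A S b * d',
          add_mem (mul_mem (D.algebraMap_mem b') hd) (mul_mem (D.algebraMap_mem b) hd'), ?_⟩
        rw [map_mul, map_add, map_mul, map_mul, ← h, ← h', ← IsScalarTower.algebraMap_apply,
          ← IsScalarTower.algebraMap_apply]
        ring
      algebraMap_mem' := fun d => ⟨1, one_mem _, d, d.2, by rw [map_one, one_mul]; rfl⟩ }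
  let WD : Submonoid D := Submonoid.map (algebraMap A D) A⁰
  have hDM : ∀ d : D, algebraMap D M d = algebraMap S M (d : S) := fun d => rfl
  have hAM : ∀ b : A, algebraMap D M (algebraMap A D b) = algebraMap A M b := fun b =>
    (IsScalarTower.algebraMap_apply A S M b).symm
  haveI : IsLocalization WD L := by
    refine ⟨?_, ?_, ?_⟩
    · rintro ⟨_, b, hb, rfl⟩
      obtain ⟨v, hv⟩ := (isUnit_algebraMap_frac (S := S) hb).exists_right_inv
      refine isUnit_iff_exists_inv.mpr ⟨⟨v, b, hb, 1, one_mem _, ?_⟩, Subtype.ext ?_⟩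
      · rw [map_one]; exact hv
      · show algebraMap D M (algebraMap A D b) * v = 1
        rw [hAM]; exact hv
    · rintro ⟨m, b, hb, d, hd, h⟩
      refine ⟨⟨⟨d, hd⟩, ⟨_, b, hb, rfl⟩⟩, Subtype.ext ?_⟩
      show m * algebraMap D M (algebraMap A D b) = algebraMap S M d
      rw [hAM, mul_comm]; exact h
    · intro d₁ d₂ h
      refine ⟨1, ?_⟩
      rw [Submonoid.coe_one, one_mul, one_mul]
      exact Subtype.ext (IsFractionRing.injective S M (congrArg Subtype.val h))
  -- the idempotent comes from the integral closure of `D` in `L`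
  obtain ⟨v, hv⟩ := (isUnit_algebraMap_frac (S := S) ha).exists_right_inv
  let ainv : L := ⟨v, a, ha, 1, one_mem _, by rw [map_one]; exact hv⟩
  have hainv : algebraMap D L (algebraMap A D a) * ainv = 1 := Subtype.ext (by
    show algebraMap D M (algebraMap A D a) * v = 1
    rw [hAM]; exact hv)
  -- the two points
  have hunit₁ : ∀ w : WD, IsUnit ((γ.comp (algebraMap D R)) (w : D)) := by
    rintro ⟨_, b, hb, rfl⟩; exact isUnit_iff_ne_zero.mpr (hγa b hb)
  have hunit₂ : ∀ w : WD, IsUnit ((γ₂.comp (algebraMap D R)) (w : D)) := by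
    rintro ⟨_, b, hb, rfl⟩
    refine isUnit_iff_ne_zero.mpr ?_
    show γ (σ (π (fA b))) ≠ 0
    rw [hfix]; exact hγa b hb
  let h₁ : L →+* F := IsLocalization.lift hunit₁
  let h₂ : L →+* F := IsLocalization.lift hunit₂
  have hh₁ : ∀ d, h₁ (algebraMap D L d) = γ (algebraMap D R d) := fun d =>
    IsLocalization.lift_eq hunit₁ d
  have hh₂ : ∀ d, h₂ (algebraMap D L d) = γ₂ (algebraMap D R d) := fun d =>
    IsLocalization.lift_eq hunit₂ d
  -- `D'` maps to `L`
  let iD' : D' →+* L :=
    { toFun := fun z => ⟨z, ((hD' _).mp z.2).2⟩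
      map_one' := rfl
      map_mul' := fun _ _ => rfl
      map_zero' := rfl
      map_add' := fun _ _ => rfl }
  have hint : ι.toRingHom.IsIntegral := fun z => by
    letI : Algebra D D' := ι.toRingHom.toAlgebra
    haveI : IsScalarTower D D' M := IsScalarTower.of_algebraMap_eq fun d => by
      show algebraMap S M (d : S) = (ι d : M)
      rw [hι]
    exact (isIntegral_algHom_iff (IsScalarTower.toAlgHom D D' M) Subtype.val_injective).mp
      ((hD' _).mp z.2).1
  have hres : ∀ z : R, z - (σ.comp π) z ∈ maximalIdeal R := fun z => by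
    show z - σ (π z) ∈ maximalIdeal R
    rw [← residue_eq_zero_iff, map_sub, hσres, hπres, sub_eq_zero]
    exact (τ.symm_apply_apply _).symm
  have hagree : ∀ z : A', h₁ (iD' (Subalgebra.inclusion hle z)) =
      h₂ (iD' (Subalgebra.inclusion hle z)) := fun z => by
    obtain ⟨b, hb, c, hc⟩ := hA' z z.2
    have hmul : iD' (Subalgebra.inclusion hle z) * algebraMap D L (algebraMap A D b) =
        algebraMap D L (algebraMap A D c) := Subtype.ext (by
      show (z : M) * algebraMap D M (algebraMap A D b) = algebraMap D M (algebraMap A D c)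
      rw [hAM, hAM, mul_comm]; exact hc)
    have e1 := congrArg h₁ hmul
    have e2 := congrArg h₂ hmul
    rw [map_mul, hh₁, hh₁] at e1
    rw [map_mul, hh₂, hh₂] at e2
    apply mul_right_cancel₀ (hγa b hb)
    refine e1.trans (Eq.symm ?_)
    rw [show γ (fA b) = γ₂ (algebraMap D R (algebraMap A D b)) from congrArg γ (hfix b).symm, e2]
    exact congrArg γ (hfix c)
  obtain ⟨T, Mt, hMt, hTR, hTB⟩ := exists_agree (Subalgebra.inclusion hle) ι hsurj iD'
    (fun d => Subtype.ext (hι d)) hint (algebraMap D R) (σ.comp π) hres γ h₁ h₂ hh₁ hh₂ hagree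
  haveI := hMt
  refine not_separated hC T (Ideal.Quotient.mk Mt) (γ.comp C.val.toRingHom)
    (γ₂.comp C.val.toRingHom) h₁ h₂ (fun d => (hh₁ d).symm)
    (fun d => (hh₂ d).symm) (fun c => hTR (c : R)) (fun l hl => ?_) (a := algebraMap A D a) hainv
    (x := xC) (Subtype.ext hxx) (fun h0 => hxP (hγ0 x h0)) ?_
  · exact hTB ⟨(l : M), (hD' _).mpr ⟨hl.map L.val, l.2⟩⟩
  · show γ (σ (π (r' * x₀))) = 0
    rw [map_mul π, hx₀, mul_zero, map_zero, map_zero]

end Groth.Agent.H24.EssEtale.Residual
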