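import Groth.Agent.S2474
import Mathlib.RingTheory.Artinian.Module
import Mathlib.RingTheory.SimpleModule.Basic

/-!
# Semilocality of integral closures in reduced Artinian algebras (Mori–Nagata)
-/

universe u

open IsLocalRing
open scoped nonZeroDivisors

namespace Groth.Agent.H24.EssEtale.SemilocalClosure

theorem finite_maximal_integralClosure {A L : Type u} [CommRing A] [IsLocalRing A]
    [IsNoetherianRing A] [CommRing L] [IsReduced L] [IsArtinianRing L] [Algebra A L]
    [Algebra (FractionRing A) L] [IsScalarTower A (FractionRing A) L]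
    [Module.Finite (FractionRing A) L] :
    {N : Ideal (integralClosure A L) | N.IsMaximal}.Finite := by
  classical
  haveI := Fintype.ofFinite (MaximalSpectrum L)
  haveI := IsArtinianRing.isSemisimpleRing_of_isReduced L
  let K := FractionRing A
  let C := integralClosure A L
  choose e he hker using fun m : MaximalSpectrum L =>
    IsSemisimpleRing.ideal_eq_span_idempotent m.asIdeal
  have hemem : ∀ m, IsIntegral A (e m) := fun m =>
    ⟨Polynomial.X ^ 2 - Polynomial.X, (Polynomial.monic_X_pow 2).sub_of_left
      (Polynomial.degree_X_le.trans_lt (by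
        rw [Polynomial.degree_X_pow]; decide)),
      by simp [sq, (he m).eq]⟩
  let eC : MaximalSpectrum L → C := fun m => ⟨e m, hemem m⟩
  -- the projections
  let π : ∀ m : MaximalSpectrum L, C →+* integralClosure A (L ⧸ m.asIdeal) := fun m =>
    { toFun := fun x => ⟨Ideal.Quotient.mk m.asIdeal x.1, x.2.map (Ideal.Quotient.mkₐ A m.asIdeal)⟩
      map_one' := rfl
      map_mul' := fun _ _ => rfl
      map_zero' := rfl
      map_add' := fun _ _ => rfl }
  have hπ : ∀ m, Function.Surjective (π m) := fun m z => by
    obtain ⟨l, hl⟩ := Ideal.Quotient.mk_surjective (z : L ⧸ m.asIdeal)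
    obtain ⟨p, hp, hpz⟩ := z.2
    have h0 : Ideal.Quotient.mk m.asIdeal (Polynomial.eval₂ (algebraMap A L) l p) = 0 := by
      rw [Polynomial.hom_eval₂, hl]
      exact hpz
    rw [Ideal.Quotient.eq_zero_iff_mem, hker m, Ideal.mem_span_singleton'] at h0
    obtain ⟨w, hw⟩ := h0
    refine ⟨⟨l * (1 - e m), ?_⟩, Subtype.ext ?_⟩
    · refine ⟨Polynomial.X * p, Polynomial.monic_X.mul hp, ?_⟩
      rw [Polynomial.eval₂_mul, Polynomial.eval₂_X]
      have hk : ∀ q : Polynomial A, (1 - e m) * Polynomial.eval₂ (algebraMap A L) (l * (1 - e m)) q =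
          (1 - e m) * Polynomial.eval₂ (algebraMap A L) l q := by
        intro q
        induction q using Polynomial.induction_on' with
        | add q r hq hr => simp [mul_add, hq, hr]
        | monomial k c =>
          rw [Polynomial.eval₂_monomial, Polynomial.eval₂_monomial, mul_pow]
          rcases Nat.eq_zero_or_pos k with rfl | hk
          · simp
          · rw [(he m).one_sub.pow_eq hk.ne']
            linear_combination (algebraMap A L c * l ^ k) * (he m).one_sub.eq
      rw [mul_assoc, hk, ← hw]
      linear_combination (-(l * w)) * (he m).eq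
    · show Ideal.Quotient.mk m.asIdeal (l * (1 - e m)) = _
      rw [map_mul, map_sub, map_one, Ideal.Quotient.eq_zero_iff_mem.mpr
        (show e m ∈ m.asIdeal by rw [hker m]; exact Ideal.mem_span_singleton_self _), sub_zero, mul_one, hl]
  have hfin : ∀ m : MaximalSpectrum L,
      {N : Ideal (integralClosure A (L ⧸ m.asIdeal)) | N.IsMaximal}.Finite := by
    intro m
    letI : Field (L ⧸ m.asIdeal) := Ideal.Quotient.field _
    let p := RingHom.ker (algebraMap A (L ⧸ m.asIdeal))
    haveI : p.IsPrime := RingHom.ker_isPrime _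
    haveI : Nontrivial (A ⧸ p) := Ideal.Quotient.nontrivial_iff.mpr (Ideal.IsPrime.ne_top inferInstance)
    haveI : IsLocalRing (A ⧸ p) := IsLocalRing.of_surjective' _ Ideal.Quotient.mk_surjective
    letI : Algebra (A ⧸ p) (L ⧸ m.asIdeal) :=
      (Ideal.Quotient.lift p (algebraMap A (L ⧸ m.asIdeal)) fun _ h => h).toAlgebra
    haveI : IsScalarTower A (A ⧸ p) (L ⧸ m.asIdeal) := IsScalarTower.of_algebraMap_eq fun _ => rfl
    haveI : FaithfulSMul (A ⧸ p) (L ⧸ m.asIdeal) := (faithfulSMul_iff_algebraMap_injective _ _).mpr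
      (RingHom.lift_injective_of_ker_le_ideal _ _ le_rfl)
    letI := FractionRing.liftAlgebra (A ⧸ p) (L ⧸ m.asIdeal)
    haveI : FiniteDimensional (FractionRing (A ⧸ p)) (L ⧸ m.asIdeal) := by
      obtain ⟨t, ht⟩ := (Module.Finite.of_surjective (M := L)
        ((Ideal.Quotient.mkₐ K m.asIdeal).toLinearMap) Ideal.Quotient.mk_surjective :
          Module.Finite K (L ⧸ m.asIdeal)).fg_top
      refine ⟨⟨t, eq_top_iff.mpr fun z _ => ?_⟩⟩
      have hz : z ∈ Submodule.span K (t : Set (L ⧸ m.asIdeal)) := ht ▸ Submodule.mem_top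
      induction hz using Submodule.span_induction with
      | mem w hw => exact Submodule.subset_span hw
      | zero => exact zero_mem _
      | add u v _ _ hu hv => exact add_mem (hu trivial) (hv trivial)
      | smul c u _ hu =>
        obtain ⟨a, s, rfl⟩ := IsLocalization.exists_mk'_eq A⁰ c
        have hc : algebraMap K (L ⧸ m.asIdeal) (IsLocalization.mk' K a s) =
            algebraMap (FractionRing (A ⧸ p)) (L ⧸ m.asIdeal)
              (algebraMap (A ⧸ p) _ (Ideal.Quotient.mk p a) /
                algebraMap (A ⧸ p) _ (Ideal.Quotient.mk p s)) := by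
          have hs : IsUnit (algebraMap A (L ⧸ m.asIdeal) s) := by
            rw [IsScalarTower.algebraMap_apply A K (L ⧸ m.asIdeal)]
            exact (IsLocalization.map_units K s).map _
          rw [map_div₀, ← IsScalarTower.algebraMap_apply, ← IsScalarTower.algebraMap_apply,
            eq_div_iff (by exact hs.ne_zero)]
          show _ * algebraMap A (L ⧸ m.asIdeal) s = algebraMap A (L ⧸ m.asIdeal) a
          rw [IsScalarTower.algebraMap_apply A K (L ⧸ m.asIdeal) s, ← map_mul, IsLocalization.mk'_spec,
            ← IsScalarTower.algebraMap_apply]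
        rw [Algebra.smul_def, hc, ← Algebra.smul_def]
        exact Submodule.smul_mem _ _ (hu trivial)
    have h := (S2474.result (A := A ⧸ p) (K' := L ⧸ m.asIdeal)).1
    let e' : integralClosure A (L ⧸ m.asIdeal) ≃+* integralClosure (A ⧸ p) (L ⧸ m.asIdeal) :=
      { toFun := fun x => ⟨x.1, IsIntegral.tower_top x.2⟩
        invFun := fun x => ⟨x.1, isIntegral_trans (A := A ⧸ p) x.1 x.2⟩
        left_inv := fun _ => rfl
        right_inv := fun _ => rfl
        map_mul' := fun _ _ => rfl
        map_add' := fun _ _ => rfl }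
    refine (h.image (Ideal.comap e')).subset fun N hN => ⟨N.comap e'.symm, ?_, ?_⟩
    · haveI : N.IsMaximal := hN
      exact Ideal.comap_isMaximal_of_surjective _ e'.symm.surjective
    · ext x; simp
  refine (Set.finite_iUnion fun m => (hfin m).image (Ideal.comap (π m))).subset fun N hN => ?_
  haveI : N.IsMaximal := hN
  obtain ⟨m, hm⟩ : ∃ m, eC m ∈ N := by
    by_contra hc
    push Not at hc
    have hall : ∀ m, 1 - eC m ∈ N := fun m => by
      refine ((Ideal.IsPrime.mem_or_mem inferInstance (x := eC m) (y := 1 - eC m) ?_).resolve_left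
        (hc m))
      rw [show eC m * (1 - eC m) = 0 from Subtype.ext (by
        show e m * (1 - e m) = 0
        rw [mul_sub, mul_one, (he m).eq, sub_self])]
      exact zero_mem _
    have hprod : ∏ m, eC m = 0 := by
      refine Subtype.ext ?_
      have h : ((∏ m, eC m : C) : L) ∈ nilradical L := by
        rw [nilradical_eq_sInf, Ideal.mem_sInf]
        intro q hq
        haveI := hq.out
        haveI : q.IsMaximal := IsArtinianRing.isMaximal_of_isPrime q
        show (integralClosure A L).val (∏ m, eC m) ∈ q
        rw [map_prod]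
        refine Ideal.mem_of_dvd _ (Finset.dvd_prod_of_mem _ (Finset.mem_univ
          (⟨q, inferInstance⟩ : MaximalSpectrum L))) ?_
        show e ⟨q, inferInstance⟩ ∈ (⟨q, inferInstance⟩ : MaximalSpectrum L).asIdeal
        rw [hker ⟨q, inferInstance⟩]
        exact Ideal.mem_span_singleton_self _
      rwa [nilradical_eq_zero, Ideal.zero_eq_bot, Ideal.mem_bot] at h
    obtain ⟨m, -, hm⟩ := (Ideal.IsPrime.prod_mem_iff (p := N)).mp (hprod ▸ zero_mem _ :
      ∏ m, eC m ∈ N)
    exact hc m hm
  refine Set.mem_iUnion.mpr ⟨m, N.map (π m), ?_, ?_⟩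
  all_goals
    have hle : RingHom.ker (π m) ≤ N := fun x hx => by
      have h1 : (x : L) ∈ m.asIdeal :=
        Ideal.Quotient.eq_zero_iff_mem.mp (congrArg Subtype.val (RingHom.mem_ker.mp hx))
      rw [hker m, Ideal.mem_span_singleton'] at h1
      obtain ⟨w, hw⟩ := h1
      rw [show x = x * eC m from Subtype.ext (by
        show (x : L) = x * e m
        rw [← hw, mul_assoc, (he m).eq])]
      exact Ideal.mul_mem_left _ _ hm
  · exact Ideal.IsMaximal.map_of_surjective_of_ker_le (hπ m) hle
  · rw [Ideal.comap_map_of_surjective _ (hπ m), ← RingHom.ker_eq_comap_bot]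
    exact sup_eq_left.mpr hle

end Groth.Agent.H24.EssEtale.SemilocalClosure
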