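import Groth.Agent.H24.EssEtale.Fractions
import Mathlib.RingTheory.Unramified.LocalRing
import Mathlib.FieldTheory.Separable

/-!
# Dominated subalgebras of a strict henselization

* `exists_le_of_essFiniteType`: essentially finite type subalgebras lie in a stage;
* `exists_le_of_fg`: so do subalgebras with finitely generated total ring of fractions;
* `exists_finset_of_le`: subalgebras of a stage have finitely generated total ring of fractions;
* `of_le`: a subalgebra of a stage, essentially of finite type with `m D = m_D`, is essentially étale.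
-/

universe u

open IsLocalRing
open scoped nonZeroDivisors

namespace Groth.Agent.H24.EssEtale.Sub

variable {A S : Type u} [CommRing A] [IsLocalRing A] [CommRing S] [IsLocalRing S] [Algebra A S]
  [IsLocalHom (algebraMap A S)] [Hensel.IsStrictHenselization A S] (D : Subalgebra A S)

/-- Essentially finite type subalgebras lie in a stage. -/
theorem exists_le_of_essFiniteType [IsLocalRing D] [IsLocalHom (algebraMap D S)]
    [Algebra.EssFiniteType A D] :
    ∃ (E : Subalgebra A S) (_ : IsLocalRing E), D ≤ E ∧ IsLocalHom (algebraMap E S) ∧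
      EGA4loc.IsEssentiallyEtale A E ∧ Module.FaithfullyFlat E S := by
  classical
  obtain ⟨s, hs⟩ := Algebra.EssFiniteType.cond (R := A) (S := D)
  obtain ⟨E, _, hsE, hloc, hE, hff⟩ := exists_stage (A := A) (s.image (fun d : D => (d : S)))
  refine ⟨E, inferInstance, fun x hx => ?_, hloc, hE, hff⟩
  have hadj : ∀ y ∈ Algebra.adjoin A (s : Set D), (y : S) ∈ E := by
    intro y hy
    induction hy using Algebra.adjoin_induction with
    | mem z hz => exact hsE (Finset.mem_coe.mpr (Finset.mem_image_of_mem _ (Finset.mem_coe.mp hz)))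
    | algebraMap r => exact E.algebraMap_mem r
    | add y z _ _ hy hz => exact add_mem hy hz
    | mul y z _ _ hy hz => exact mul_mem hy hz
  obtain ⟨⟨a, t⟩, ht⟩ := @IsLocalization.surj _ _ _ D _ _ hs ⟨x, hx⟩
  obtain ⟨t, ht'⟩ := t
  have htu : IsUnit ((t : D) : S) := (ht' : IsUnit (t : D)).map (algebraMap D S)
  have htE : IsUnit (⟨((t : D) : S), hadj _ t.2⟩ : E) := hloc.map_nonunit _ htu
  obtain ⟨w, hw⟩ := htE.exists_right_inv
  have hw' : ((t : D) : S) * (w : S) = 1 := congrArg Subtype.val hw
  have hat : x * ((t : D) : S) = ((a : D) : S) := congrArg Subtype.val ht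
  rw [show x = ((a : D) : S) * (w : S) by rw [← hat, mul_assoc, hw', mul_one]]
  exact mul_mem (hadj _ a.2) w.2

/-- Clearing denominators. -/
theorem exists_finset_mul_mem [IsArtinianRing (FractionRing A)]
    (hfg : ∃ t : Finset (FractionRing D), ∀ x : FractionRing D, ∃ a ∈ A⁰,
      algebraMap A (FractionRing D) a * x ∈ Algebra.adjoin A (t : Set (FractionRing D))) :
    ∃ T : Finset D, ∀ x : D, ∃ a ∈ A⁰, algebraMap A D a * x ∈ Algebra.adjoin A (T : Set D) := by
  classical
  obtain ⟨t, ht⟩ := hfg
  have hnum : ∀ z : FractionRing D, ∃ y : D, ∃ a ∈ A⁰,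
      algebraMap A (FractionRing D) a * z = algebraMap D (FractionRing D) y := by
    intro z
    obtain ⟨u, v, rfl⟩ := IsLocalization.exists_mk'_eq D⁰ z
    obtain ⟨d, a, ha, hd⟩ := Fractions.exists_mul_eq_strict A D v.2
    refine ⟨u * d, a, ha, ?_⟩
    rw [IsScalarTower.algebraMap_apply A D (FractionRing D), ← hd, map_mul, map_mul, mul_comm,
      ← mul_assoc, IsLocalization.mk'_spec]
  choose y c hc hyc using hnum
  refine ⟨t.image y, fun x => ?_⟩
  have key : ∀ z ∈ Algebra.adjoin A (t : Set (FractionRing D)), ∃ a ∈ A⁰,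
      ∃ w ∈ Algebra.adjoin A ((t.image y : Finset D) : Set D),
        algebraMap A (FractionRing D) a * z = algebraMap D (FractionRing D) w := by
    intro z hz
    induction hz using Algebra.adjoin_induction with
    | mem w hw => exact ⟨c w, hc w, y w, Algebra.subset_adjoin (Finset.mem_coe.mpr
        (Finset.mem_image_of_mem y (Finset.mem_coe.mp hw))), hyc w⟩
    | algebraMap r => exact ⟨1, one_mem _, algebraMap A D r, Subalgebra.algebraMap_mem _ r, by
        rw [map_one, one_mul, ← IsScalarTower.algebraMap_apply]⟩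
    | add u v _ _ hu hv =>
      obtain ⟨a, ha, p, hp, hap⟩ := hu
      obtain ⟨b, hb, q, hq, hbq⟩ := hv
      refine ⟨a * b, mul_mem ha hb, algebraMap A D b * p + algebraMap A D a * q,
        add_mem (mul_mem (Subalgebra.algebraMap_mem _ b) hp)
          (mul_mem (Subalgebra.algebraMap_mem _ a) hq), ?_⟩
      rw [map_add, map_mul, map_mul, map_mul, ← hap, ← hbq, ← IsScalarTower.algebraMap_apply,
        ← IsScalarTower.algebraMap_apply]
      ring
    | mul u v _ _ hu hv =>
      obtain ⟨a, ha, p, hp, hap⟩ := hu
      obtain ⟨b, hb, q, hq, hbq⟩ := hv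
      refine ⟨a * b, mul_mem ha hb, p * q, mul_mem hp hq, ?_⟩
      rw [map_mul, map_mul, ← hap, ← hbq]
      ring
  obtain ⟨a, ha, hax⟩ := ht (algebraMap D (FractionRing D) x)
  obtain ⟨b, hb, w, hw, hbw⟩ := key _ hax
  refine ⟨b * a, mul_mem hb ha, ?_⟩
  have : algebraMap A D (b * a) * x = w := by
    apply IsFractionRing.injective D (FractionRing D)
    rw [map_mul, ← IsScalarTower.algebraMap_apply, map_mul, mul_assoc, hbw]
  rwa [this]

/-- Subalgebras with finitely generated total ring of fractions lie in a stage. -/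
theorem exists_le_of_fg [IsArtinianRing (FractionRing A)]
    (hfg : ∃ t : Finset (FractionRing D), ∀ x : FractionRing D, ∃ a ∈ A⁰,
      algebraMap A (FractionRing D) a * x ∈ Algebra.adjoin A (t : Set (FractionRing D))) :
    ∃ (E : Subalgebra A S) (_ : IsLocalRing E), D ≤ E ∧ IsLocalHom (algebraMap E S) ∧
      EGA4loc.IsEssentiallyEtale A E ∧ Module.FaithfullyFlat E S := by
  classical
  obtain ⟨T, hT⟩ := exists_finset_mul_mem D hfg
  obtain ⟨E, _, hTE, hloc, hE, hff⟩ := exists_stage (A := A) (T.image (fun d : D => (d : S)))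
  refine ⟨E, inferInstance, fun x hx => ?_, hloc, hE, hff⟩
  obtain ⟨a, ha, hax⟩ := hT ⟨x, hx⟩
  have hmem : algebraMap A S a * x ∈ E := by
    have h : ∀ y ∈ Algebra.adjoin A (T : Set D), (y : S) ∈ E := by
      intro y hy
      induction hy using Algebra.adjoin_induction with
      | mem z hz => exact hTE (Finset.mem_coe.mpr (Finset.mem_image_of_mem _ (Finset.mem_coe.mp hz)))
      | algebraMap r => exact E.algebraMap_mem r
      | add y z _ _ hy hz => exact add_mem hy hz
      | mul y z _ _ hy hz => exact mul_mem hy hz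
    exact h _ hax
  have hspan : (⟨_, hmem⟩ : E) ∈ Ideal.comap (algebraMap E S)
      ((Ideal.span {algebraMap A E a}).map (algebraMap E S)) := by
    rw [Ideal.mem_comap, Ideal.map_span, Set.image_singleton]
    exact Ideal.mem_span_singleton'.mpr ⟨x, mul_comm _ _⟩
  rw [Ideal.comap_map_eq_self_of_faithfullyFlat, Ideal.mem_span_singleton'] at hspan
  obtain ⟨e, he⟩ := hspan
  have he' : (e : S) * algebraMap A S a = algebraMap A S a * x := congrArg Subtype.val he
  haveI := flat hE
  haveI : Module.Flat A S := Module.Flat.trans A E S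
  have hreg := Fractions.algebraMap_mem_nonZeroDivisors A S ha
  have : x = (e : S) := by
    refine sub_eq_zero.mp ((mul_right_mem_nonZeroDivisors_eq_zero_iff hreg).mp ?_)
    rw [sub_mul, he']; ring
  rw [this]
  exact e.2

omit [IsLocalRing S] [IsLocalHom (algebraMap A S)] [Hensel.IsStrictHenselization A S] in
theorem exists_finset_span_of_le [IsArtinianRing (FractionRing A)] {E : Subalgebra A S}
    [IsLocalRing E] (hle : D ≤ E) (hE : EGA4loc.IsEssentiallyEtale A E) :
    ∃ T : Finset D, ∀ x : D, ∃ a ∈ A⁰, algebraMap A D a * x ∈ Submodule.span A (T : Set D) := by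
  classical
  obtain ⟨_, _⟩ := Lib.Henselian.EssEtale.formallyEtale hE
  haveI := flat hE
  letI := Fractions.algebraLoc A E
  haveI := Fractions.isScalarTower_loc A E
  haveI := Fractions.finite_localization A E
  let LE := Localization (Algebra.algebraMapSubmonoid E A⁰)
  let K := FractionRing A
  let j : D →ₗ[A] LE :=
    ((IsScalarTower.toAlgHom A E LE).comp (Subalgebra.inclusion hle)).toLinearMap
  have hj : Function.Injective j := by
    refine (IsLocalization.injective (M := Algebra.algebraMapSubmonoid E A⁰) LE ?_).comp (Subalgebra.inclusion_injective hle)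
    rintro _ ⟨a, ha, rfl⟩
    exact Fractions.algebraMap_mem_nonZeroDivisors A E ha
  haveI : IsNoetherian K LE := isNoetherian_of_isNoetherianRing_of_finite K LE
  obtain ⟨s', hs', hspan⟩ := (Submodule.fg_span_iff_fg_span_finset_subset (R := K) (Set.range j)).mp
    (IsNoetherian.noetherian _)
  have hpre : ∀ z ∈ s', ∃ d : D, j d = z := fun z hz => hs' hz
  choose! pre hpre' using hpre
  refine ⟨s'.image pre, fun x => ?_⟩
  have hx : j x ∈ Submodule.span K (s' : Set LE) := hspan ▸ Submodule.subset_span ⟨x, rfl⟩
  have key : ∀ y ∈ Submodule.span K (s' : Set LE), ∃ a ∈ A⁰,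
      algebraMap A LE a * y ∈ Submodule.span A (s' : Set LE) := by
    intro y hy
    induction hy using Submodule.span_induction with
    | mem z hz => exact ⟨1, one_mem _, by rw [map_one, one_mul]; exact Submodule.subset_span hz⟩
    | zero => exact ⟨1, one_mem _, by simp⟩
    | add y z _ _ hy hz =>
      obtain ⟨a, ha, hy⟩ := hy
      obtain ⟨b, hb, hz⟩ := hz
      refine ⟨a * b, mul_mem ha hb, ?_⟩
      rw [show algebraMap A LE (a * b) * (y + z) =
        b • (algebraMap A LE a * y) + a • (algebraMap A LE b * z) by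
          rw [Algebra.smul_def, Algebra.smul_def, map_mul]; ring]
      exact add_mem (Submodule.smul_mem _ _ hy) (Submodule.smul_mem _ _ hz)
    | smul k y _ hy =>
      obtain ⟨a, ha, hy⟩ := hy
      obtain ⟨c, ⟨s, hs⟩, rfl⟩ := IsLocalization.exists_mk'_eq A⁰ k
      refine ⟨a * s, mul_mem ha hs, ?_⟩
      rw [show algebraMap A LE (a * s) * (IsLocalization.mk' K c (⟨s, hs⟩ : A⁰) • y) =
        c • (algebraMap A LE a * y) by
          rw [Algebra.smul_def, Algebra.smul_def, map_mul,
            IsScalarTower.algebraMap_apply A K LE c, IsScalarTower.algebraMap_apply A K LE s,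
            show algebraMap A K c = IsLocalization.mk' K c (⟨s, hs⟩ : A⁰) * algebraMap A K s
              from (IsLocalization.mk'_spec K c ⟨s, hs⟩).symm, map_mul]
          ring]
      exact Submodule.smul_mem _ _ hy
  obtain ⟨a, ha, hax⟩ := key _ hx
  refine ⟨a, ha, ?_⟩
  have himg : (j : D → LE) '' ((s'.image pre : Finset D) : Set D) = s' := by
    rw [Finset.coe_image, Set.image_image]
    exact (Set.image_congr fun z hz => hpre' z hz).trans (Set.image_id' _)
  rw [← himg, ← Submodule.map_span, ← Algebra.smul_def, ← map_smul] at hax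
  obtain ⟨w, hw, hwe⟩ := hax
  rw [← Algebra.smul_def, ← hj hwe]
  exact hw

/-- Subalgebras of a stage have finitely generated total ring of fractions. -/
theorem exists_finset_of_le [IsArtinianRing (FractionRing A)] {E : Subalgebra A S}
    [IsLocalRing E] (hle : D ≤ E) (hE : EGA4loc.IsEssentiallyEtale A E) :
    ∃ t : Finset (FractionRing D), ∀ x : FractionRing D, ∃ a ∈ A⁰,
      algebraMap A (FractionRing D) a * x ∈ Algebra.adjoin A (t : Set (FractionRing D)) := by
  classical
  obtain ⟨T, hT⟩ := exists_finset_span_of_le D hle hE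
  refine ⟨T.image (algebraMap D (FractionRing D)), fun x => ?_⟩
  obtain ⟨u, v, rfl⟩ := IsLocalization.exists_mk'_eq D⁰ x
  obtain ⟨d, a, ha, hd⟩ := Fractions.exists_mul_eq_strict A D v.2
  obtain ⟨b, hb, hbu⟩ := hT (u * d)
  refine ⟨b * a, mul_mem hb ha, ?_⟩
  rw [show algebraMap A (FractionRing D) (b * a) * IsLocalization.mk' (FractionRing D) u v =
    algebraMap D (FractionRing D) (algebraMap A D b * (u * d)) by
      rw [map_mul, map_mul (algebraMap D (FractionRing D)), ← IsScalarTower.algebraMap_apply,
        IsScalarTower.algebraMap_apply A D (FractionRing D) a, ← hd, map_mul, map_mul,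
        ← IsLocalization.mk'_spec (FractionRing D) u v]
      ring]
  have := Submodule.mem_map_of_mem (f := (IsScalarTower.toAlgHom A D (FractionRing D)).toLinearMap) hbu
  rw [Submodule.map_span] at this
  rw [Finset.coe_image]
  exact (Submodule.span_le (p := Subalgebra.toSubmodule
    (Algebra.adjoin A ((algebraMap D (FractionRing D)) '' (T : Set D))))).mpr
    Algebra.subset_adjoin this

omit [IsLocalHom (algebraMap A S)] [Hensel.IsStrictHenselization A S] in
/-- An unramified subalgebra of a stage, essentially of finite type, is essentially étale. -/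
theorem of_le [IsLocalRing D] [IsLocalHom (algebraMap D S)] [Algebra.EssFiniteType A D]
    {E : Subalgebra A S} [IsLocalRing E] (hle : D ≤ E) (hE : EGA4loc.IsEssentiallyEtale A E)
    (hm : (maximalIdeal A).map (algebraMap A D) = maximalIdeal D) :
    EGA4loc.IsEssentiallyEtale A D := by
  classical
  haveI := isLocalHom hE
  obtain ⟨_, _⟩ := Lib.Henselian.EssEtale.formallyEtale hE
  haveI := flat hE
  haveI : IsLocalHom (algebraMap A D) := ((local_hom_TFAE (algebraMap A D)).out 0 2).mpr hm.le
  letI : Algebra D E := (Subalgebra.inclusion hle).toRingHom.toAlgebra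
  haveI : IsScalarTower A D E := IsScalarTower.of_algebraMap_eq fun a => rfl
  haveI : IsLocalHom (algebraMap D E) := ⟨fun d hd =>
    IsLocalHom.map_nonunit (f := algebraMap D S) d (hd.map (algebraMap E S))⟩
  haveI : Algebra.IsSeparable (ResidueField A) (ResidueField D) :=
    Algebra.isSeparable_tower_bot_of_isSeparable (ResidueField A) (ResidueField D) (ResidueField E)
  haveI := Lib.Unram.LocalStandardEtale.formallyUnramified_of_isSeparable A D hm
  obtain ⟨P, q, _, Ψ, hΨ, hloc⟩ := Lib.Unram.LocalStandardEtale.exists_surjection A D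
  let f : Localization.AtPrime q →ₐ[A] E := (Subalgebra.inclusion hle).comp Ψ
  haveI : Algebra.FormallyUnramified P.Ring (Localization.AtPrime q) :=
    Algebra.FormallyUnramified.of_isLocalization q.primeCompl
  haveI : Algebra.FormallyUnramified A (Localization.AtPrime q) :=
    Algebra.FormallyUnramified.comp A P.Ring _
  haveI : Algebra.EssFiniteType A (Localization.AtPrime q) := .comp A P.Ring _
  have hf : f.toRingHom.Flat := flat_of_algHom f
  letI := f.toRingHom.toAlgebra
  haveI : Module.Flat (Localization.AtPrime q) E := hf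
  haveI : IsLocalHom (algebraMap (Localization.AtPrime q) E) := ⟨fun z hz =>
    hloc.map_nonunit z (IsLocalHom.map_nonunit (f := algebraMap D E) (Ψ z) hz)⟩
  haveI : Module.FaithfullyFlat (Localization.AtPrime q) E :=
    Module.FaithfullyFlat.of_flat_of_isLocalHom
  have hinj : Function.Injective Ψ := fun x y h =>
    FaithfulSMul.algebraMap_injective (Localization.AtPrime q) E
      (congrArg (Subalgebra.inclusion hle) h)
  refine ⟨P.Ring, inferInstance, inferInstance, q, inferInstance, inferInstance, ?_,
    ⟨(AlgEquiv.ofBijective Ψ ⟨hinj, hΨ⟩).symm⟩⟩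
  haveI := hloc
  ext a
  rw [Ideal.mem_comap, ← IsLocalization.AtPrime.to_map_mem_maximal_iff (Localization.AtPrime q) q,
    ← IsScalarTower.algebraMap_apply, mem_maximalIdeal, mem_maximalIdeal, mem_nonunits_iff,
    mem_nonunits_iff, ← isUnit_map_iff Ψ.toRingHom (algebraMap A (Localization.AtPrime q) a),
    AlgHom.toRingHom_eq_coe, RingHom.coe_coe, Ψ.commutes, isUnit_map_iff (algebraMap A D)]

end Groth.Agent.H24.EssEtale.Sub
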